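import Cfsg.Agent.H69.M11.Basic
import Mathlib.GroupTheory.Sylow
import Mathlib.GroupTheory.Perm.Cycle.Type
import Mathlib.GroupTheory.SpecificGroups.Cyclic
import Mathlib.GroupTheory.GroupAction.Quotient

/-!
Counting tools for groups acting on their Sylow subgroups.
-/

set_option autoImplicit false

namespace Cfsg.Agent.H69.M11

open Subgroup MulAction

variable {G : Type*} [Group G]

/-- A `p`-element fixing a Sylow `p`-subgroup lies in it. -/
theorem mem_sylow_of_smul_eq [Finite G] {p : ℕ} [Fact p.Prime] {g : G} {k : ℕ}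
    (hg : g ^ p ^ k = 1) (Q : Sylow p G) (h : g • Q = Q) : g ∈ (Q : Subgroup G) := by
  have hP : IsPGroup p (Subgroup.zpowers g) := by
    rintro ⟨y, n, rfl⟩
    refine ⟨k, Subtype.ext ?_⟩
    show (g ^ n) ^ (p ^ k) = 1
    rw [← zpow_natCast, ← zpow_mul, mul_comm, zpow_mul, zpow_natCast, hg, one_zpow]
  have hm : g ∈ Subgroup.zpowers g ⊓ Subgroup.normalizer ((Q : Subgroup G) : Set G) :=
    ⟨Subgroup.mem_zpowers g, Sylow.smul_eq_iff_mem_normalizer.1 h⟩
  have := (hP.inf_normalizer_sylow Q).le hm
  exact this.2

/-- An even involutory permutation moves a multiple of four points. -/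
theorem four_dvd_support {X : Type*} [Fintype X] [DecidableEq X] (σ : Equiv.Perm X)
    (h2 : σ ^ 2 = 1) (hs : Equiv.Perm.sign σ = 1) : 4 ∣ σ.support.card := by
  have hall : ∀ n ∈ σ.cycleType, n = 2 := by
    intro n hn
    have h1 := Equiv.Perm.two_le_of_mem_cycleType hn
    have h3 : n ∣ 2 := (Equiv.Perm.dvd_of_mem_cycleType hn).trans (orderOf_dvd_of_pow_eq_one h2)
    have := Nat.le_of_dvd (by norm_num) h3
    omega
  have hrep : σ.cycleType = Multiset.replicate (Multiset.card σ.cycleType) 2 :=
    Multiset.eq_replicate_card.mpr hall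
  have hsum : σ.cycleType.sum = σ.support.card := Equiv.Perm.sum_cycleType σ
  set k := Multiset.card σ.cycleType with hk
  have hcard : σ.support.card = 2 * k := by
    rw [← hsum, hrep, Multiset.sum_replicate, smul_eq_mul, mul_comm]
  rw [Equiv.Perm.sign_of_cycleType, hsum, ← hk, hcard] at hs
  rw [hcard]
  rcases Nat.even_or_odd k with h | h
  · obtain ⟨r, hr⟩ := h
    exact ⟨r, by omega⟩
  · rw [((even_two_mul k).add_odd h).neg_one_pow] at hs
    exact absurd hs (by decide)

/-- A subgroup acting freely on an invariant set has order dividing its size. -/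
theorem dvd_card_of_free {X : Type*} [MulAction G X] [Finite X] (H : Subgroup G) (S : Set X)
    (hinv : ∀ h ∈ H, ∀ a ∈ S, h • a ∈ S) (hfree : ∀ h ∈ H, ∀ a ∈ S, h • a = a → h = 1) :
    Nat.card H ∣ Nat.card S := by
  letI : MulAction H S :=
    { smul := fun h a => ⟨(h : G) • (a : X), hinv h h.2 a a.2⟩
      one_smul := fun a => Subtype.ext (one_smul G (a : X))
      mul_smul := fun g h a => Subtype.ext (mul_smul (g : G) (h : G) (a : X)) }
  have hst : ∀ a : S, MulAction.stabilizer H a = ⊥ := fun a => by
    rw [Subgroup.eq_bot_iff_forall]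
    intro h hh
    exact Subtype.ext (hfree h h.2 a a.2 (congrArg Subtype.val hh))
  rw [Nat.card_congr (MulAction.selfEquivOrbitsQuotientProd hst), Nat.card_prod]
  exact dvd_mul_left _ _

/-- The index of the centralizer of a subgroup of prime order in its normalizer divides `q - 1`. -/
theorem card_normalizer_dvd [Finite G] {q : ℕ} [Fact q.Prime] (A : Subgroup G)
    (hA : Nat.card A = q) :
    Nat.card (Subgroup.normalizer (A : Set G)) ∣
      Nat.card (Subgroup.centralizer (A : Set G)) * (q - 1) := by
  haveI : IsCyclic A := isCyclic_of_prime_card hA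
  have key := Subgroup.card_dvd_of_injective _
    (QuotientGroup.kerLift_injective A.normalizerMonoidHom)
  rw [Subgroup.normalizerMonoidHom_ker, ← Subgroup.index, ← Subgroup.relIndex,
    IsCyclic.card_mulAut, hA, Nat.totient_prime Fact.out] at key
  have hle : Subgroup.centralizer (A : Set G) ≤ Subgroup.normalizer (A : Set G) :=
    Subgroup.centralizer_le_normalizer _
  have := Subgroup.relIndex_mul_relIndex ⊥ _ _ bot_le hle
  rw [Subgroup.relIndex_bot_left, Subgroup.relIndex_bot_left] at this
  rw [← this]
  exact Nat.mul_dvd_mul_left _ key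

theorem centralizer_eq_of_zpowers {A : Subgroup G} {x : G} (h : Subgroup.zpowers x = A) :
    Subgroup.centralizer (A : Set G) = Subgroup.centralizer ({x} : Set G) := by
  rw [← h, Subgroup.zpowers_eq_closure, Subgroup.centralizer_closure]

/-- A subgroup of prime order is generated by each of its nontrivial elements. -/
theorem zpowers_eq_of_prime [Finite G] {q : ℕ} [Fact q.Prime] {A : Subgroup G}
    (hA : Nat.card A = q) {x : G} (hx : x ∈ A) (hx1 : x ≠ 1) : Subgroup.zpowers x = A := by
  refine Subgroup.eq_of_le_of_card_ge (Subgroup.zpowers_le.2 hx) (le_of_eq ?_)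
  rw [hA, Nat.card_zpowers]
  exact (((Nat.dvd_prime Fact.out).1 (hA ▸ Subgroup.orderOf_dvd_natCard A hx)).resolve_left
    (fun h => hx1 (orderOf_eq_one_iff.1 h))).symm

end Cfsg.Agent.H69.M11
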