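import Cfsg.Agent.H69.M11.Tools

/-!
Generic counting lemmas used for groups of order 7920.
-/

set_option autoImplicit false

namespace Cfsg.Agent.H69.M11

open Subgroup

variable {G : Type*} [Group G] [Finite G]

theorem eq_or_eq_inv_of_card_three {A : Subgroup G} (hA : Nat.card A = 3) {a b : G} (ha : a ∈ A)
    (ha1 : a ≠ 1) (hb : b ∈ A) (hb1 : b ≠ 1) : b = a ∨ b = a⁻¹ := by
  have hz := zpowers_eq_of_prime hA ha ha1
  rw [← hz, ← mem_powers_iff_mem_zpowers] at hb
  obtain ⟨k, rfl⟩ := hb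
  have ho : orderOf a = 3 := by rw [← Nat.card_zpowers, hz, hA]
  simp only at hb1 ⊢
  rw [← pow_mod_orderOf, ho] at hb1 ⊢
  have : k % 3 < 3 := Nat.mod_lt _ (by norm_num)
  have h2 : a ^ 2 = a⁻¹ := eq_inv_of_mul_eq_one_left (by
    have h3 := pow_orderOf_eq_one a
    rw [ho] at h3
    rw [← pow_succ]; exact h3)
  interval_cases h : k % 3
  · simp at hb1
  · simp
  · exact Or.inr h2

/-- An element normalizing a subgroup of order 3 fixes or inverts its generator. -/
theorem conj_mem_pair {x n : G} (hx : orderOf x = 3)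
    (hn : n ∈ Subgroup.normalizer (Subgroup.zpowers x : Set G)) :
    n * x * n⁻¹ = x ∨ n * x * n⁻¹ = x⁻¹ := by
  have hA : Nat.card (Subgroup.zpowers x) = 3 := by rw [Nat.card_zpowers, hx]
  have hx1 : x ≠ 1 := fun h => by rw [h, orderOf_one] at hx; norm_num at hx
  refine eq_or_eq_inv_of_card_three hA (Subgroup.mem_zpowers x) hx1
    ((Subgroup.mem_normalizer_iff.1 hn x).1 (Subgroup.mem_zpowers x)) fun h => hx1 ?_
  rwa [conj_eq_one_iff] at h

theorem mem_normalizer_zpowers {x n : G} (h : n * x * n⁻¹ = x ∨ n * x * n⁻¹ = x⁻¹) :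
    n ∈ Subgroup.normalizer (Subgroup.zpowers x : Set G) := by
  have hmap : (Subgroup.zpowers x).map (MulAut.conj n).toMonoidHom = Subgroup.zpowers x := by
    rw [MonoidHom.map_zpowers]
    show Subgroup.zpowers (n * x * n⁻¹) = _
    rcases h with h | h <;> rw [h]
    exact Subgroup.zpowers_inv
  refine Subgroup.mem_normalizer_iff.2 fun y => ⟨fun hy => ?_, fun hy => ?_⟩
  · rw [← hmap]
    exact ⟨y, hy, rfl⟩
  · rw [← hmap] at hy
    obtain ⟨z, hz, hzy⟩ := hy
    have : z = y := by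
      apply (MulAut.conj n).injective
      exact hzy
    rwa [← this]

/-- If some element of `L` inverts `x`, it doubles the centralizer of `x` in `L`. -/
theorem card_inverted {x w : G} (hx : orderOf x = 3) {L : Subgroup G} (hw : w ∈ L)
    (hwx : w * x * w⁻¹ = x⁻¹) :
    Nat.card ↥(L ⊓ Subgroup.normalizer (Subgroup.zpowers x : Set G)) =
      2 * Nat.card ↥(L ⊓ Subgroup.centralizer ({x} : Set G)) := by
  set N := L ⊓ Subgroup.normalizer (Subgroup.zpowers x : Set G)
  set C := L ⊓ Subgroup.centralizer ({x} : Set G)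
  have hCiff : ∀ c, c ∈ C ↔ c ∈ L ∧ c * x * c⁻¹ = x := fun c => by
    rw [Subgroup.mem_inf, Subgroup.mem_centralizer_singleton_iff, mul_inv_eq_iff_eq_mul]
  have hCN : C ≤ N := fun c hc => ⟨hc.1, mem_normalizer_zpowers (Or.inl ((hCiff c).1 hc).2)⟩
  have hne : x⁻¹ ≠ x := fun h => by
    have h2 : x ^ 2 = 1 := by rw [pow_two, ← mul_inv_cancel x, h]
    have := orderOf_dvd_of_pow_eq_one h2
    rw [hx] at this; norm_num at this
  have hwN : w ∈ N := ⟨hw, mem_normalizer_zpowers (Or.inr hwx)⟩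
  have hidx : (C.subgroupOf N).index = 2 := by
    refine Subgroup.index_eq_two_iff.2 ⟨⟨w, hwN⟩, fun b => ?_⟩
    simp only [Subgroup.mem_subgroupOf, Subgroup.coe_mul, hCiff]
    have hb := conj_mem_pair hx b.2.2
    have e : (b : G) * w * x * ((b : G) * w)⁻¹ = ((b : G) * x * (b : G)⁻¹)⁻¹ := by
      rw [show (b : G) * w * x * ((b : G) * w)⁻¹ = (b : G) * (w * x * w⁻¹) * (b : G)⁻¹ by group, hwx]
      group
    rcases hb with h | h
    · refine Or.inr ⟨⟨b.2.1, h⟩, fun h' => hne ?_⟩
      rw [e, h] at h'; exact h'.2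
    · refine Or.inl ⟨⟨mul_mem b.2.1 hw, by rw [e, h, inv_inv]⟩, fun h' => hne ?_⟩
      rw [← h, h'.2]
  have := (C.subgroupOf N).index_mul_card
  rw [hidx, Nat.card_congr (Subgroup.subgroupOfEquivOfLe hCN).toEquiv] at this
  exact this.symm

/-- The conjugates in `L` of a Sylow subgroup of prime order are 1 mod `q` many. -/
theorem index_normalizer_mod {q : ℕ} [Fact q.Prime] {A L : Subgroup G} (hA : Nat.card A = q)
    (hAL : A ≤ L) (hq : ¬ q ^ 2 ∣ Nat.card L) :
    ∃ k, k * Nat.card ↥(L ⊓ Subgroup.normalizer (A : Set G)) = Nat.card L ∧ k % q = 1 := by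
  have hc : Nat.card (A.subgroupOf L) = q := by
    rw [Nat.card_congr (Subgroup.subgroupOfEquivOfLe hAL).toEquiv, hA]
  have hdvd : q ∣ Nat.card L := hA ▸ Subgroup.card_dvd_of_le hAL
  have hfac : (Nat.card L).factorization q = 1 := by
    have h1 := (Fact.out : q.Prime).factorization_pos_of_dvd Nat.card_pos.ne' hdvd
    by_contra h
    exact hq ((Nat.pow_dvd_pow q (by omega)).trans (Nat.ordProj_dvd _ q))
  let S : Sylow q L := Sylow.ofCard (A.subgroupOf L) (by rw [hc, hfac, pow_one])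
  refine ⟨Nat.card (Sylow q L), ?_, ?_⟩
  · have he : Subgroup.normalizer ((S : Subgroup L) : Set L) =
        (Subgroup.normalizer (A : Set G)).subgroupOf L := (Subgroup.subgroupOf_normalizer_eq hAL).symm
    have hidx : Nat.card (Sylow q L) = ((Subgroup.normalizer (A : Set G)).subgroupOf L).index := by
      rw [← he]; exact S.card_eq_index_normalizer
    rw [hidx, ← Nat.card_congr (Subgroup.subgroupOfEquivOfLe
      (inf_le_left : L ⊓ Subgroup.normalizer (A : Set G) ≤ L)).toEquiv, Subgroup.inf_subgroupOf_left]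
    exact Subgroup.index_mul_card _
  · have h := card_sylow_modEq_one q L
    rwa [Nat.ModEq, Nat.mod_eq_of_lt (Fact.out : q.Prime).one_lt] at h

/-- If a subgroup of order 3 of a group `L` of order dividing 48 has a normalizer of index at most
two, it is the only one. -/
theorem unique_three {x : G} (hx : orderOf x = 3) {L : Subgroup G} (hxL : x ∈ L)
    (h48 : Nat.card L ∣ 48)
    (h24 : 24 ∣ Nat.card ↥(L ⊓ Subgroup.normalizer (Subgroup.zpowers x : Set G))) :
    L ≤ Subgroup.normalizer (Subgroup.zpowers x : Set G) ∧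
      ∀ g ∈ L, orderOf g = 3 → g ∈ Subgroup.zpowers x := by
  set N := L ⊓ Subgroup.normalizer (Subgroup.zpowers x : Set G) with hN
  have hA : Nat.card (Subgroup.zpowers x) = 3 := by rw [Nat.card_zpowers, hx]
  have h9 : ¬ 3 ^ 2 ∣ Nat.card L := fun h => absurd (h.trans h48) (by norm_num)
  obtain ⟨k, hk, hk3⟩ := index_normalizer_mod hA (Subgroup.zpowers_le.2 hxL) h9
  have hle : L ≤ Subgroup.normalizer (Subgroup.zpowers x : Set G) := by
    obtain ⟨m, hm⟩ := h24
    obtain ⟨j, hj⟩ := h48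
    rw [← hk, ← hN, hm] at hj
    have : k * (m * j) = 2 := by nlinarith
    have hk2 : k ≤ 2 := Nat.le_of_dvd (by norm_num) ⟨m * j, this.symm⟩
    have hk1 : k = 1 := by omega
    rw [hk1, one_mul] at hk
    exact inf_eq_left.1 (Subgroup.eq_of_le_of_card_ge inf_le_left hk.ge)
  refine ⟨hle, fun g hg hg3 => ?_⟩
  by_contra hgx
  have hgN := hle hg
  haveI : Fact (Nat.Prime 3) := ⟨Nat.prime_three⟩
  have hp1 : IsPGroup 3 (Subgroup.zpowers g) := IsPGroup.of_card (n := 1) (by
    rw [Nat.card_zpowers, hg3, pow_one])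
  have hp2 : IsPGroup 3 (Subgroup.zpowers x) := IsPGroup.of_card (n := 1) (by rw [hA, pow_one])
  have hp := IsPGroup.to_sup_of_normal_right' hp1 hp2 (Subgroup.zpowers_le.2 hgN)
  obtain ⟨i, hi⟩ := hp.exists_card_eq
  have hd : 3 ^ i ∣ 48 := hi ▸ (Subgroup.card_dvd_of_le
    (sup_le (Subgroup.zpowers_le.2 hg) (Subgroup.zpowers_le.2 hxL))).trans h48
  have hi1 : i ≤ 1 := by
    by_contra h
    exact absurd ((Nat.pow_dvd_pow 3 (by omega : 2 ≤ i)).trans hd) (by norm_num)
  apply hgx
  have he : Subgroup.zpowers x = Subgroup.zpowers g ⊔ Subgroup.zpowers x :=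
    Subgroup.eq_of_le_of_card_ge le_sup_right (by
      rw [hi, hA]
      exact le_of_le_of_eq (Nat.pow_le_pow_right (by norm_num) hi1) (by norm_num))
  rw [he]
  exact Subgroup.mem_sup_left (Subgroup.mem_zpowers g)

/-- Elements of prime order `p` when the Sylow `p`-subgroups have order `p`. -/
theorem card_orderOf_prime {p : ℕ} [hp : Fact p.Prime]
    (hc : ∀ Q : Sylow p G, Nat.card (Q : Subgroup G) = p) :
    Nat.card {g : G // orderOf g = p} = Nat.card (Sylow p G) * (p - 1) := by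
  classical
  have hmap : ∀ (Q : Sylow p G) (a : {a : (Q : Subgroup G) // a ≠ 1}), orderOf ((a.1 : G)) = p := by
    intro Q a
    have h1 := Subgroup.orderOf_dvd_natCard (Q : Subgroup G) a.1.2
    rw [hc Q] at h1
    exact ((Nat.dvd_prime hp.out).1 h1).resolve_left fun h => a.2 (Subtype.ext (orderOf_eq_one_iff.1 h))
  let e : (Σ Q : Sylow p G, {a : (Q : Subgroup G) // a ≠ 1}) → {g : G // orderOf g = p} :=
    fun z => ⟨z.2.1, hmap z.1 z.2⟩
  have hz : ∀ (Q : Sylow p G) (a : {a : (Q : Subgroup G) // a ≠ 1}),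
      Subgroup.zpowers (a.1 : G) = Q := fun Q a =>
    zpowers_eq_of_prime (hc Q) a.1.2 (fun h => a.2 (Subtype.ext h))
  have hbij : Function.Bijective e := by
    constructor
    · rintro ⟨Q, a⟩ ⟨R, b⟩ h
      have h' : (a.1 : G) = b.1 := congrArg Subtype.val h
      have hQR : Q = R := Sylow.ext (by rw [← hz Q a, ← hz R b, h'])
      subst hQR
      exact Sigma.ext rfl (heq_of_eq (Subtype.ext (Subtype.ext h')))
    · rintro ⟨g, hg⟩
      have hp' : IsPGroup p (Subgroup.zpowers g) := IsPGroup.of_card (n := 1) (by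
        rw [Nat.card_zpowers, hg, pow_one])
      obtain ⟨Q, hQ⟩ := hp'.exists_le_sylow
      exact ⟨⟨Q, ⟨⟨g, hQ (Subgroup.mem_zpowers g)⟩, fun h => by
        rw [show g = 1 from congrArg Subtype.val h, orderOf_one] at hg
        exact hp.out.one_lt.ne hg⟩⟩, rfl⟩
  rw [← Nat.card_congr (Equiv.ofBijective e hbij)]
  haveI : Fintype (Sylow p G) := Fintype.ofFinite _
  rw [Nat.card_sigma, Finset.sum_const_nat (m := p - 1) fun Q _ => ?_,
    Finset.card_univ, ← Nat.card_eq_fintype_card]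
  haveI : Fintype (Q : Subgroup G) := Fintype.ofFinite _
  rw [Nat.card_eq_fintype_card, Fintype.card_subtype_compl, Fintype.card_subtype_eq,
    ← Nat.card_eq_fintype_card, hc Q]

/-- Elements whose 3-part is conjugate to `x`. -/
theorem card_class_mul_le {x : G} (hx : x ^ 9 = 1) :
    Nat.card {a : G // IsConj x a} * Nat.card {b : G // Commute b x ∧ b ^ 16 = 1} ≤
      Nat.card {g : G // g ^ 144 = 1 ∧ IsConj x (g ^ 64)} := by
  classical
  rw [← Nat.card_prod]
  have hc : ∀ a : {a : G // IsConj x a}, ∃ c : G, c * x * c⁻¹ = a.1 := fun a => isConj_iff.1 a.2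
  choose c hc using hc
  have hpow : ∀ (b : G), Commute b x → b ^ 16 = 1 → (x * b) ^ 64 = x ∧ (x * b) ^ 144 = 1 := by
    intro b hb h16
    constructor
    · rw [hb.symm.mul_pow, show 64 = 9 * 7 + 1 from rfl, pow_succ, pow_mul, hx, one_pow, one_mul,
        show 9 * 7 + 1 = 16 * 4 from rfl, pow_mul, h16, one_pow, mul_one]
    · rw [hb.symm.mul_pow, show 144 = 9 * 16 from rfl, pow_mul, hx, one_pow, one_mul,
        show 9 * 16 = 16 * 9 from rfl, pow_mul, h16, one_pow]
  let e : {a : G // IsConj x a} × {b : G // Commute b x ∧ b ^ 16 = 1} →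
      {g : G // g ^ 144 = 1 ∧ IsConj x (g ^ 64)} := fun z =>
    ⟨c z.1 * (x * z.2.1) * (c z.1)⁻¹, by
      rw [conj_pow, conj_pow, (hpow _ z.2.2.1 z.2.2.2).1, (hpow _ z.2.2.1 z.2.2.2).2]
      exact ⟨by group, isConj_iff.2 ⟨_, rfl⟩⟩⟩
  refine Nat.card_le_card_of_injective e fun z z' h => ?_
  have h' : c z.1 * (x * z.2.1) * (c z.1)⁻¹ = c z'.1 * (x * z'.2.1) * (c z'.1)⁻¹ := congrArg Subtype.val h
  have h64 := congrArg (· ^ 64) h'
  simp only [conj_pow, (hpow _ z.2.2.1 z.2.2.2).1, (hpow _ z'.2.2.1 z'.2.2.2).1, hc] at h64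
  have h1 : z.1 = z'.1 := Subtype.ext h64
  rw [h1] at h'
  exact Prod.ext h1 (Subtype.ext (mul_left_cancel (mul_left_cancel (mul_right_cancel h'))))

/-- If every element of order 5 commutes with an involution, there are as many of order 10. -/
theorem card_five_le_card_ten (h : ∀ t : G, orderOf t = 5 → ∃ s, orderOf s = 2 ∧ Commute t s) :
    Nat.card {t : G // orderOf t = 5} ≤ Nat.card {g : G // orderOf g = 10} := by
  choose s hs hts using h
  refine Nat.card_le_card_of_injective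
    (fun t => ⟨t.1 * s t.1 t.2, ?_⟩) fun t t' he => Subtype.ext ?_
  · rw [(hts t.1 t.2).orderOf_mul_eq_mul_orderOf_of_coprime (by rw [t.2, hs]; norm_num), t.2, hs]
  · have key : ∀ (u : G) (hu : orderOf u = 5), (u * s u hu) ^ 6 = u := fun u hu => by
      rw [(hts u hu).mul_pow, show 6 = 5 + 1 from rfl, pow_succ, ← hu, pow_orderOf_eq_one, one_mul,
        show orderOf u + 1 = 2 * 3 by rw [hu], pow_mul, ← hs u hu, pow_orderOf_eq_one, one_pow,
        mul_one]
    have h6 := congrArg (fun g : {g : G // orderOf g = 10} => g.1 ^ 6) he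
    simp only [key] at h6
    exact h6

end Cfsg.Agent.H69.M11
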