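import Mathlib.GroupTheory.Perm.Sign
import Mathlib.GroupTheory.Perm.Fin

/-!
The explicit permutations of eleven points used to identify a simple group of order 7920.
-/

set_option autoImplicit false

namespace Cfsg.Agent.H69.M11.Eleven

/-- `z ↦ z + 1`. -/
def shift : Equiv.Perm (Fin 11) :=
  ⟨fun z => z + 1, fun z => z - 1, fun z => by simp, fun z => by simp⟩

/-- `z ↦ 3 z`. -/
def triple : Equiv.Perm (Fin 11) :=
  ⟨fun z => 3 * z, fun z => 4 * z, by decide +kernel, by decide +kernel⟩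

/-- `z ↦ 8 z`, exchanging the two good candidates. -/
def flip : Equiv.Perm (Fin 11) :=
  ⟨fun z => 8 * z, fun z => 7 * z, by decide +kernel, by decide +kernel⟩

/-- The table of a candidate fixed by `σ 1 = a`, `σ 2 = b`. -/
def table (a b : Fin 11) : Fin 11 → Fin 11 :=
  ![0, a, b, 5 * a, 9 * a, 4 * a, 5 * b, 3 * b, 9 * b, 3 * a, 4 * b]

def u0 : Equiv.Perm (Fin 11) :=
  ⟨![0, 1, 2, 5, 9, 4, 10, 6, 7, 3, 8], ![0, 1, 2, 9, 5, 3, 7, 8, 10, 4, 6],
    by decide +kernel, by decide +kernel⟩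

def u1 : Equiv.Perm (Fin 11) :=
  ⟨![0, 1, 6, 5, 9, 4, 8, 7, 10, 3, 2], ![0, 1, 10, 9, 5, 3, 2, 7, 6, 4, 8],
    by decide +kernel, by decide +kernel⟩

def u2 : Equiv.Perm (Fin 11) :=
  ⟨![0, 1, 7, 5, 9, 4, 2, 10, 8, 3, 6], ![0, 1, 6, 9, 5, 3, 10, 2, 8, 4, 7],
    by decide +kernel, by decide +kernel⟩

def u3 : Equiv.Perm (Fin 11) :=
  ⟨![0, 1, 10, 5, 9, 4, 6, 8, 2, 3, 7], ![0, 1, 8, 9, 5, 3, 6, 10, 7, 4, 2],
    by decide +kernel, by decide +kernel⟩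

def u4 : Equiv.Perm (Fin 11) :=
  ⟨![0, 1, 8, 5, 9, 4, 7, 2, 6, 3, 10], ![0, 1, 7, 9, 5, 3, 8, 6, 2, 4, 10],
    by decide +kernel, by decide +kernel⟩

def v0 : Equiv.Perm (Fin 11) :=
  ⟨![0, 2, 1, 10, 7, 8, 5, 3, 9, 6, 4], ![0, 2, 1, 7, 10, 6, 9, 4, 5, 8, 3],
    by decide +kernel, by decide +kernel⟩

def v1 : Equiv.Perm (Fin 11) :=
  ⟨![0, 2, 3, 10, 7, 8, 4, 9, 5, 6, 1], ![0, 10, 1, 2, 6, 8, 9, 4, 5, 7, 3],
    by decide +kernel, by decide +kernel⟩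

def v2 : Equiv.Perm (Fin 11) :=
  ⟨![0, 2, 9, 10, 7, 8, 1, 5, 4, 6, 3], ![0, 6, 1, 10, 8, 7, 9, 4, 5, 2, 3],
    by decide +kernel, by decide +kernel⟩

def v3 : Equiv.Perm (Fin 11) :=
  ⟨![0, 2, 5, 10, 7, 8, 3, 4, 1, 6, 9], ![0, 8, 1, 6, 7, 2, 9, 4, 5, 10, 3],
    by decide +kernel, by decide +kernel⟩

def v4 : Equiv.Perm (Fin 11) :=
  ⟨![0, 2, 4, 10, 7, 8, 9, 1, 3, 6, 5], ![0, 7, 1, 8, 2, 10, 9, 4, 5, 6, 3],
    by decide +kernel, by decide +kernel⟩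

def candU : Fin 5 → Equiv.Perm (Fin 11) := ![u0, u1, u2, u3, u4]

def candV : Fin 5 → Equiv.Perm (Fin 11) := ![v0, v1, v2, v3, v4]

theorem candidates : ∀ a b : Fin 11, (Function.Injective (table a b)) →
    ∃ j : Fin 5, ∃ c : Fin 5, (∀ z, (triple ^ (j : ℕ)) (table a b z) = candU c z) ∨
      (∀ z, (triple ^ (j : ℕ)) (table a b z) = candV c z) := by decide +kernel

theorem sign_candV : ∀ c : Fin 5, Equiv.Perm.sign (candV c) = -1 := by decide +kernel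

theorem sign_triple : Equiv.Perm.sign triple = 1 := by decide +kernel

theorem triple_fixed : ∀ z, (triple ^ 3) z = z → z = 0 := by decide +kernel

theorem triple_three : ∀ z, (triple ^ 3) z = 5 * z := by decide +kernel

theorem affine_shift : ∀ b z : Fin 11, (shift ^ ((-b : Fin 11) : ℕ)) (3 * z + b) = triple z := by
  decide +kernel

theorem bad0 : (shift * shift * u0) ^ 21 = 1 ∧ (shift * shift * u0) ^ 3 ≠ 1 := by decide +kernel

theorem bad3 : (shift * u3) ^ 21 = 1 ∧ (shift * u3) ^ 3 ≠ 1 := by decide +kernel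

theorem bad4 : (shift * shift * u4) ^ 21 = 1 ∧ (shift * shift * u4) ^ 3 ≠ 1 := by decide +kernel

theorem flip_u1 : flip * u1 * flip⁻¹ = u2 := by decide +kernel

theorem flip_shift : flip * shift * flip⁻¹ = shift ^ 8 := by decide +kernel

theorem flip_triple : flip * triple * flip⁻¹ = triple := by decide +kernel

theorem u1_facts : u1 ^ 4 = 1 ∧ u1 ^ 2 ≠ 1 ∧ u1 * triple * u1⁻¹ = triple ^ 3 := by decide +kernel

theorem shift_facts : shift ^ 11 = 1 ∧ shift ≠ 1 := by decide +kernel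

theorem triple_facts : triple ^ 5 = 1 ∧ triple ≠ 1 := by decide +kernel

theorem finRotate_eq : finRotate 11 = shift := by decide +kernel

theorem eq_table {σ : Equiv.Perm (Fin 11)} (h : σ * triple = triple ^ 3 * σ) :
    ∀ z, σ z = table (σ 1) (σ 2) z := by
  have h' : ∀ z, σ (3 * z) = 5 * σ z := fun z => by
    have := Equiv.Perm.ext_iff.1 h z
    rw [Equiv.Perm.mul_apply, Equiv.Perm.mul_apply, triple_three] at this
    exact this
  have h0 : σ 0 = 0 := by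
    have e : σ 0 = 5 * σ 0 := by simpa using h' 0
    have key : ∀ y : Fin 11, y = 5 * y → y = 0 := by decide +kernel
    exact key _ e
  have key : ∀ a b : Fin 11, 5 * (5 * a) = 3 * a ∧ 5 * (5 * (5 * a)) = 4 * a ∧
      5 * (5 * (5 * (5 * a))) = 9 * a ∧ 5 * (5 * b) = 3 * b ∧ 5 * (5 * (5 * b)) = 4 * b ∧
      5 * (5 * (5 * (5 * b))) = 9 * b := by decide +kernel
  obtain ⟨k1, k2, k3, k4, k5, k6⟩ := key (σ 1) (σ 2)
  have e3 : σ 3 = 5 * σ 1 := h' 1
  have e9 : σ 9 = 3 * σ 1 := (h' 3).trans (by rw [e3, k1])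
  have e5 : σ 5 = 4 * σ 1 := (h' 9).trans (by rw [e9, ← k1, k2])
  have e4 : σ 4 = 9 * σ 1 := (h' 5).trans (by rw [e5, ← k2, k3])
  have e6 : σ 6 = 5 * σ 2 := h' 2
  have e7 : σ 7 = 3 * σ 2 := (h' 6).trans (by rw [e6, k4])
  have e10 : σ 10 = 4 * σ 2 := (h' 7).trans (by rw [e7, ← k4, k5])
  have e8 : σ 8 = 9 * σ 2 := (h' 10).trans (by rw [e10, ← k5, k6])
  intro z
  fin_cases z
  · exact h0
  · rfl
  · rfl
  · exact e3
  · exact e4
  · exact e5
  · exact e6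
  · exact e7
  · exact e8
  · exact e9
  · exact e10

end Cfsg.Agent.H69.M11.Eleven
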