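import Cfsg.Agent.H69.M11.Graph
import Cfsg.Agent.H69.M11.Eleven
import Mathlib.GroupTheory.Perm.Fin

/-!
There is only one simple group of order 7920.
-/

set_option autoImplicit false

namespace Cfsg.Agent.H69.M11

open Subgroup MulAction

/-- The standard copy: generated by `z ↦ z + 1`, `z ↦ 3 z` and `u1`. -/
def standard : Subgroup (Equiv.Perm (Fin 11)) :=
  Subgroup.closure {Eleven.shift, Eleven.triple, Eleven.u1}

variable {G : Type*} [Group G] [Finite G]

theorem card_centralizer_five' (hG : Cfsg.IsM11 G) {t : G} (ht : orderOf t = 5) :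
    Nat.card (Subgroup.centralizer ({t} : Set G)) = 5 := by
  rcases card_centralizer_five hG ht with h | h
  · exact h
  exfalso
  haveI : Fact (Nat.Prime 2) := ⟨Nat.prime_two⟩
  obtain ⟨s, hs⟩ := exists_prime_orderOf_dvd_card' (G := Subgroup.centralizer ({t} : Set G)) 2
    (by rw [h]; norm_num)
  have hs' : orderOf (s : G) = 2 := by rw [Subgroup.orderOf_coe, hs]
  have hmem : t ∈ Subgroup.centralizer ({(s : G)} : Set G) :=
    Subgroup.mem_centralizer_singleton_iff.2 (Subgroup.mem_centralizer_singleton_iff.1 s.2).symm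
  have := Subgroup.orderOf_dvd_natCard _ hmem
  rw [card_centralizer_involution hG hs', ht] at this
  norm_num at this

/-- A simple group of order 7920 embeds in the permutations of 11 points. -/
theorem exists_hom_eleven (hG : Cfsg.IsM11 G) :
    ∃ ρ : G →* Equiv.Perm (Fin 11), Function.Injective ρ := by
  classical
  haveI := hG.1
  obtain ⟨H, hH⟩ := exists_subgroup_720 hG
  have hidx : H.index = 11 := by
    have := H.index_mul_card
    rw [hH, hG.2] at this
    omega
  haveI : Fintype (G ⧸ H) := Fintype.ofFinite _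
  have e : G ⧸ H ≃ Fin 11 := Fintype.equivFinOfCardEq (by
    rw [← Nat.card_eq_fintype_card, ← Subgroup.index_eq_card, hidx])
  set ρ := (Equiv.permCongrHom e).toMonoidHom.comp (MulAction.toPermHom G (G ⧸ H)) with hρ
  obtain ⟨g, hg⟩ : ∃ g : G, g ∉ H := by
    by_contra hcon
    push Not at hcon
    rw [show H = ⊤ from eq_top_iff.2 fun g _ => hcon g, Subgroup.index_top] at hidx
    norm_num at hidx
  refine ⟨ρ, injective_of_ne_one ρ (g := g) fun h => hg ?_⟩
  rw [hρ, MonoidHom.comp_apply, MulEquiv.coe_toMonoidHom, MulEquiv.map_eq_one_iff] at h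
  have h1 := Equiv.Perm.ext_iff.1 h ((1 : G) : G ⧸ H)
  have h2 : ((g * 1 : G) : G ⧸ H) = ((1 : G) : G ⧸ H) := h1
  rw [mul_one, QuotientGroup.eq, mul_one] at h2
  simpa using inv_mem h2

/-- An injective map to permutations of 11 points hitting the shift and the multiplication by 3. -/
theorem exists_hom_shift_triple (hG : Cfsg.IsM11 G) :
    ∃ (ρ : G →* Equiv.Perm (Fin 11)) (x t : G), Function.Injective ρ ∧ ρ x = Eleven.shift ∧
      ρ t = Eleven.triple := by
  classical
  obtain ⟨ρ₀, hρ₀⟩ := exists_hom_eleven hG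
  haveI : Fact (Nat.Prime 11) := ⟨by norm_num⟩
  haveI : Fact (Nat.Prime 5) := ⟨Nat.prime_five⟩
  obtain ⟨x, hx⟩ := exists_prime_orderOf_dvd_card' (G := G) 11 (by rw [hG.2]; norm_num)
  have hx' : orderOf (ρ₀ x) = 11 := by rw [orderOf_injective ρ₀ hρ₀, hx]
  have hcyc : (ρ₀ x).IsCycle :=
    Equiv.Perm.isCycle_of_prime_order'' (by rw [Fintype.card_fin]; norm_num)
      (by rw [hx', Fintype.card_fin])
  have hsupp : (ρ₀ x).support.card = (Eleven.shift).support.card := by
    rw [← hcyc.orderOf, hx', ← Eleven.finRotate_eq, support_finRotate, Finset.card_univ,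
      Fintype.card_fin]
  obtain ⟨c, hc⟩ := isConj_iff.1 (hcyc.isConj
    (Eleven.finRotate_eq ▸ isCycle_finRotate : Eleven.shift.IsCycle) hsupp)
  set ρ := (MulAut.conj c).toMonoidHom.comp ρ₀ with hρ
  have hinj : Function.Injective ρ := (MulAut.conj c).injective.comp hρ₀
  have hρx : ρ x = Eleven.shift := hc
  -- an element of order 5 normalizing `⟨x⟩`
  obtain ⟨Q, hQ⟩ := (IsPGroup.of_card (n := 1) (p := 11) (by rw [Nat.card_zpowers, hx, pow_one]) :
    IsPGroup 11 (Subgroup.zpowers x)).exists_le_sylow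
  have hQe : Subgroup.zpowers x = Q :=
    Subgroup.eq_of_le_of_card_ge hQ (by rw [card_eleven hG, Nat.card_zpowers, hx])
  obtain ⟨t₁, ht₁⟩ := exists_prime_orderOf_dvd_card'
    (G := Subgroup.normalizer ((Q : Subgroup G) : Set G)) 5 (by rw [card_normalizer_eleven hG]; norm_num)
  set s : G := (t₁ : G) with hsdef
  have hso : orderOf s = 5 := by rw [hsdef, Subgroup.orderOf_coe, ht₁]
  have hsx : s * x * s⁻¹ ∈ Subgroup.zpowers x := by
    rw [hQe]; exact (Subgroup.mem_normalizer_iff.1 t₁.2 x).1 (hQe ▸ Subgroup.mem_zpowers x)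
  obtain ⟨k, hk⟩ := (mem_powers_iff_mem_zpowers (x := x)).2 hsx
  simp only at hk
  rw [← pow_mod_orderOf, hx] at hk
  have hk11 : k % 11 < 11 := Nat.mod_lt _ (by norm_num)
  generalize k % 11 = m at hk hk11
  have hpow : ∀ j : ℕ, s ^ j * x * (s ^ j)⁻¹ = x ^ (m ^ j) := by
    intro j
    induction j with
    | zero => simp
    | succ j ih =>
      rw [show s ^ (j + 1) * x * (s ^ (j + 1))⁻¹ = s * (s ^ j * x * (s ^ j)⁻¹) * s⁻¹ by
        rw [pow_succ']; group, ih, ← conj_pow, ← hk, ← pow_mul, ← pow_succ']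
  have hm1 : m ≠ 1 := fun e => by
    rw [e, pow_one] at hk
    have hmem : s ∈ Subgroup.centralizer ((Q : Subgroup G) : Set G) := by
      rw [← hQe, centralizer_eq_of_zpowers rfl]
      exact Subgroup.mem_centralizer_singleton_iff.2 (mul_inv_eq_iff_eq_mul.1 hk.symm)
    rw [centralizer_eleven hG Q] at hmem
    have := Subgroup.orderOf_dvd_natCard _ hmem
    rw [card_eleven hG, hso] at this
    norm_num at this
  have h5 : m ^ 5 % 11 = 1 := by
    have h := hpow 5
    rw [show s ^ 5 = 1 by rw [← hso, pow_orderOf_eq_one], inv_one, one_mul, mul_one] at h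
    nth_rw 1 [← pow_one x] at h
    rw [pow_eq_pow_iff_modEq, hx] at h
    exact h.symm
  obtain ⟨j, hj⟩ : ∃ j, m ^ j % 11 = 3 := by
    have key : ∀ m < 11, m ≠ 1 → m ^ 5 % 11 = 1 → ∃ j < 5, m ^ j % 11 = 3 := by decide +kernel
    obtain ⟨j, -, hj⟩ := key m hk11 hm1 h5
    exact ⟨j, hj⟩
  have h3 : s ^ j * x * (s ^ j)⁻¹ = x ^ 3 := by
    rw [hpow j, ← pow_mod_orderOf, hx, hj]
  set σ := ρ (s ^ j) with hσ
  have hσ3 : ∀ z, σ (z + 1) = σ z + 3 := by
    intro z
    have e : σ * Eleven.shift = Eleven.shift ^ 3 * σ := by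
      rw [hσ, ← hρx, ← map_mul, ← map_pow, ← map_mul, mul_inv_eq_iff_eq_mul.1 h3]
    have := Equiv.Perm.ext_iff.1 e z
    simp only [Equiv.Perm.mul_apply, pow_succ, pow_zero, one_mul] at this
    change σ (z + 1) = σ z + 1 + 1 + 1 at this
    rw [this]
    simp [add_assoc]
  have haff : ∀ z : Fin 11, σ z = 3 * z + σ 0 := by
    intro z
    induction z using Fin.induction with
    | zero => simp
    | succ i ih =>
      rw [← Fin.coeSucc_eq_succ, hσ3, ih, mul_add, mul_one]
      abel
  refine ⟨ρ, x, x ^ ((-σ 0 : Fin 11) : ℕ) * s ^ j, hinj, hρx, ?_⟩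
  rw [map_mul, map_pow, hρx, ← hσ]
  refine Equiv.ext fun z => ?_
  rw [Equiv.Perm.mul_apply, haff z]
  exact Eleven.affine_shift (σ 0) z

theorem exists_hom_standard (hG : Cfsg.IsM11 G) :
    ∃ (ρ : G →* Equiv.Perm (Fin 11)) (x t u : G), Function.Injective ρ ∧ ρ x = Eleven.shift ∧
      ρ t = Eleven.triple ∧ ρ u = Eleven.u1 := by
  classical
  obtain ⟨ρ, x, t, hinj, hρx, hρt⟩ := exists_hom_shift_triple hG
  haveI := hG.1
  haveI : Fact (Nat.Prime 5) := ⟨Nat.prime_five⟩
  have ht : orderOf t = 5 := by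
    rw [← orderOf_injective ρ hinj, hρt]
    exact orderOf_eq_prime Eleven.triple_facts.1 Eleven.triple_facts.2
  obtain ⟨Q, hQ⟩ := (IsPGroup.of_card (n := 1) (p := 5) (by rw [Nat.card_zpowers, ht, pow_one]) :
    IsPGroup 5 (Subgroup.zpowers t)).exists_le_sylow
  have hQe : Subgroup.zpowers t = Q :=
    Subgroup.eq_of_le_of_card_ge hQ (by rw [card_five hG, Nat.card_zpowers, ht])
  set N := Subgroup.normalizer ((Q : Subgroup G) : Set G)
  set t' : N := ⟨t, Subgroup.le_normalizer (hQe ▸ Subgroup.mem_zpowers t)⟩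
  have hcl := card_centralizer_mul_class t'
  rw [card_normalizer_five hG Q] at hcl
  have hCN : Nat.card (Subgroup.centralizer ({t'} : Set N)) ≤ 5 := by
    rw [← card_centralizer_five' hG ht]
    refine Nat.card_le_card_of_injective (fun a => (⟨((a : N) : G), ?_⟩ :
      Subgroup.centralizer ({t} : Set G))) fun a b h => Subtype.ext (Subtype.ext (congrArg Subtype.val h :))
    exact Subgroup.mem_centralizer_singleton_iff.2
      (congrArg Subtype.val (Subgroup.mem_centralizer_singleton_iff.1 a.2) :)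
  have hclass4 : 4 ≤ Nat.card {g : N // IsConj t' g} := by
    by_contra hlt
    have := Nat.mul_le_mul (show Nat.card {g : N // IsConj t' g} ≤ 3 by omega) hCN
    omega
  obtain ⟨u, hu⟩ : ∃ u : G, u * t * u⁻¹ = t ^ 3 := by
    by_contra hcon
    push Not at hcon
    have hpow : ∀ g : {g : N // IsConj t' g}, ∃ i : Fin 5, (g.1 : G) = t ^ (i : ℕ) := by
      intro g
      obtain ⟨n, hn⟩ := isConj_iff.1 g.2
      have hmem : (n : G) * t * (n : G)⁻¹ ∈ Subgroup.zpowers t := by
        rw [hQe]; exact (Subgroup.mem_normalizer_iff.1 n.2 t).1 (hQe ▸ Subgroup.mem_zpowers t)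
      obtain ⟨i, hi⟩ := (mem_powers_iff_mem_zpowers (x := t)).2 hmem
      simp only at hi
      rw [← pow_mod_orderOf, ht] at hi
      exact ⟨⟨i % 5, Nat.mod_lt _ (by norm_num)⟩, by rw [← hn]; exact hi.symm⟩
    choose f hf using hpow
    have hfmem : ∀ g, f g ∈ ({1, 2, 4} : Finset (Fin 5)) := by
      intro g
      obtain ⟨n, hn⟩ := isConj_iff.1 g.2
      have hgt : (g.1 : G) = (n : G) * t * (n : G)⁻¹ := by rw [← hn]; rfl
      have h0 : f g ≠ 0 := fun e => by
        have h := hf g
        rw [e, hgt] at h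
        simp at h
        rw [h, orderOf_one] at ht
        norm_num at ht
      have h3 : f g ≠ 3 := fun e => hcon n (by
        have h := hf g
        rw [e, hgt] at h
        simpa using h)
      revert h0 h3
      generalize f g = i
      revert i
      decide
    have hle : Nat.card {g : N // IsConj t' g} ≤ Nat.card ({1, 2, 4} : Finset (Fin 5)) :=
      Nat.card_le_card_of_injective (fun g => ⟨f g, hfmem g⟩) fun a b h => Subtype.ext (Subtype.ext (by
        rw [hf a, hf b, show f a = f b from congrArg Subtype.val h]))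
    rw [Nat.card_eq_finsetCard] at hle
    have : ({1, 2, 4} : Finset (Fin 5)).card = 3 := by decide
    omega
  have hut : ρ u * Eleven.triple = Eleven.triple ^ 3 * ρ u := by
    rw [← hρt, ← map_mul, ← map_pow, ← map_mul, mul_inv_eq_iff_eq_mul.1 hu]
  have hna := not_comm hG
  have hsign : ∀ g, Equiv.Perm.sign (ρ g) = 1 := by
    intro g
    by_contra hne
    have hi := injective_of_ne_one (Equiv.Perm.sign.comp ρ) (g := g) (by rw [MonoidHom.comp_apply]; exact hne)
    exact hna ⟨⟨fun a b => hi (by rw [map_mul, map_mul, mul_comm])⟩⟩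
  have htab := Eleven.eq_table hut
  obtain ⟨j, c, hjc⟩ := Eleven.candidates (ρ u 1) (ρ u 2) (fun a b hab => by
    rw [← htab, ← htab] at hab; exact (ρ u).injective hab)
  simp only [← htab] at hjc
  have hju : ρ (t ^ (j : ℕ) * u) = Eleven.candU c ∨ ρ (t ^ (j : ℕ) * u) = Eleven.candV c := by
    rw [map_mul, map_pow, hρt]
    exact hjc.imp (fun h => Equiv.ext h) (fun h => Equiv.ext h)
  rcases hju with hU | hV
  · -- exclude the three bad candidates
    have hbad : ∀ w : G, ρ w ^ 21 = 1 → ρ w ^ 3 ≠ 1 → False := by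
      intro w h21 h3
      have ho : orderOf w ∣ 3 * 7 := by
        rw [← orderOf_injective ρ hinj]; exact orderOf_dvd_of_pow_eq_one h21
      by_cases h7 : 7 ∣ orderOf w
      · have := h7.trans (orderOf_dvd_natCard w)
        rw [hG.2] at this
        norm_num at this
      · have h3' : orderOf w ∣ 3 :=
          ((Nat.Prime.coprime_iff_not_dvd (by norm_num)).2 h7).symm.dvd_of_dvd_mul_right ho
        exact h3 (by rw [← map_pow, orderOf_dvd_iff_pow_eq_one.1 h3', map_one])
    fin_cases c
    · refine (hbad (x * x * (t ^ (j : ℕ) * u)) ?_ ?_).elim <;> rw [map_mul, map_mul, hρx, hU]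
      · exact Eleven.bad0.1
      · exact Eleven.bad0.2
    · exact ⟨ρ, x, t, _, hinj, hρx, hρt, hU⟩
    · -- conjugate by the flip
      refine ⟨(MulAut.conj Eleven.flip⁻¹).toMonoidHom.comp ρ, x ^ 8, t, t ^ (j : ℕ) * u,
        (MulAut.conj Eleven.flip⁻¹).injective.comp hinj, ?_, ?_, ?_⟩ <;>
        simp only [MonoidHom.comp_apply, MulEquiv.coe_toMonoidHom, MulAut.conj_apply, inv_inv]
      · rw [map_pow, hρx, ← Eleven.flip_shift]; group
      · rw [hρt]
        conv_lhs => rw [← Eleven.flip_triple]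
        group
      · rw [hU]
        show Eleven.flip⁻¹ * Eleven.u2 * Eleven.flip = _
        rw [← Eleven.flip_u1]; group
    · refine (hbad (x * (t ^ (j : ℕ) * u)) ?_ ?_).elim <;> rw [map_mul, hρx, hU]
      · exact Eleven.bad3.1
      · exact Eleven.bad3.2
    · refine (hbad (x * x * (t ^ (j : ℕ) * u)) ?_ ?_).elim <;> rw [map_mul, map_mul, hρx, hU]
      · exact Eleven.bad4.1
      · exact Eleven.bad4.2
  · have h := hsign (t ^ (j : ℕ) * u)
    rw [hV, Eleven.sign_candV] at h
    exact absurd h (by decide)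

/-- Every simple group of order 7920 is isomorphic to the standard one. -/
theorem nonempty_standard (hG : Cfsg.IsM11 G) : Nonempty (G ≃* standard) := by
  classical
  obtain ⟨ρ, x, t, u, hinj, hρx, hρt, hρu⟩ := exists_hom_standard hG
  haveI : Fact (Nat.Prime 5) := ⟨Nat.prime_five⟩
  haveI : Fact (Nat.Prime 11) := ⟨by norm_num⟩
  set L := Subgroup.closure ({x, t, u} : Set G) with hL
  have hmem : x ∈ L ∧ t ∈ L ∧ u ∈ L := by
    refine ⟨?_, ?_, ?_⟩ <;> exact Subgroup.subset_closure (by simp)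
  have hxo : orderOf x = 11 := by
    rw [← orderOf_injective ρ hinj, hρx]
    exact orderOf_eq_prime Eleven.shift_facts.1 Eleven.shift_facts.2
  have hto : orderOf t = 5 := by
    rw [← orderOf_injective ρ hinj, hρt]
    exact orderOf_eq_prime Eleven.triple_facts.1 Eleven.triple_facts.2
  haveI : Fact (Nat.Prime 2) := ⟨Nat.prime_two⟩
  have huo : orderOf u = 4 := by
    rw [← orderOf_injective ρ hinj, hρu]
    exact orderOf_eq_prime_pow (p := 2) (n := 1) (by rw [pow_one]; exact Eleven.u1_facts.2.1)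
      Eleven.u1_facts.1
  obtain ⟨m, hm⟩ : 220 ∣ Nat.card L := by
    refine Nat.Coprime.mul_dvd_of_dvd_of_dvd (by norm_num : Nat.Coprime 20 11) ?_ ?_
    · exact Nat.Coprime.mul_dvd_of_dvd_of_dvd (by norm_num : Nat.Coprime 4 5)
        (huo ▸ Subgroup.orderOf_dvd_natCard _ hmem.2.2) (hto ▸ Subgroup.orderOf_dvd_natCard _ hmem.2.1)
    · exact hxo ▸ Subgroup.orderOf_dvd_natCard _ hmem.1
  have hLd : Nat.card L ∣ 7920 := hG.2 ▸ Subgroup.card_subgroup_dvd_card L
  have hmd : m ∣ 36 := Nat.dvd_of_mul_dvd_mul_left (by norm_num : 0 < 220)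
    (show 220 * m ∣ 220 * 36 by rw [← hm]; exact hLd)
  have hm36 : m = 36 := by
    have hAx : Nat.card (Subgroup.zpowers x) = 11 := by rw [Nat.card_zpowers, hxo]
    have hAt : Nat.card (Subgroup.zpowers t) = 5 := by rw [Nat.card_zpowers, hto]
    obtain ⟨k, hk, hk11⟩ := index_normalizer_mod hAx (Subgroup.zpowers_le.2 hmem.1)
      (fun h => absurd (h.trans hLd) (by norm_num))
    obtain ⟨l, hl, hl5⟩ := index_normalizer_mod hAt (Subgroup.zpowers_le.2 hmem.2.1)
      (fun h => absurd (h.trans hLd) (by norm_num))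
    set a := Nat.card ↥(L ⊓ Subgroup.normalizer (Subgroup.zpowers x : Set G))
    set b := Nat.card ↥(L ⊓ Subgroup.normalizer (Subgroup.zpowers t : Set G))
    have ha55 : a ∣ 55 := by
      obtain ⟨R, hR⟩ := (IsPGroup.of_card (n := 1) (p := 11) (by rw [hAx, pow_one]) :
        IsPGroup 11 (Subgroup.zpowers x)).exists_le_sylow
      have hRe : Subgroup.zpowers x = R :=
        Subgroup.eq_of_le_of_card_ge hR (by rw [card_eleven hG, hAx])
      rw [← card_normalizer_eleven hG R, ← hRe]
      exact Subgroup.card_dvd_of_le inf_le_right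
    have ha11 : 11 ∣ a := hAx ▸ Subgroup.card_dvd_of_le
      (le_inf (Subgroup.zpowers_le.2 hmem.1) Subgroup.le_normalizer)
    have hb20 : b = 20 := by
      obtain ⟨R, hR⟩ := (IsPGroup.of_card (n := 1) (p := 5) (by rw [hAt, pow_one]) :
        IsPGroup 5 (Subgroup.zpowers t)).exists_le_sylow
      have hRe : Subgroup.zpowers t = R :=
        Subgroup.eq_of_le_of_card_ge hR (by rw [card_five hG, hAt])
      have h1 : b ∣ 20 := by
        rw [← card_normalizer_five hG R, ← hRe]
        exact Subgroup.card_dvd_of_le inf_le_right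
      have hu' : u * t * u⁻¹ = t ^ 3 := hinj (by
        simp only [map_mul, map_inv, map_pow, hρu, hρt]
        exact Eleven.u1_facts.2.2)
      have huN : u ∈ L ⊓ Subgroup.normalizer (Subgroup.zpowers t : Set G) := by
        refine ⟨hmem.2.2, ?_⟩
        have hmap : (Subgroup.zpowers t).map (MulAut.conj u).toMonoidHom = Subgroup.zpowers t := by
          refine Subgroup.eq_of_le_of_card_ge ?_
            (le_of_eq (Subgroup.card_map_of_injective (MulAut.conj u).injective).symm)
          rw [MonoidHom.map_zpowers, Subgroup.zpowers_le]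
          show u * t * u⁻¹ ∈ Subgroup.zpowers t
          rw [hu']; exact pow_mem (Subgroup.mem_zpowers t) 3
        refine Subgroup.mem_normalizer_iff.2 fun y => ⟨fun hy => hmap ▸ ⟨y, hy, rfl⟩, fun hy => ?_⟩
        rw [← hmap] at hy
        obtain ⟨z, hz, hzy⟩ := hy
        rwa [← (MulAut.conj u).injective hzy]
      have h2 : 4 ∣ b := huo ▸ Subgroup.orderOf_dvd_natCard _ huN
      have h3 : 5 ∣ b := hAt ▸ Subgroup.card_dvd_of_le
        (le_inf (Subgroup.zpowers_le.2 hmem.2.1) Subgroup.le_normalizer)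
      exact Nat.dvd_antisymm h1 (Nat.Coprime.mul_dvd_of_dvd_of_dvd (by norm_num : Nat.Coprime 4 5) h2 h3)
    rw [hb20, hm] at hl
    rw [hm] at hk
    have hm' := Nat.le_of_dvd (by norm_num) hmd
    obtain ⟨q, hq⟩ := ha11
    rw [hq] at hk ha55
    have hq5 : q ∣ 5 := Nat.dvd_of_mul_dvd_mul_left (by norm_num : 0 < 11) (show 11 * q ∣ 11 * 5 from ha55)
    rcases (Nat.dvd_prime Nat.prime_five).1 hq5 with rfl | rfl
    all_goals
      interval_cases m <;> first | omega | (norm_num at hmd)
  have hLtop : L = ⊤ := Subgroup.eq_top_of_card_eq L (by rw [hm, hm36, hG.2])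
  have hrange : ρ.range = standard := by
    rw [MonoidHom.range_eq_map, ← hLtop, hL, MonoidHom.map_closure, standard]
    congr 1
    simp [Set.image_insert_eq, hρx, hρt, hρu]
  exact ⟨(MonoidHom.ofInjective hinj).trans (MulEquiv.subgroupCongr hrange)⟩

/-- Uniqueness of the simple group of order 7920. -/
theorem nonempty_mulEquiv {H : Type*} [Group H] [Finite H] (hG : Cfsg.IsM11 G) (hH : Cfsg.IsM11 H) :
    Nonempty (G ≃* H) :=
  ⟨(nonempty_standard hG).some.trans (nonempty_standard hH).some.symm⟩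

end Cfsg.Agent.H69.M11
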