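import Cfsg.Agent.H26.Invol
import Mathlib.GroupTheory.Transfer
import Mathlib.GroupTheory.Perm.Sign
import Mathlib.GroupTheory.PGroup

/-!
General facts used in the analysis of simple groups of order 7920.
-/

set_option autoImplicit false

namespace Cfsg.Agent.H69.M11

open Subgroup

variable {G : Type*} [Group G] [IsSimpleGroup G]

/-- The kernel of a nontrivial homomorphism from a simple group is trivial. -/
theorem injective_of_ne_one {H : Type*} [Group H] (f : G →* H) {g : G} (hg : f g ≠ 1) :
    Function.Injective f := by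
  rcases (MonoidHom.normal_ker f).eq_bot_or_eq_top with h | h
  · exact (MonoidHom.ker_eq_bot_iff f).1 h
  · exact absurd (MonoidHom.mem_ker.1 (show g ∈ f.ker by rw [h]; trivial)) hg

/-- A simple non-abelian group acts by even permutations. -/
theorem sign_toPerm (hna : ¬ IsMulCommutative G) {X : Type*} [MulAction G X] [Fintype X]
    [DecidableEq X] (g : G) : Equiv.Perm.sign (MulAction.toPerm g : Equiv.Perm X) = 1 := by
  by_contra h
  have hinj := injective_of_ne_one (Equiv.Perm.sign.comp (MulAction.toPermHom G X))
    (g := g) h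
  exact hna ⟨⟨fun a b => hinj (by rw [map_mul, map_mul, mul_comm])⟩⟩

theorem center_eq_bot (hna : ¬ IsMulCommutative G) : Subgroup.center G = ⊥ := by
  refine (inferInstance : (Subgroup.center G).Normal).eq_bot_or_eq_top.resolve_right fun h => hna ?_
  exact ⟨⟨fun a b => (Subgroup.mem_center_iff.1 (show b ∈ Subgroup.center G by rw [h]; trivial) a)⟩⟩

theorem eq_one_of_central (hna : ¬ IsMulCommutative G) {z : G} (h : ∀ g, g * z = z * g) : z = 1 := by
  have : z ∈ Subgroup.center G := Subgroup.mem_center_iff.2 h
  rwa [center_eq_bot hna, Subgroup.mem_bot] at this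

/-- A normal subgroup different from `⊥` is everything. -/
theorem eq_top_of_normal {N : Subgroup G} (hN : N.Normal) (h : N ≠ ⊥) : N = ⊤ :=
  hN.eq_bot_or_eq_top.resolve_left h

/-- Burnside: a Sylow subgroup of a simple group is not central in its normalizer. -/
theorem not_normalizer_le_centralizer [Finite G] (hna : ¬ IsMulCommutative G) {p : ℕ}
    [Fact p.Prime] (hp : p ∣ Nat.card G) (P : Sylow p G) :
    ¬ Subgroup.normalizer ((P : Subgroup G) : Set G) ≤ centralizer ((P : Subgroup G) : Set G) := by
  intro hle
  have hc := MonoidHom.ker_transferSylow_isComplement' P hle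
  rcases (MonoidHom.normal_ker (MonoidHom.transferSylow P hle)).eq_bot_or_eq_top with h | h
  · rw [h, isComplement'_bot_left] at hc
    have hP : IsPGroup p G := by
      have := P.2
      rw [hc] at this
      exact this.of_equiv Subgroup.topEquiv
    haveI : Nontrivial G := inferInstance
    exact (Subgroup.nontrivial_iff_ne_bot _).1 hP.center_nontrivial (center_eq_bot hna)
  · rw [h, isComplement'_top_left] at hc
    exact P.ne_bot_of_dvd_card hp hc

omit [IsSimpleGroup G]

theorem card_centralizer_mul_class [Finite G] (x : G) :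
    Nat.card {g : G // IsConj x g} * Nat.card (Subgroup.centralizer ({x} : Set G)) = Nat.card G :=
  H26.card_conj_mul_card_centralizer x

/-- The class of a real element which is not an involution has even size. -/
theorem even_class_of_real [Finite G] {x g : G} (hx : x * x ≠ 1) (hg : g * x * g⁻¹ = x⁻¹) :
    2 ∣ Nat.card {y : G // IsConj x y} := by
  classical
  haveI := Fintype.ofFinite G
  have hxx : IsConj x x⁻¹ := isConj_iff.2 ⟨g, hg⟩
  let σ : {y : G // IsConj x y} → {y : G // IsConj x y} := fun y => ⟨y.1⁻¹, by
    obtain ⟨c, hc⟩ := isConj_iff.1 y.2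
    refine hxx.trans (isConj_iff.2 ⟨c, ?_⟩)
    rw [← hc]; group⟩
  have hσ : Function.Involutive σ := fun y => by ext; simp [σ]
  have hfix : ∀ y, σ y ≠ y := fun y he => by
    obtain ⟨c, hc⟩ := isConj_iff.1 y.2
    have h1 : y.1⁻¹ = y.1 := congrArg Subtype.val he
    apply hx
    have h2 : y.1 * y.1 = 1 := by
      conv_lhs => arg 1; rw [← h1]
      rw [inv_mul_cancel]
    rw [← hc] at h2
    have : c * (x * x) * c⁻¹ = 1 := by rw [← h2]; group
    rwa [conj_eq_one_iff] at this
  have hs : (hσ.toPerm).support = Finset.univ := by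
    ext y; simp [hfix y]
  have := Equiv.Perm.two_dvd_card_support (σ := hσ.toPerm) (by ext y; simp [pow_two, hσ y])
  rwa [hs, Finset.card_univ, ← Nat.card_eq_fintype_card] at this

/-- In a group of order 8 all elements of order 4 have the same square. -/
theorem sq_eq_sq_of_card_eight {H : Type*} [Group H] [Finite H] (hH : Nat.card H = 8) {g h : H}
    (hg : orderOf g = 4) (hh : orderOf h = 4) : g * g = h * h := by
  have hi : (Subgroup.zpowers g).index = 2 := by
    have := (Subgroup.zpowers g).card_mul_index
    rw [Nat.card_zpowers, hg, hH] at this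
    omega
  have hmem : h * h ∈ Subgroup.zpowers g := Subgroup.mul_self_mem_of_index_two hi h
  have hh2 : h * h ≠ 1 := fun e => by
    have := orderOf_dvd_of_pow_eq_one (show h ^ 2 = 1 by rw [pow_two, e])
    rw [hh] at this; omega
  have hh4 : (h * h) * (h * h) = 1 := by
    rw [show h * h * (h * h) = h ^ 4 by simp [pow_succ, mul_assoc], ← hh, pow_orderOf_eq_one]
  obtain ⟨k, hk⟩ := (mem_powers_iff_mem_zpowers (x := g)).2 hmem
  have hk : g ^ k = h * h := hk
  rw [← hk, ← pow_mod_orderOf, hg] at hh2 hh4
  rw [← hk, ← pow_mod_orderOf, hg]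
  have : k % 4 < 4 := Nat.mod_lt _ (by norm_num)
  have hg2 : g ^ 2 ≠ 1 := fun e => by
    have := orderOf_dvd_of_pow_eq_one e; rw [hg] at this; omega
  interval_cases hm : k % 4
  · exact absurd (pow_zero g) hh2
  · exact absurd (by simpa [pow_two] using hh4) hg2
  · rw [pow_two]
  · exfalso
    apply hg2
    have h6 : g ^ 6 = 1 := by simpa [pow_add, pow_succ, mul_assoc] using hh4
    rw [← pow_mod_orderOf, hg] at h6
    simpa using h6

end Cfsg.Agent.H69.M11
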