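import Cfsg.Agent.H69.M11.NonSimple
import Cfsg.Agent.H25.InvolutionTransfer

/-!
A group of order 7920 with disconnected prime graph is simple.
-/

set_option autoImplicit false

namespace Cfsg.Agent.H69.M11

open Subgroup MulAction

variable {G : Type*} [Group G] [Finite G]

theorem dvd_centralizer_of_linked {p q : ℕ} [hp : Fact p.Prime] (P : Sylow p G)
    (hP : ∀ R : Sylow p G, Nat.card (R : Subgroup G) = p) (h : Linked G p q) :
    q ∣ Nat.card (Subgroup.centralizer ((P : Subgroup G) : Set G)) := by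
  obtain ⟨a, b, ha, hb, hab⟩ := h
  obtain ⟨Q, hQ⟩ := (IsPGroup.of_card (n := 1) (p := p) (by rw [Nat.card_zpowers, ha, pow_one]) :
    IsPGroup p (Subgroup.zpowers a)).exists_le_sylow
  obtain ⟨g, rfl⟩ := MulAction.exists_smul_eq G P Q
  have hQe : Subgroup.zpowers a = ((g • P : Sylow p G) : Subgroup G) :=
    Subgroup.eq_of_le_of_card_ge hQ (by rw [Nat.card_zpowers, ha, hP])
  have hbC : g⁻¹ * b * g ∈ Subgroup.centralizer ((P : Subgroup G) : Set G) := by
    intro x hx
    have hm : g * x * g⁻¹ ∈ Subgroup.zpowers a := by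
      rw [hQe, Sylow.coe_subgroup_smul, Subgroup.mem_smul_pointwise_iff_exists]
      exact ⟨x, hx, rfl⟩
    obtain ⟨i, hi⟩ := hm
    simp only at hi
    have hc : Commute (a ^ i) b := hab.zpow_left i
    rw [hi] at hc
    calc x * (g⁻¹ * b * g) = g⁻¹ * ((g * x * g⁻¹) * b) * g := by group
      _ = g⁻¹ * b * g * x := by rw [hc.eq]; group
  have := Subgroup.orderOf_dvd_natCard _ hbC
  rwa [show g⁻¹ * b * g = MulAut.conj g⁻¹ b by simp, MulEquiv.orderOf_eq, hb] at this

/-- The number of Sylow subgroups divides the order of a normal subgroup containing one. -/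
theorem card_sylow_mul_of_normal {p : ℕ} [hp : Fact p.Prime] {M : Subgroup G} (hM : M.Normal)
    (hP : ∀ R : Sylow p G, Nat.card (R : Subgroup G) = p) (hpM : p ∣ Nat.card M) :
    ∃ P : Sylow p G, (∀ R : Sylow p G, (R : Subgroup G) ≤ M) ∧
      Nat.card (Sylow p G) * Nat.card ↥(M ⊓ Subgroup.normalizer ((P : Subgroup G) : Set G)) =
        Nat.card M := by
  haveI := hM
  obtain ⟨x, hx⟩ := exists_prime_orderOf_dvd_card' p hpM
  obtain ⟨Q, hQ⟩ := (IsPGroup.of_card (n := 1) (p := p)
    (by rw [Nat.card_zpowers, Subgroup.orderOf_coe, hx, pow_one]) :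
    IsPGroup p (Subgroup.zpowers (x : G))).exists_le_sylow
  have hQe : Subgroup.zpowers (x : G) = Q := Subgroup.eq_of_le_of_card_ge hQ (by
    rw [Nat.card_zpowers, Subgroup.orderOf_coe, hx, hP Q])
  have hsub : ∀ R : Sylow p G, (R : Subgroup G) ≤ M := fun R => by
    obtain ⟨g, rfl⟩ := MulAction.exists_smul_eq G Q R
    rw [Sylow.coe_subgroup_smul, ← hQe]
    intro y hy
    obtain ⟨z, hz, rfl⟩ := (Subgroup.mem_smul_pointwise_iff_exists _ _ _).1 hy
    exact hM.conj_mem z (Subgroup.zpowers_le.2 x.2 hz) g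
  refine ⟨Q, hsub, ?_⟩
  have hst : MulAction.stabilizer M Q =
      (Subgroup.normalizer ((Q : Subgroup G) : Set G)).subgroupOf M := by
    ext g; exact Sylow.smul_eq_iff_mem_normalizer
  have horb : MulAction.orbit M Q = Set.univ := by
    refine Set.eq_univ_of_forall fun R => ?_
    obtain ⟨l, hl⟩ := MulAction.exists_smul_eq M (Q.subtype (hsub Q)) (R.subtype (hsub R))
    refine ⟨l, ?_⟩
    rw [Sylow.smul_subtype] at hl
    exact Sylow.subtype_injective hl
  have hidx := MulAction.index_stabilizer M Q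
  rw [horb, Set.ncard_univ, hst] at hidx
  have h := Subgroup.index_mul_card ((Subgroup.normalizer ((Q : Subgroup G) : Set G)).subgroupOf M)
  rw [hidx, ← Subgroup.inf_subgroupOf_left,
    Nat.card_congr (Subgroup.subgroupOfEquivOfLe inf_le_left).toEquiv] at h
  exact h

/-- An element of order 11 normalizing a small subgroup centralizes it. -/
theorem le_centralizer_of_small {x : G} (hx : orderOf x = 11) {Q : Subgroup G}
    (hxQ : x ∈ Subgroup.normalizer (Q : Set G)) (h : Nat.card Q ≤ 6 ∨ Nat.card Q = 16) :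
    Q ≤ Subgroup.centralizer ({x} : Set G) := by
  haveI : Fact (Nat.Prime 11) := ⟨by norm_num⟩
  have hp : IsPGroup 11 (Subgroup.zpowers x) := IsPGroup.of_card (n := 1) (by
    rw [Nat.card_zpowers, hx, pow_one])
  letI : MulAction (Subgroup.zpowers x) Q :=
    { smul := fun g q => ⟨(g : G) * q * (g : G)⁻¹,
        (Subgroup.mem_normalizer_iff.1 (Subgroup.zpowers_le.2 hxQ g.2) _).1 q.2⟩
      one_smul := fun q => Subtype.ext (show (1 : G) * q * (1 : G)⁻¹ = q by group)
      mul_smul := fun a b q => Subtype.ext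
        (show (a : G) * b * q * ((a : G) * b)⁻¹ = a * (b * q * (b : G)⁻¹) * (a : G)⁻¹ by group) }
  set F := Q ⊓ Subgroup.centralizer ({x} : Set G)
  have hfix : Nat.card (MulAction.fixedPoints (Subgroup.zpowers x) Q) = Nat.card F := by
    refine Nat.card_congr
      { toFun := fun q => ⟨q.1, q.1.2, Subgroup.mem_centralizer_singleton_iff.2
          (mul_inv_eq_iff_eq_mul.1 (congrArg Subtype.val (q.2 ⟨x, Subgroup.mem_zpowers x⟩) :)).symm⟩
        invFun := fun q => ⟨⟨q.1, q.2.1⟩, fun g => Subtype.ext (by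
          obtain ⟨i, hi⟩ := g.2
          simp only at hi
          show (g : G) * q * (g : G)⁻¹ = q
          have hc : Commute x (q : G) := (Subgroup.mem_centralizer_singleton_iff.1 q.2.2).symm
          rw [← hi, (hc.zpow_left i).eq, mul_inv_cancel_right])⟩
        left_inv := fun q => Subtype.ext (Subtype.ext rfl)
        right_inv := fun q => Subtype.ext rfl }
  have hmod := hp.card_modEq_card_fixedPoints Q
  rw [hfix, Nat.ModEq] at hmod
  have hd : Nat.card F ∣ Nat.card Q := Subgroup.card_dvd_of_le inf_le_left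
  have hpos : 0 < Nat.card Q := Nat.card_pos
  have heq : Nat.card Q = Nat.card F := by
    have hle := Nat.le_of_dvd hpos hd
    rcases h with h | h
    · omega
    · rw [h] at hd hmod ⊢ hle
      have key : ∀ f ≤ 16, f ∣ 16 → 16 % 11 = f % 11 → 16 = f := by decide +kernel
      exact key _ hle hd hmod
  intro q hq
  have := Subgroup.eq_of_le_of_card_ge (inf_le_left : F ≤ Q) heq.le
  exact (this.ge hq).2

/-- There is no simple group of order 3960 with 45 Sylow 11-subgroups and 1584 elements of order 5. -/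
theorem false_of_simple {H : Type*} [Group H] [Finite H] [IsSimpleGroup H]
    (hord : Nat.card H = 3960)
    (hn : (letI : Fact (Nat.Prime 11) := ⟨by norm_num⟩; Nat.card (Sylow 11 H)) = 45)
    (h5 : 1584 ≤ Nat.card {g : H // orderOf g = 5}) : False := by
  classical
  haveI : Fact (Nat.Prime 11) := ⟨by norm_num⟩
  haveI : Fact (Nat.Prime 2) := ⟨Nat.prime_two⟩
  haveI : Fintype (Sylow 11 H) := Fintype.ofFinite _
  have hP : ∀ R : Sylow 11 H, Nat.card (R : Subgroup H) = 11 := by
    intro R
    obtain ⟨m, hm⟩ := R.2.exists_card_eq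
    have h1 : 11 ^ m ∣ 3960 := by rw [← hm, ← hord]; exact Subgroup.card_subgroup_dvd_card _
    have h2 : 11 ^ 1 ∣ Nat.card (R : Subgroup H) := R.pow_dvd_card_of_pow_dvd_card (by rw [hord]; norm_num)
    rw [hm] at h2 ⊢
    have h3 : 1 ≤ m := (Nat.pow_dvd_pow_iff_le_right (by norm_num)).1 h2
    have h4 : m ≤ 1 := by
      by_contra hlt
      exact absurd ((Nat.pow_dvd_pow 11 (by omega : 2 ≤ m)).trans h1) (by norm_num)
    rw [le_antisymm h4 h3, pow_one]
  have hna : ¬ IsMulCommutative H := by
    intro hc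
    haveI := hc
    obtain ⟨R⟩ := (inferInstance : Nonempty (Sylow 11 H))
    have hR : (R : Subgroup H).Normal := ⟨fun n hn g => by
      rwa [show g * n * g⁻¹ = n by rw [show g * n = n * g from hc.is_comm.comm g n, mul_inv_cancel_right]]⟩
    rcases hR.eq_bot_or_eq_top with h | h <;> have h' := hP R <;> rw [h] at h'
    · rw [Subgroup.card_bot] at h'; norm_num at h'
    · rw [Subgroup.card_top, hord] at h'; norm_num at h'
  have hN : ∀ R : Sylow 11 H, Nat.card (Subgroup.normalizer ((R : Subgroup H) : Set H)) = 88 := by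
    intro R
    have h : Nat.card (Sylow 11 H) * Nat.card (Subgroup.normalizer ((R : Subgroup H) : Set H)) = 3960 := by
      rw [R.card_eq_index_normalizer, ← hord]; exact Subgroup.index_mul_card _
    rw [hn] at h; omega
  have hC : ∀ R : Sylow 11 H, Nat.card (Subgroup.centralizer ((R : Subgroup H) : Set H)) = 44 := by
    intro R
    set C := Subgroup.centralizer ((R : Subgroup H) : Set H)
    have h1 : Nat.card C ∣ 88 := hN R ▸ Subgroup.card_dvd_of_le (Subgroup.centralizer_le_normalizer _)
    have h2 : 88 ∣ Nat.card C * (11 - 1) := hN R ▸ card_normalizer_dvd (R : Subgroup H) (hP R)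
    have h3 : Nat.card C ≠ 88 := by
      intro he
      have hle := (Subgroup.eq_of_le_of_card_ge (Subgroup.centralizer_le_normalizer _) (by rw [hN R, he])).ge
      exact not_normalizer_le_centralizer hna (by rw [hord]; norm_num) R hle
    have := Nat.le_of_dvd (by norm_num) h1
    generalize Nat.card C = c at h1 h2 h3 this
    have key : ∀ c ≤ 88, c ∣ 88 → 88 ∣ c * (11 - 1) → c ≠ 88 → c = 44 := by decide +kernel
    exact key c this h1 h2 h3
  have hfixP : ∀ (R : Sylow 11 H) (g : H), g ∈ Subgroup.centralizer ((R : Subgroup H) : Set H) →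
      g • R = R := fun R g hg =>
    Sylow.smul_eq_iff_mem_normalizer.2 (Subgroup.centralizer_le_normalizer _ hg)
  -- an involution centralizing `R` fixes only `R`
  have honly : ∀ (R : Sylow 11 H) (s : H), s ∈ Subgroup.centralizer ((R : Subgroup H) : Set H) →
      orderOf s = 2 → ∀ Q : Sylow 11 H, s • Q = Q → Q = R := by
    intro R s hsC hs2 Q hsQ
    by_contra hQ
    set σ : Equiv.Perm (Sylow 11 H) := MulAction.toPerm s with hσ
    have hσ2 : σ ^ 2 = 1 := by
      ext X
      rw [pow_two, Equiv.Perm.mul_apply, hσ, MulAction.toPerm_apply, MulAction.toPerm_apply,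
        ← mul_smul, ← pow_two, ← hs2, pow_orderOf_eq_one, one_smul, Equiv.Perm.one_apply]
    have h4 := four_dvd_support σ hσ2 (sign_toPerm hna s)
    have hmem : ∀ X, X ∈ σ.support ↔ s • X ≠ X := fun X => by simp [hσ, Equiv.Perm.mem_support]
    have h11 : 11 ∣ σ.support.card := by
      have h := dvd_card_of_free (R : Subgroup H) {X : Sylow 11 H | s • X ≠ X} (fun p hp X hX => ?_)
        (fun p hp X hX hfix => ?_)
      · rw [hP R] at h
        convert h using 1
        rw [Nat.card_coe_set_eq, ← Set.ncard_coe_finset]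
        congr 1
        ext X; simp [hmem]
      · intro he
        apply hX
        rw [← mul_smul, ← hsC p hp, mul_smul] at he
        exact smul_left_cancel p he
      · by_contra hp1
        apply hX
        have hm := mem_sylow_of_smul_eq (k := 1) (by
          rw [pow_one, ← hP R, ← orderOf_dvd_iff_pow_eq_one]
          exact Subgroup.orderOf_dvd_natCard _ hp) X hfix
        have hXR : X = R := Sylow.ext (by
          rw [← zpowers_eq_of_prime (hP X) hm hp1, zpowers_eq_of_prime (hP R) hp hp1])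
        rw [hXR]; exact hfixP R s hsC
    have hle : σ.support.card ≤ 43 := by
      have hsub : σ.support ⊆ (Finset.univ.erase R).erase Q := by
        intro X hX
        rw [hmem] at hX
        exact Finset.mem_erase.2 ⟨fun e => hX (by rw [e, hsQ]), Finset.mem_erase.2
          ⟨fun e => hX (by rw [e, hfixP R s hsC]), Finset.mem_univ _⟩⟩
      have := Finset.card_le_card hsub
      rw [Finset.card_erase_of_mem (Finset.mem_erase.2 ⟨hQ, Finset.mem_univ _⟩),
        Finset.card_erase_of_mem (Finset.mem_univ _), Finset.card_univ, ← Nat.card_eq_fintype_card,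
        hn] at this
      omega
    have h0 : σ.support.card = 0 := by omega
    rw [Finset.card_eq_zero, Equiv.Perm.support_eq_empty_iff] at h0
    have hne : ∃ g : H, MulAction.toPermHom H (Sylow 11 H) g ≠ 1 := by
      by_contra hall
      push Not at hall
      obtain ⟨g, hg⟩ := MulAction.exists_smul_eq H R Q
      exact hQ (hg.symm.trans (Equiv.Perm.ext_iff.1 (hall g) R))
    obtain ⟨g, hg⟩ := hne
    have hs1 : s = 1 := injective_of_ne_one _ hg (by rw [map_one]; exact h0)
    rw [hs1, orderOf_one] at hs2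
    norm_num at hs2
  -- no involution inverts a Sylow 11-subgroup
  have hnoinv : ∀ (R : Sylow 11 H) (i : H), i ∈ Subgroup.normalizer ((R : Subgroup H) : Set H) →
      orderOf i = 2 → i ∈ Subgroup.centralizer ((R : Subgroup H) : Set H) := by
    intro R i hiN hio
    by_contra hiC
    set N := Subgroup.normalizer ((R : Subgroup H) : Set H)
    obtain ⟨S, hS⟩ := (IsPGroup.of_card (n := 1) (p := 2) (by
        rw [Nat.card_zpowers, ← Subgroup.orderOf_coe, pow_one]; exact hio) :
      IsPGroup 2 (Subgroup.zpowers (⟨i, hiN⟩ : N))).exists_le_sylow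
    have h8 : Nat.card ((S : Subgroup N).map N.subtype) = 2 ^ 3 := by
      rw [Subgroup.card_map_of_injective (Subgroup.subtype_injective N)]
      obtain ⟨m, hm⟩ := S.2.exists_card_eq
      have h1 : 2 ^ 3 ∣ Nat.card (S : Subgroup N) := S.pow_dvd_card_of_pow_dvd_card (by rw [hN R]; norm_num)
      have h2 : Nat.card (S : Subgroup N) ∣ 88 := by
        have := Subgroup.card_subgroup_dvd_card (S : Subgroup N); rwa [hN R] at this
      rw [hm] at h1 h2 ⊢
      have h3 : 3 ≤ m := (Nat.pow_dvd_pow_iff_le_right (by norm_num)).1 h1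
      have h4 : m ≤ 3 := by
        by_contra hlt
        exact absurd ((Nat.pow_dvd_pow 2 (by omega : 4 ≤ m)).trans h2) (by norm_num)
      rw [le_antisymm h4 h3]
    obtain ⟨T₀⟩ := (inferInstance : Nonempty (Sylow 2 H))
    have hT₀ : Nat.card (T₀ : Subgroup H) = 2 ^ 3 := by
      obtain ⟨m, hm⟩ := T₀.2.exists_card_eq
      have h1 : 2 ^ 3 ∣ Nat.card (T₀ : Subgroup H) := T₀.pow_dvd_card_of_pow_dvd_card (by rw [hord]; norm_num)
      have h2 : Nat.card (T₀ : Subgroup H) ∣ 3960 := hord ▸ Subgroup.card_subgroup_dvd_card _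
      rw [hm] at h1 h2 ⊢
      have h3 : 3 ≤ m := (Nat.pow_dvd_pow_iff_le_right (by norm_num)).1 h1
      have h4 : m ≤ 3 := by
        by_contra hlt
        exact absurd ((Nat.pow_dvd_pow 2 (by omega : 4 ≤ m)).trans h2) (by norm_num)
      rw [le_antisymm h4 h3]
    let D : Sylow 2 H := Sylow.ofCard ((S : Subgroup N).map N.subtype)
      (h8.trans (hT₀.symm.trans T₀.card_eq_multiplicity))
    have hiD : i ∈ (D : Subgroup H) := ⟨⟨i, hiN⟩, hS (Subgroup.mem_zpowers _), rfl⟩
    set C := Subgroup.centralizer ((R : Subgroup H) : Set H)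
    have hCN : C ≤ N := Subgroup.centralizer_le_normalizer _
    have hCidx : (C.subgroupOf N).index = 2 := by
      have := (C.subgroupOf N).index_mul_card
      rw [Nat.card_congr (Subgroup.subgroupOfEquivOfLe hCN).toEquiv, hC R, hN R] at this
      omega
    set Q := (D : Subgroup H) ⊓ C
    have hQi : Q.relIndex (D : Subgroup H) = 2 := by
      refine Subgroup.index_eq_two_iff.2 ⟨⟨i, hiD⟩, ?_⟩
      rintro ⟨b, hb⟩
      have hbN : b ∈ N := by obtain ⟨b', -, rfl⟩ := hb; exact b'.2
      simp only [Subgroup.mem_subgroupOf, Subgroup.coe_mul]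
      show Xor (b * i ∈ Q) (b ∈ Q)
      have hiff := Subgroup.mul_mem_iff_of_index_two hCidx (a := (⟨b, hbN⟩ : N)) (b := ⟨i, hiN⟩)
      simp only [Subgroup.mem_subgroupOf, Subgroup.coe_mul, iff_false_right hiC] at hiff
      by_cases hbC : b ∈ C
      · exact Or.inr ⟨⟨hb, hbC⟩, fun h => (hiff.1 h.2) hbC⟩
      · exact Or.inl ⟨⟨mul_mem hb hiD, hiff.2 hbC⟩, fun h => hbC h.2⟩
    rcases H25.thompson_transfer D Q inf_le_left hQi i hio hiD (fun h => hiC h.2) with
      ⟨K, hK, hKi, -⟩ | ⟨g, hg⟩
    · rcases hK.eq_bot_or_eq_top with h | h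
      · rw [h, Subgroup.index_bot, hord] at hKi; norm_num at hKi
      · rw [h, Subgroup.index_top] at hKi; norm_num at hKi
    · have hgo : orderOf (g * i * g⁻¹) = 2 := ((MulAut.conj g).orderOf_eq i).trans hio
      have hgR : g • R = R := honly R _ hg.2 hgo (g • R) (by
        rw [mul_smul, mul_smul, inv_smul_smul, Sylow.smul_eq_iff_mem_normalizer.2 hiN])
      apply hiC
      intro p hp
      have hgp : g * p * g⁻¹ ∈ (R : Subgroup H) := (Subgroup.mem_normalizer_iff.1
        (Sylow.smul_eq_iff_mem_normalizer.1 hgR) p).1 hp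
      have h := hg.2 _ hgp
      calc p * i = g⁻¹ * ((g * p * g⁻¹) * (g * i * g⁻¹)) * g := by group
        _ = g⁻¹ * ((g * i * g⁻¹) * (g * p * g⁻¹)) * g := by rw [h]
        _ = i * p := by group
  -- elements of 2-power order outside the centralizers
  let X := Σ R : Sylow 11 H, {g : Subgroup.normalizer ((R : Subgroup H) : Set H) //
    (g : H) ∉ Subgroup.centralizer ((R : Subgroup H) : Set H)}
  have hXcard : Nat.card X = 45 * 44 := by
    show Nat.card (Σ R : Sylow 11 H, {g : Subgroup.normalizer ((R : Subgroup H) : Set H) //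
      (g : H) ∉ Subgroup.centralizer ((R : Subgroup H) : Set H)}) = 45 * 44
    rw [Nat.card_sigma, Finset.sum_const_nat (m := 44) fun R _ => ?_, Finset.card_univ,
      ← Nat.card_eq_fintype_card, hn]
    haveI : Fintype (Subgroup.normalizer ((R : Subgroup H) : Set H)) := Fintype.ofFinite _
    rw [Nat.card_eq_fintype_card, Fintype.card_subtype_compl, ← Nat.card_eq_fintype_card,
      ← Nat.card_eq_fintype_card, hN R,
      show Nat.card {g : Subgroup.normalizer ((R : Subgroup H) : Set H) //
        (g : H) ∈ Subgroup.centralizer ((R : Subgroup H) : Set H)} = 44 from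
        (Nat.card_congr (Subgroup.subgroupOfEquivOfLe (Subgroup.centralizer_le_normalizer _)).toEquiv).trans (hC R)]
  have hX : ∀ z : X, orderOf (z.2.1 : H) ∣ 8 ∧ (z.2.1 : H) ≠ 1 ∧
      ∀ Q : Sylow 11 H, (z.2.1 : H) • Q = Q → Q = z.1 := by
    rintro ⟨R, ⟨⟨g, hgN⟩, hgC⟩⟩
    simp only at hgC ⊢
    have hg1 : g ≠ 1 := fun e => hgC (e ▸ one_mem _)
    have hd : orderOf g ∣ 8 * 11 := (Subgroup.orderOf_dvd_natCard _ hgN).trans (dvd_of_eq (hN R))
    have h11 : ¬ 11 ∣ orderOf g := by
      rintro ⟨k, hk⟩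
      have hk0 : k ≠ 0 := fun e => (orderOf_pos g).ne' (by rw [hk, e, mul_zero])
      have ho : orderOf (g ^ k) = 11 := by
        rw [orderOf_pow_of_dvd hk0 ⟨11, by rw [hk, mul_comm]⟩, hk, Nat.mul_div_cancel _ (Nat.pos_of_ne_zero hk0)]
      have hmem := mem_sylow_of_smul_eq (k := 1) (g := g ^ k)
        (by rw [pow_one, ← ho, pow_orderOf_eq_one]) R
        (Sylow.smul_eq_iff_mem_normalizer.2 (pow_mem hgN k))
      apply hgC
      intro p hp
      rw [← zpowers_eq_of_prime (hP R) hmem fun e => by rw [e, orderOf_one] at ho; norm_num at ho] at hp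
      obtain ⟨j, rfl⟩ := hp
      exact (((Commute.self_pow g k).symm).zpow_left j).eq
    have h8 : orderOf g ∣ 2 ^ 3 :=
      ((Nat.Prime.coprime_iff_not_dvd (by norm_num)).2 h11).symm.dvd_of_dvd_mul_right hd
    refine ⟨h8, hg1, fun Q hQ => ?_⟩
    obtain ⟨m, -, hm⟩ := (Nat.dvd_prime_pow Nat.prime_two).1 h8
    rcases m with _ | m
    · exact absurd (orderOf_eq_one_iff.1 hm) hg1
    have hso : orderOf (g ^ 2 ^ m) = 2 := by
      rw [orderOf_pow_of_dvd (pow_ne_zero _ (by norm_num)) (hm ▸ Nat.pow_dvd_pow 2 (Nat.le_succ m)), hm,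
        Nat.pow_div (Nat.le_succ m) (by norm_num), show m + 1 - m = 1 by omega, pow_one]
    exact honly R (g ^ 2 ^ m) (hnoinv R _ (pow_mem hgN _) hso) hso Q
      (pow_mem (show g ∈ MulAction.stabilizer H Q from hQ) _)
  have hB : Nat.card X ≤ Nat.card {g : H // orderOf g ∣ 8 ∧ g ≠ 1} := by
    refine Nat.card_le_card_of_injective (fun z => ⟨z.2.1, (hX z).1, (hX z).2.1⟩) ?_
    intro a b h
    have h' : (a.2.1 : H) = b.2.1 := congrArg Subtype.val h
    have hab : a.1 = b.1 := (hX b).2.2 a.1 (h' ▸ Sylow.smul_eq_iff_mem_normalizer.2 a.2.1.2)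
    obtain ⟨R, u⟩ := a
    obtain ⟨R', v⟩ := b
    simp only at hab
    subst hab
    exact Sigma.ext rfl (heq_of_eq (Subtype.ext (Subtype.ext h')))
  have h11 : Nat.card {g : H // orderOf g = 11} = 450 := by
    rw [card_orderOf_prime hP, hn]
  haveI : Fintype H := Fintype.ofFinite H
  rw [hXcard] at hB
  rw [Nat.card_eq_fintype_card, Fintype.card_subtype] at h5 hB h11
  have hd1 : Disjoint (Finset.univ.filter fun g : H => orderOf g = 5)
      (Finset.univ.filter fun g : H => orderOf g ∣ 8 ∧ g ≠ 1) := by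
    rw [Finset.disjoint_left]; intro g h1 h2
    simp only [Finset.mem_filter, Finset.mem_univ, true_and] at h1 h2
    rw [h1] at h2; norm_num at h2
  have hd2 : Disjoint ((Finset.univ.filter fun g : H => orderOf g = 5) ∪
      (Finset.univ.filter fun g : H => orderOf g ∣ 8 ∧ g ≠ 1))
      (Finset.univ.filter fun g : H => orderOf g = 11) := by
    rw [Finset.disjoint_left]; intro g h1 h2
    simp only [Finset.mem_union, Finset.mem_filter, Finset.mem_univ, true_and] at h1 h2
    rw [h2] at h1; norm_num at h1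
  have htot := Finset.card_le_univ (((Finset.univ.filter fun g : H => orderOf g = 5) ∪
      (Finset.univ.filter fun g : H => orderOf g ∣ 8 ∧ g ≠ 1)) ∪
      (Finset.univ.filter fun g : H => orderOf g = 11))
  rw [Finset.card_union_of_disjoint hd2, Finset.card_union_of_disjoint hd1,
    ← Nat.card_eq_fintype_card, hord] at htot
  omega

/-- With 45 Sylow 11-subgroups and no links from 5, a group of order 7920 cannot exist. -/
theorem false_of_fortyFive_isolated (hord : Nat.card G = 7920)
    (hn : (letI : Fact (Nat.Prime 11) := ⟨by norm_num⟩; Nat.card (Sylow 11 G)) = 45)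
    (hC88 : letI : Fact (Nat.Prime 11) := ⟨by norm_num⟩; ∀ P : Sylow 11 G,
      Nat.card (Subgroup.centralizer ((P : Subgroup G) : Set G)) = 88)
    (h52 : ¬ Linked G 5 2) (h53 : ¬ Linked G 5 3)
    (hn5 : (letI : Fact (Nat.Prime 5) := ⟨Nat.prime_five⟩; Nat.card (Sylow 5 G)) = 396) : False := by
  classical
  haveI : Fact (Nat.Prime 11) := ⟨by norm_num⟩
  haveI : Fact (Nat.Prime 5) := ⟨Nat.prime_five⟩
  haveI : Fact (Nat.Prime 3) := ⟨Nat.prime_three⟩
  haveI : Fact (Nat.Prime 2) := ⟨Nat.prime_two⟩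
  haveI : Nontrivial G := Finite.one_lt_card_iff_nontrivial.1 (by rw [hord]; norm_num)
  have hP : ∀ R : Sylow 11 G, Nat.card (R : Subgroup G) = 11 := fun R => by
    simpa using sylow_prime hord 11 1 (by norm_num) (by norm_num) R
  have hQ : ∀ R : Sylow 5 G, Nat.card (R : Subgroup G) = 5 := fun R => by
    simpa using sylow_prime hord 5 1 (by norm_num) (by norm_num) R
  by_cases hs : IsSimpleGroup G
  · have := card_sylow_eleven (G := G) ⟨hs, hord⟩
    rw [hn] at this; norm_num at this
  have hd : ∀ K : Subgroup G, Nat.card K ∣ 7920 := fun K => hord ▸ Subgroup.card_subgroup_dvd_card K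
  -- proper normal subgroups have order 3960
  have hfive : ∀ K : Subgroup G, K.Normal → K ≠ ⊥ → 5 ∣ Nat.card K := by
    intro K hK hK1
    by_contra h5
    have h11 : ¬ 11 ∣ Nat.card K := fun h11 => h5 (by
      obtain ⟨R, -, hR⟩ := card_sylow_mul_of_normal hK hP h11
      rw [hn] at hR
      exact ⟨9 * _, by rw [← hR]; ring⟩)
    have hK144 : Nat.card K ∣ 144 := by
      refine (Nat.Coprime.mul_right (n := 11) (m := 5)
        ((Nat.Prime.coprime_iff_not_dvd Nat.prime_five).2 h5).symm
        ((Nat.Prime.coprime_iff_not_dvd (by norm_num)).2 h11).symm).dvd_of_dvd_mul_right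
        (show Nat.card K ∣ 144 * 55 from hd K)
    by_cases h3 : 3 ∣ Nat.card K
    · have h := Nat.ordProj_dvd (Nat.card K) 3
      have h' := Nat.pow_succ_factorization_not_dvd (Nat.card_pos (α := K)).ne' Nat.prime_three
      generalize (Nat.card K).factorization 3 = k at h h'
      refine h53 (linked_of_normal hK (by rw [hord]; norm_num) h5 h h' ?_)
      have hk : k ≤ 2 := by
        by_contra hlt
        exact absurd (((Nat.pow_dvd_pow 3 (by omega : 3 ≤ k))).trans (h.trans hK144)) (by norm_num)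
      have hk0 : k ≠ 0 := by rintro rfl; exact h' (by simpa using h3)
      interval_cases k <;> first | omega | norm_num
    have hK16 : Nat.card K ∣ 2 ^ 4 :=
      (Nat.Coprime.pow_left 2 ((Nat.Prime.coprime_iff_not_dvd Nat.prime_three).2 h3)).symm.dvd_of_dvd_mul_right
        (show Nat.card K ∣ 2 ^ 4 * 3 ^ 2 from hK144)
    obtain ⟨k, hk, hk'⟩ := (Nat.dvd_prime_pow Nat.prime_two).1 hK16
    have hk0 : k ≠ 0 := by rintro rfl; exact hK1 (Subgroup.eq_bot_of_card_eq K (by simpa using hk'))
    by_cases hk4 : k = 4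
    · obtain ⟨P⟩ := (inferInstance : Nonempty (Sylow 11 G))
      obtain ⟨x, hx⟩ := exists_prime_orderOf_dvd_card' (G := (P : Subgroup G)) 11 (dvd_of_eq (hP P).symm)
      have hxo : orderOf (x : G) = 11 := by rw [Subgroup.orderOf_coe, hx]
      have hle := le_centralizer_of_small hxo (Q := K)
        (by rw [Subgroup.normalizer_eq_top_iff.2 hK]; trivial) (Or.inr (by rw [hk', hk4]; norm_num))
      have hKC : K ≤ Subgroup.centralizer ((P : Subgroup G) : Set G) := by
        rw [← centralizer_eq_of_zpowers (zpowers_eq_of_prime (hP P) x.2 fun e => by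
          rw [e, orderOf_one] at hxo; norm_num at hxo)] at hle
        exact hle
      have := Subgroup.card_dvd_of_le hKC
      rw [hk', hk4, hC88 P] at this
      norm_num at this
    · refine h52 (linked_of_normal hK (by rw [hord]; norm_num) h5 (k := k) (dvd_of_eq hk'.symm)
        (by rw [hk']; exact fun h => absurd ((Nat.pow_dvd_pow_iff_le_right (by norm_num)).1 h) (by omega)) ?_)
      interval_cases k <;> first | omega | norm_num
  have hfull : ∀ K : Subgroup G, K.Normal → K ≠ ⊥ → K ≠ ⊤ → Nat.card K = 3960 := by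
    intro K hK hK1 hK2
    obtain ⟨Q, hsub, hcK⟩ := card_sylow_mul_of_normal hK hQ (hfive K hK hK1)
    rw [hn5] at hcK
    set c := Nat.card ↥(K ⊓ Subgroup.normalizer ((Q : Subgroup G) : Set G))
    have hNQ : Nat.card (Subgroup.normalizer ((Q : Subgroup G) : Set G)) = 20 := by
      have h : Nat.card (Sylow 5 G) * Nat.card (Subgroup.normalizer ((Q : Subgroup G) : Set G)) = 7920 := by
        rw [Q.card_eq_index_normalizer, ← hord]; exact Subgroup.index_mul_card _
      rw [hn5] at h; omega
    have hc20 : c ∣ 20 := hNQ ▸ Subgroup.card_dvd_of_le inf_le_right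
    have hc5 : 5 ∣ c := hQ Q ▸ Subgroup.card_dvd_of_le (le_inf (hsub Q) Subgroup.le_normalizer)
    have hne : c ≠ 20 := fun e => hK2 (Subgroup.eq_top_of_card_eq K (by rw [← hcK, e, hord]))
    have hne5 : c ≠ 5 := by
      intro e
      have hcent : K ⊓ Subgroup.normalizer ((Q : Subgroup G) : Set G) ≤
          Subgroup.centralizer ((Q : Subgroup G) : Set G) := by
        have he := Subgroup.eq_of_le_of_card_ge
          (le_inf (hsub Q) Subgroup.le_normalizer :
            (Q : Subgroup G) ≤ K ⊓ Subgroup.normalizer ((Q : Subgroup G) : Set G))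
          (by rw [hQ Q]; exact e.le)
        rw [← he]
        intro a ha b hb
        haveI : IsCyclic (Q : Subgroup G) := isCyclic_of_prime_card (hQ Q)
        exact congrArg Subtype.val ((IsCyclic.commGroup (α := (Q : Subgroup G))).mul_comm ⟨b, hb⟩ ⟨a, ha⟩)
      obtain ⟨L, hLn, -, hLc⟩ := exists_complement (hQ Q) (hsub Q)
        (fun h => absurd (h.trans (hd K)) (by norm_num)) hK hcent
      rw [← hcK, e] at hLc
      have := hfive L hLn fun e' => by rw [e', Subgroup.card_bot] at hLc; norm_num at hLc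
      rw [show Nat.card L = 396 by omega] at this
      norm_num at this
    have := Nat.le_of_dvd (by norm_num) hc20
    have key : ∀ c ≤ 20, c ∣ 20 → 5 ∣ c → c ≠ 20 → c ≠ 5 → c = 10 := by decide +kernel
    rw [← hcK, key c this hc20 hc5 hne hne5]
  obtain ⟨M, hM, hM1, hM2⟩ : ∃ M : Subgroup G, M.Normal ∧ M ≠ ⊥ ∧ M ≠ ⊤ := by
    by_contra hcon
    push Not at hcon
    exact hs ⟨fun K hK => (em (K = ⊥)).imp id fun h => hcon K hK h⟩
  have hMc := hfull M hM hM1 hM2
  have hMi : M.index = 2 := by
    have := M.index_mul_card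
    rw [hMc, hord] at this
    omega
  obtain ⟨P₀, hsub11, hcM⟩ := card_sylow_mul_of_normal hM hP (by rw [hMc]; norm_num)
  obtain ⟨Q₀, hsub5, -⟩ := card_sylow_mul_of_normal hM hQ (by rw [hMc]; norm_num)
  haveI := hM
  haveI : IsSimpleGroup M := by
    haveI : Nontrivial M := Finite.one_lt_card_iff_nontrivial.1 (by rw [hMc]; norm_num)
    refine ⟨fun R hR => ?_⟩
    by_contra hcon
    push Not at hcon
    obtain ⟨hR1, hR2⟩ := hcon
    set R₁ := R.map M.subtype with hR₁
    have hR₁c : Nat.card R₁ = Nat.card R := Subgroup.card_map_of_injective (Subgroup.subtype_injective M)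
    have hR₁M : R₁ ≤ M := Subgroup.map_subtype_le R
    have hMR : ∀ m ∈ M, ∀ r ∈ R₁, m * r * m⁻¹ ∈ R₁ := by
      rintro m hm - ⟨r, hr, rfl⟩
      exact ⟨⟨m, hm⟩ * r * ⟨m, hm⟩⁻¹, hR.conj_mem r hr _, rfl⟩
    obtain ⟨g, hg⟩ : ∃ g, g ∉ M := by
      by_contra h
      push Not at h
      exact hM2 (eq_top_iff.2 fun a _ => h a)
    set R₂ := R₁.map (MulAut.conj g).toMonoidHom with hR₂
    have hmem2 : ∀ a, a ∈ R₂ ↔ g⁻¹ * a * g ∈ R₁ := by
      intro a
      constructor
      · rintro ⟨r, hr, rfl⟩
        simpa [mul_assoc] using hr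
      · intro h
        exact ⟨_, h, by simp [mul_assoc]⟩
    have hR₂M : R₂ ≤ M := fun a ha => by
      have := hM.conj_mem _ (hR₁M ((hmem2 a).1 ha)) g
      simpa [mul_assoc] using this
    have hMR2 : ∀ m ∈ M, ∀ a ∈ R₂, m * a * m⁻¹ ∈ R₂ := by
      intro m hm a ha
      rw [hmem2] at ha ⊢
      have hm' : g⁻¹ * m * g ∈ M := by simpa using hM.conj_mem m hm g⁻¹
      have := hMR _ hm' _ ha
      simpa [mul_assoc] using this
    have hg2 : g * g ∈ M := Subgroup.mul_self_mem_of_index_two hMi g
    set I := R₁ ⊓ R₂ with hI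
    have hnorm : I.Normal := by
      refine ⟨fun a ha h => ?_⟩
      have hgI : ∀ b ∈ I, g * b * g⁻¹ ∈ I := fun b hb => by
        refine ⟨?_, (hmem2 _).2 (by simpa [mul_assoc] using hb.1)⟩
        have := hMR _ hg2 _ ((hmem2 b).1 hb.2)
        simpa [mul_assoc] using this
      by_cases hh : h ∈ M
      · exact ⟨hMR h hh a ha.1, hMR2 h hh a ha.2⟩
      · have hm : h * g⁻¹ ∈ M := by
          refine (Subgroup.mul_mem_iff_of_index_two hMi).2 (iff_of_false hh fun h' => hg ?_)
          simpa using inv_mem h'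
        have hb := hgI a ha
        have := (⟨hMR _ hm _ hb.1, hMR2 _ hm _ hb.2⟩ : (h * g⁻¹) * (g * a * g⁻¹) * (h * g⁻¹)⁻¹ ∈ I)
        exact Subgroup.mem_inf.2 (by simpa [mul_assoc] using this)
    have hRlt : Nat.card R < 3960 := by
      rw [← hMc]
      refine lt_of_le_of_ne (Nat.le_of_dvd Nat.card_pos (Subgroup.card_subgroup_dvd_card R)) fun e => hR2 ?_
      exact Subgroup.eq_top_of_card_eq R e
    have hIbot : I = ⊥ := by
      by_contra hI1
      have hle : Nat.card I ≤ Nat.card R₁ := Nat.le_of_dvd Nat.card_pos (Subgroup.card_dvd_of_le inf_le_left)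
      have hItop : I ≠ ⊤ := fun e => hM2 (eq_top_iff.2 (e ▸ inf_le_left.trans hR₁M))
      rw [hfull I hnorm hI1 hItop] at hle
      omega
    have hcomm : ∀ a : R₁, ∀ b : R₂, Commute (R₁.subtype a) (R₂.subtype b) := by
      intro a b
      have h : (a : G) * b * (a : G)⁻¹ * (b : G)⁻¹ ∈ I := by
        refine Subgroup.mem_inf.2 ⟨?_, mul_mem (hMR2 _ (hR₁M a.2) _ b.2) (inv_mem b.2)⟩
        have e : (a : G) * b * (a : G)⁻¹ * (b : G)⁻¹ = (a : G) * ((b : G) * (a : G)⁻¹ * (b : G)⁻¹) := by group
        show (a : G) * b * (a : G)⁻¹ * (b : G)⁻¹ ∈ R₁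
        rw [e]
        exact mul_mem a.2 (hMR _ (hR₂M b.2) _ (inv_mem a.2))
      rw [hIbot, Subgroup.mem_bot] at h
      exact mul_inv_eq_iff_eq_mul.1 (mul_inv_eq_one.1 h)
    set φ : R₁ × R₂ →* G := MonoidHom.noncommCoprod R₁.subtype R₂.subtype hcomm with hφ
    have hinj : Function.Injective φ := by
      rw [injective_iff_map_eq_one]
      rintro ⟨a, b⟩ h
      rw [hφ, MonoidHom.noncommCoprod_apply] at h
      have ha : (a : G) ∈ I := Subgroup.mem_inf.2 ⟨a.2, by
        rw [show (a : G) = (b : G)⁻¹ from eq_inv_of_mul_eq_one_left h]; exact inv_mem b.2⟩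
      rw [hIbot, Subgroup.mem_bot] at ha
      simp only [Subgroup.coe_subtype, ha, one_mul] at h
      exact Prod.ext (Subtype.ext ha) (Subtype.ext h)
    have hrange : φ.range ≤ M := by
      rintro - ⟨⟨a, b⟩, rfl⟩
      exact mul_mem (hR₁M a.2) (hR₂M b.2)
    have hsq : Nat.card R * Nat.card R ∣ 3960 := by
      have h1 : Nat.card φ.range = Nat.card R₁ * Nat.card R₂ := by
        rw [← Nat.card_congr (MonoidHom.ofInjective hinj).toEquiv, Nat.card_prod]
      have h2 := Subgroup.card_dvd_of_le hrange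
      have h3 : Nat.card R₂ = Nat.card R₁ :=
        Subgroup.card_map_of_injective (f := (MulAut.conj g).toMonoidHom) (MulAut.conj g).injective
      rw [h1, h3, hR₁c, hMc] at h2
      exact h2
    have hR6 : Nat.card R ≤ 6 := by
      have hle : Nat.card R ≤ 62 := by
        by_contra hlt
        have := Nat.le_of_dvd (by norm_num) hsq
        have := Nat.mul_le_mul (show 63 ≤ Nat.card R by omega) (show 63 ≤ Nat.card R by omega)
        omega
      have key : ∀ r ≤ 62, r * r ∣ 3960 → r ≤ 6 := by decide +kernel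
      exact key _ hle hsq
    obtain ⟨x, hx⟩ := exists_prime_orderOf_dvd_card' (G := (P₀ : Subgroup G)) 11 (dvd_of_eq (hP P₀).symm)
    have hxo : orderOf (x : G) = 11 := by rw [Subgroup.orderOf_coe, hx]
    have hxM : (x : G) ∈ M := hsub11 P₀ x.2
    have hxN : (x : G) ∈ Subgroup.normalizer (R₁ : Set G) := by
      refine Subgroup.mem_normalizer_iff.2 fun r => ⟨hMR _ hxM r, fun h => ?_⟩
      simpa [mul_assoc] using hMR _ (inv_mem hxM) _ h
    have hle := le_centralizer_of_small hxo hxN (Or.inl (by rw [hR₁c]; exact hR6))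
    rw [← centralizer_eq_of_zpowers (zpowers_eq_of_prime (hP P₀) x.2 fun e => by
      rw [e, orderOf_one] at hxo; norm_num at hxo)] at hle
    have h88 := Subgroup.card_dvd_of_le hle
    rw [hC88 P₀, hR₁c] at h88
    have h2 : Nat.card R = 2 := by
      have hne : Nat.card R ≠ 1 := fun e => hR1 (Subgroup.eq_bot_of_card_eq R e)
      have key : ∀ r ≤ 6, r * r ∣ 3960 → r ∣ 88 → r ≠ 1 → r = 2 := by decide +kernel
      exact key _ hR6 hsq h88 hne
    obtain ⟨t, ht⟩ := exists_prime_orderOf_dvd_card' (G := (Q₀ : Subgroup G)) 5 (dvd_of_eq (hQ Q₀).symm)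
    have hto : orderOf (t : G) = 5 := by rw [Subgroup.orderOf_coe, ht]
    have htN : (t : G) ∈ Subgroup.normalizer (R₁ : Set G) := by
      refine Subgroup.mem_normalizer_iff.2 fun r => ⟨hMR _ (hsub5 Q₀ t.2) r, fun h => ?_⟩
      simpa [mul_assoc] using hMR _ (inv_mem (hsub5 Q₀ t.2)) _ h
    obtain ⟨r, hr, hr1, hrc⟩ := exists_fixed_of_normalizes hto htN (by rw [hR₁c, h2]; norm_num)
    refine h52 ⟨t, r, hto, orderOf_eq_prime ?_ hr1, hrc⟩
    exact orderOf_dvd_iff_pow_eq_one.1 ((Subgroup.orderOf_dvd_natCard _ hr).trans (by rw [hR₁c, h2]))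
  refine false_of_simple (H := M) hMc ?_ ?_
  · show Nat.card (Sylow 11 M) = 45
    have hcN : Nat.card (Sylow 11 G) * Nat.card ↥(M ⊓ Subgroup.normalizer ((P₀ : Subgroup G) : Set G)) =
      Nat.card M := hcM
    rw [(P₀.subtype (hsub11 P₀)).card_eq_index_normalizer]
    have he : Subgroup.normalizer ((P₀.subtype (hsub11 P₀) : Sylow 11 M) : Set M) =
        (Subgroup.normalizer ((P₀ : Subgroup G) : Set G)).subgroupOf M :=
      (Subgroup.subgroupOf_normalizer_eq (hsub11 P₀)).symm
    rw [he]
    have h := Subgroup.index_mul_card ((Subgroup.normalizer ((P₀ : Subgroup G) : Set G)).subgroupOf M)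
    have h' : Nat.card ↥((Subgroup.normalizer ((P₀ : Subgroup G) : Set G)).subgroupOf M) =
        Nat.card ↥(M ⊓ Subgroup.normalizer ((P₀ : Subgroup G) : Set G)) := by
      rw [← Subgroup.inf_subgroupOf_left]
      exact Nat.card_congr (Subgroup.subgroupOfEquivOfLe inf_le_left).toEquiv
    rw [h', ← hcN, hn] at h
    exact Nat.eq_of_mul_eq_mul_right Nat.card_pos h
  · have h5 : Nat.card {g : G // orderOf g = 5} = 1584 := by
      rw [card_orderOf_prime hQ, hn5]
    refine h5.ge.trans ?_
    refine Nat.card_le_card_of_injective (fun g => ⟨⟨g.1, ?_⟩, ?_⟩) fun a b h =>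
      Subtype.ext (congrArg (fun z : {g : M // orderOf g = 5} => ((z.1 : M) : G)) h)
    · obtain ⟨Q, hQle⟩ := (IsPGroup.of_card (n := 1) (p := 5)
        (by rw [Nat.card_zpowers, g.2, pow_one]) : IsPGroup 5 (Subgroup.zpowers (g : G))).exists_le_sylow
      exact hsub5 Q (hQle (Subgroup.mem_zpowers _))
    · rw [← Subgroup.orderOf_coe]; exact g.2

/-- The prime graph of a non-simple group of order 7920 is connected. -/
theorem iff_of_not_simple (hord : Nat.card G = 7920) (hs : ¬ IsSimpleGroup G) {A : Set ℕ}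
    (hlink : ∀ p q, p.Prime → q.Prime → p ∣ 7920 → q ∣ 7920 → p ≠ q → Linked G p q → (p ∈ A ↔ q ∈ A)) :
    (2 ∈ A ↔ 11 ∈ A) ∧ (3 ∈ A ↔ 11 ∈ A) ∧ (5 ∈ A ↔ 11 ∈ A) := by
  classical
  haveI : Fact (Nat.Prime 11) := ⟨by norm_num⟩
  haveI : Fact (Nat.Prime 5) := ⟨Nat.prime_five⟩
  haveI : Fact (Nat.Prime 3) := ⟨Nat.prime_three⟩
  haveI : Fact (Nat.Prime 2) := ⟨Nat.prime_two⟩
  have e112 : Linked G 11 2 → (2 ∈ A ↔ 11 ∈ A) := fun h =>
    (hlink 11 2 (by norm_num) Nat.prime_two (by norm_num) (by norm_num) (by norm_num) h).symm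
  have e113 : Linked G 11 3 → (3 ∈ A ↔ 11 ∈ A) := fun h =>
    (hlink 11 3 (by norm_num) Nat.prime_three (by norm_num) (by norm_num) (by norm_num) h).symm
  have e115 : Linked G 11 5 → (5 ∈ A ↔ 11 ∈ A) := fun h =>
    (hlink 11 5 (by norm_num) Nat.prime_five (by norm_num) (by norm_num) (by norm_num) h).symm
  have e52 : Linked G 5 2 → (5 ∈ A ↔ 2 ∈ A) :=
    hlink 5 2 Nat.prime_five Nat.prime_two (by norm_num) (by norm_num) (by norm_num)
  have e53 : Linked G 5 3 → (5 ∈ A ↔ 3 ∈ A) :=
    hlink 5 3 Nat.prime_five Nat.prime_three (by norm_num) (by norm_num) (by norm_num)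
  have e32 : Linked G 3 2 → (3 ∈ A ↔ 2 ∈ A) :=
    hlink 3 2 Nat.prime_three Nat.prime_two (by norm_num) (by norm_num) (by norm_num)
  have hP : ∀ R : Sylow 11 G, Nat.card (R : Subgroup G) = 11 := fun R => by
    simpa using sylow_prime hord 11 1 (by norm_num) (by norm_num) R
  obtain ⟨P⟩ := (inferInstance : Nonempty (Sylow 11 G))
  set N := Subgroup.normalizer ((P : Subgroup G) : Set G) with hNdef
  set C := Subgroup.centralizer ((P : Subgroup G) : Set G) with hCdef
  have hmul : Nat.card (Sylow 11 G) * Nat.card N = 7920 := by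
    rw [P.card_eq_index_normalizer, ← hord]; exact Subgroup.index_mul_card _
  have hCN : Nat.card C ∣ Nat.card N := Subgroup.card_dvd_of_le (Subgroup.centralizer_le_normalizer _)
  have hNC : Nat.card N ∣ Nat.card C * (11 - 1) := card_normalizer_dvd (P : Subgroup G) (hP P)
  have hC7 : Nat.card C ∣ 7920 := hord ▸ Subgroup.card_subgroup_dvd_card C
  obtain ⟨x, hx⟩ := exists_prime_orderOf_dvd_card' (G := (P : Subgroup G)) 11 (dvd_of_eq (hP P).symm)
  have hxo : orderOf (x : G) = 11 := by rw [Subgroup.orderOf_coe, hx]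
  have hq : ∀ q, [Fact q.Prime] → q ∣ Nat.card C → Linked G 11 q := fun q _ h =>
    linked_of_dvd_centralizer x.2 hxo h
  have hidx : (P : Subgroup G).index = 720 := by
    have h := (P : Subgroup G).index_mul_card
    rw [hP P, hord] at h
    omega
  have hnd : Nat.card (Sylow 11 G) ∣ 720 := hidx ▸ P.card_dvd_index
  have hmod : Nat.card (Sylow 11 G) % 11 = 1 := card_sylow_modEq_one 11 G
  have key : ∀ n ≤ 720, n ∣ 720 → n % 11 = 1 → n = 1 ∨ n = 12 ∨ n = 45 ∨ n = 144 := by decide +kernel
  rcases key _ (Nat.le_of_dvd (by norm_num) hnd) hnd hmod with hn | hn | hn | hn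
  · -- normal Sylow 11-subgroup
    rw [hn, one_mul] at hmul
    rw [hmul] at hNC
    have h792 : 792 ∣ Nat.card C := Nat.dvd_of_mul_dvd_mul_right (by norm_num : 0 < 10)
      (show 792 * 10 ∣ Nat.card C * 10 from hNC)
    have h2 := e112 (hq 2 ((by norm_num : 2 ∣ 792).trans h792))
    have h3 := e113 (hq 3 ((by norm_num : 3 ∣ 792).trans h792))
    refine ⟨h2, h3, ?_⟩
    by_cases h5 : 5 ∣ Nat.card C
    · exact e115 (hq 5 h5)
    have hPn : (P : Subgroup G).Normal := Subgroup.normalizer_eq_top_iff.1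
      (Subgroup.eq_top_of_card_eq N (by rw [hmul, hord]))
    haveI := hPn
    have hCn : C.Normal := Subgroup.normal_centralizer
    refine (e53 (linked_of_normal hCn (by rw [hord]; norm_num) h5 (k := 2)
      ((by norm_num : 3 ^ 2 ∣ 792).trans h792) (fun h => absurd (h.trans hC7) (by norm_num)) (by norm_num))).trans h3
  · rw [hn] at hmul
    have hN : Nat.card N = 660 := by omega
    rw [hN] at hNC hCN
    have h66 : 66 ∣ Nat.card C := Nat.dvd_of_mul_dvd_mul_right (by norm_num : 0 < 10)
      (show 66 * 10 ∣ Nat.card C * 10 from hNC)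
    have h2 := e112 (hq 2 ((by norm_num : 2 ∣ 66).trans h66))
    have h3 := e113 (hq 3 ((by norm_num : 3 ∣ 66).trans h66))
    refine ⟨h2, h3, ?_⟩
    by_cases h5 : 5 ∣ Nat.card C
    · exact e115 (hq 5 h5)
    have hCn : (C.subgroupOf N).Normal := by
      rw [hCdef, hNdef, ← Subgroup.normalizerMonoidHom_ker]
      exact MonoidHom.normal_ker _
    have hc : Nat.card (C.subgroupOf N) = Nat.card C :=
      Nat.card_congr (Subgroup.subgroupOfEquivOfLe (Subgroup.centralizer_le_normalizer _)).toEquiv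
    refine (e53 (Linked.map (linked_of_normal hCn (by rw [hN]; norm_num) (by rwa [hc]) (k := 1)
      (by rw [hc]; exact (by norm_num : 3 ^ 1 ∣ 66).trans h66)
      (by rw [hc]; exact fun h => absurd (h.trans hCN) (by norm_num)) (by norm_num)))).trans h3
  · rw [hn] at hmul
    have hN : Nat.card N = 176 := by omega
    rw [hN] at hNC hCN
    have hC : Nat.card C = 88 ∨ Nat.card C = 176 := by
      have := Nat.le_of_dvd (by norm_num) hCN
      have key : ∀ c ≤ 176, c ∣ 176 → 176 ∣ c * (11 - 1) → c = 88 ∨ c = 176 := by decide +kernel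
      exact key _ this hCN hNC
    have h2 : 2 ∈ A ↔ 11 ∈ A := e112 (hq 2 (by rcases hC with h | h <;> rw [h] <;> norm_num))
    rcases hC with hC | hC
    swap
    · obtain ⟨K, hKn, -, hKc⟩ := exists_complement (M := ⊤) (hP P) le_top
        (by rw [Subgroup.card_top, hord]; norm_num) inferInstance
        (by rw [top_inf_eq]; exact (Subgroup.eq_of_le_of_card_ge (Subgroup.centralizer_le_normalizer _)
          (by rw [← hNdef, hN, hC])).ge)
      rw [Subgroup.card_top, hord] at hKc
      have hK : Nat.card K = 720 := by omega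
      refine ⟨h2, e113 (linked_of_normal hKn (by rw [hord]; norm_num) (by rw [hK]; norm_num) (k := 2)
        (by rw [hK]; norm_num) (by rw [hK]; norm_num) (by norm_num)),
        e115 (linked_of_normal hKn (by rw [hord]; norm_num) (by rw [hK]; norm_num) (k := 1)
        (by rw [hK]; norm_num) (by rw [hK]; norm_num) (by norm_num))⟩
    -- `|C(P)| = 88`
    have hC88 : ∀ R : Sylow 11 G, Nat.card (Subgroup.centralizer ((R : Subgroup G) : Set G)) = 88 := by
      intro R
      have hR : Nat.card (Subgroup.normalizer ((R : Subgroup G) : Set G)) = 176 := by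
        have h : Nat.card (Sylow 11 G) * Nat.card (Subgroup.normalizer ((R : Subgroup G) : Set G)) = 7920 := by
          rw [R.card_eq_index_normalizer, ← hord]; exact Subgroup.index_mul_card _
        rw [hn] at h; omega
      obtain ⟨g, rfl⟩ := MulAction.exists_smul_eq G P R
      rw [← hC, hCdef]
      refine Nat.card_congr
        { toFun := fun a => ⟨g⁻¹ * a * g, fun p hp => by
            have hm : g * p * g⁻¹ ∈ ((g • P : Sylow 11 G) : Subgroup G) := by
              rw [Sylow.coe_subgroup_smul, Subgroup.mem_smul_pointwise_iff_exists]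
              exact ⟨p, hp, rfl⟩
            have h := a.2 _ hm
            calc p * (g⁻¹ * a * g) = g⁻¹ * ((g * p * g⁻¹) * a) * g := by group
              _ = g⁻¹ * a * g * p := by rw [h]; group⟩
          invFun := fun a => ⟨g * a * g⁻¹, fun p hp => by
            rw [SetLike.mem_coe, Sylow.coe_subgroup_smul, Subgroup.mem_smul_pointwise_iff_exists] at hp
            obtain ⟨p', hp', rfl⟩ := hp
            have h := a.2 p' hp'
            show g * p' * g⁻¹ * (g * a * g⁻¹) = g * a * g⁻¹ * (g * p' * g⁻¹)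
            calc g * p' * g⁻¹ * (g * a * g⁻¹) = g * (p' * a) * g⁻¹ := by group
              _ = g * a * g⁻¹ * (g * p' * g⁻¹) := by rw [h]; group⟩
          left_inv := fun a => Subtype.ext (show g * (g⁻¹ * a * g) * g⁻¹ = a by group)
          right_inv := fun a => Subtype.ext (show g⁻¹ * (g * a * g⁻¹) * g = a by group) }
    have h113 : ¬ Linked G 11 3 := fun h => by
      have h' : 3 ∣ Nat.card C := dvd_centralizer_of_linked P hP h
      rw [hC] at h'; norm_num at h'
    have hthree : Linked G 3 2 ∨ Linked G 3 5 := by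
      rcases linked_three hord with h | h | h
      · exact Or.inl h
      · exact Or.inr h
      · exact absurd h.symm h113
    by_cases h52 : Linked G 5 2
    · have h5 := (e52 h52).trans h2
      rcases hthree with h | h
      · exact ⟨h2, (e32 h).trans h2, h5⟩
      · exact ⟨h2, (e53 h.symm).symm.trans h5, h5⟩
    exfalso
    -- the centralizer of an element of order 5
    have hQ : ∀ R : Sylow 5 G, Nat.card (R : Subgroup G) = 5 := fun R => by
      simpa using sylow_prime hord 5 1 (by norm_num) (by norm_num) R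
    obtain ⟨Q⟩ := (inferInstance : Nonempty (Sylow 5 G))
    set NQ := Subgroup.normalizer ((Q : Subgroup G) : Set G)
    set CQ := Subgroup.centralizer ((Q : Subgroup G) : Set G)
    have hodd : ¬ 2 ∣ Nat.card CQ := fun h => by
      obtain ⟨y, hy⟩ := exists_prime_orderOf_dvd_card' (G := (Q : Subgroup G)) 5 (dvd_of_eq (hQ Q).symm)
      exact h52 (linked_of_dvd_centralizer y.2 (by rw [Subgroup.orderOf_coe, hy]) h)
    have h11 : ¬ 11 ∣ Nat.card CQ := fun h => by
      obtain ⟨y, hy⟩ := exists_prime_orderOf_dvd_card' (G := (Q : Subgroup G)) 5 (dvd_of_eq (hQ Q).symm)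
      have hl := linked_of_dvd_centralizer (q := 11) y.2 (by rw [Subgroup.orderOf_coe, hy]) h
      have h' : 5 ∣ Nat.card C := dvd_centralizer_of_linked P hP hl.symm
      rw [hC] at h'; norm_num at h'
    have hCQ45 : Nat.card CQ ∣ 45 :=
      (Nat.Coprime.mul_right (n := 11) (m := 16)
        (Nat.Coprime.pow_right 4 ((Nat.Prime.coprime_iff_not_dvd Nat.prime_two).2 hodd).symm)
        ((Nat.Prime.coprime_iff_not_dvd (by norm_num)).2 h11).symm).dvd_of_dvd_mul_right
        (show Nat.card CQ ∣ 45 * 176 from (Subgroup.card_subgroup_dvd_card CQ).trans (dvd_of_eq hord))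
    have hNQ : Nat.card NQ ∣ Nat.card CQ * (5 - 1) := card_normalizer_dvd (Q : Subgroup G) (hQ Q)
    have hmulQ : Nat.card (Sylow 5 G) * Nat.card NQ = 7920 := by
      rw [Q.card_eq_index_normalizer, ← hord]; exact Subgroup.index_mul_card _
    have hNQ180 : Nat.card NQ ∣ 180 := hNQ.trans (Nat.mul_dvd_mul_right hCQ45 4)
    have hmod5 : Nat.card (Sylow 5 G) % 5 = 1 := card_sylow_modEq_one 5 G
    have h5N : 5 ∣ Nat.card NQ := hQ Q ▸ Subgroup.card_dvd_of_le Subgroup.le_normalizer
    have hNQ' : Nat.card NQ = 20 ∨ Nat.card NQ = 45 := by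
      have key : ∀ m ≤ 180, m ∣ 180 → 5 ∣ m → (7920 / m) % 5 = 1 → m = 20 ∨ m = 45 := by decide +kernel
      refine key _ (Nat.le_of_dvd (by norm_num) hNQ180) hNQ180 h5N ?_
      rw [← hmulQ, Nat.mul_div_cancel _ Nat.card_pos, hmod5]
    have hCQN : Nat.card CQ ∣ Nat.card NQ := Subgroup.card_dvd_of_le (Subgroup.centralizer_le_normalizer _)
    rcases hNQ' with hNQ' | hNQ'
    · rw [hNQ'] at hmulQ hCQN
      have hn5 : Nat.card (Sylow 5 G) = 396 := by omega
      have hCQ5 : Nat.card CQ ∣ 5 := (Nat.dvd_gcd hCQ45 hCQN).trans (by norm_num)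
      have h53 : ¬ Linked G 5 3 := fun h => by
        have h3 : 3 ∣ Nat.card CQ := dvd_centralizer_of_linked Q hQ h
        exact absurd (h3.trans hCQ5) (by norm_num)
      exact false_of_fortyFive_isolated hord hn hC88 h52 h53 hn5
    · rw [hNQ'] at hNQ hCQN
      have hCQ : Nat.card CQ = 45 := by
        have key : ∀ c ≤ 45, c ∣ 45 → 45 ∣ c * (5 - 1) → c = 45 := by decide +kernel
        exact key _ (Nat.le_of_dvd (by norm_num) hCQ45) hCQ45 hNQ
      obtain ⟨K, hKn, -, hKc⟩ := exists_complement (M := ⊤) (hQ Q) le_top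
        (by rw [Subgroup.card_top, hord]; norm_num) inferInstance
        (by rw [top_inf_eq]; exact (Subgroup.eq_of_le_of_card_ge (Subgroup.centralizer_le_normalizer _)
          (show Nat.card NQ ≤ Nat.card CQ by rw [hNQ', hCQ])).ge)
      rw [Subgroup.card_top, hord] at hKc
      obtain ⟨R, -, hR⟩ := card_sylow_mul_of_normal hKn hP (by rw [show Nat.card K = 1584 by omega]; norm_num)
      rw [hn, show Nat.card K = 1584 by omega] at hR
      omega
  · exact absurd (isSimple_of_card_sylow hord hn) hs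

end Cfsg.Agent.H69.M11
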