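import Cfsg.Agent.H69.M11.Sylow

/-!
The Sylow 5- and Sylow 3-numbers in a simple group of order 7920.
-/

set_option autoImplicit false

namespace Cfsg.Agent.H69.M11

open Subgroup MulAction

instance factFive : Fact (Nat.Prime 5) := ⟨by norm_num⟩
instance factThree' : Fact (Nat.Prime 3) := ⟨Nat.prime_three⟩

variable {G : Type*} [Group G] [Finite G]

theorem card_five (hG : Cfsg.IsM11 G) (Q : Sylow 5 G) : Nat.card (Q : Subgroup G) = 5 := by
  simpa using card_sylow_eq (k := 1) hG (by norm_num) (by norm_num) Q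

/-- Elements of order 11 only commute with their powers. -/
theorem mem_zpowers_of_commute_eleven (hG : Cfsg.IsM11 G) {x g : G} (hx : orderOf x = 11)
    (h : Commute g x) : g ∈ Subgroup.zpowers x := by
  have hc : Nat.card (Subgroup.zpowers x) = 11 ^ 1 := by rw [Nat.card_zpowers, hx, pow_one]
  obtain ⟨P, hP⟩ := (IsPGroup.of_card hc).exists_le_sylow
  have heq : Subgroup.zpowers x = P :=
    Subgroup.eq_of_le_of_card_ge hP (by rw [card_eleven hG P, hc, pow_one])
  have hC := centralizer_eq_of_zpowers heq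
  rw [centralizer_eleven hG P] at hC
  have : g ∈ Subgroup.centralizer ({x} : Set G) :=
    Subgroup.mem_centralizer_singleton_iff.2 h.eq
  rwa [← hC, ← heq] at this

theorem orderOf_dvd_of_commute_eleven (hG : Cfsg.IsM11 G) {x g : G} (hx : orderOf x = 11)
    (h : Commute g x) : orderOf g ∣ 11 := by
  have := orderOf_dvd_of_mem_zpowers (mem_zpowers_of_commute_eleven hG hx h)
  rwa [hx] at this

theorem card_sylow_five (hG : Cfsg.IsM11 G) : Nat.card (Sylow 5 G) = 396 := by
  classical
  haveI := hG.1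
  haveI := Fintype.ofFinite (Sylow 11 G)
  obtain ⟨P⟩ := (inferInstance : Nonempty (Sylow 11 G))
  set H := Subgroup.normalizer ((P : Subgroup G) : Set G) with hH
  have hH55 : Nat.card H = 55 := card_normalizer_eleven hG P
  obtain ⟨t₀, ht₀⟩ := exists_prime_orderOf_dvd_card' (G := H) 5 (by rw [hH55]; norm_num)
  set t : G := (t₀ : G) with htdef
  have ht : orderOf t = 5 := by rw [htdef, Subgroup.orderOf_coe, ht₀]
  have htP : t • P = P := Sylow.smul_eq_iff_mem_normalizer.2 t₀.2
  obtain ⟨x₀, hx₀⟩ := exists_prime_orderOf_dvd_card' (G := (P : Subgroup G)) 11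
    (dvd_of_eq (card_eleven hG P).symm)
  set x : G := (x₀ : G) with hxdef
  have hx : orderOf x = 11 := by rw [hxdef, Subgroup.orderOf_coe, hx₀]
  have hx1 : x ≠ 1 := fun h => by rw [h, orderOf_one] at hx; omega
  have hxP : Subgroup.zpowers x = P := zpowers_eq_of_prime (card_eleven hG P) x₀.2 hx1
  have hnc : ∀ d : ℕ, Commute t (x ^ d) → x ^ d = 1 := by
    intro d hd
    by_contra h1
    have ho : orderOf (x ^ d) = 11 := by
      refine ((Nat.dvd_prime (by norm_num)).1 ?_).resolve_left fun h => h1 (orderOf_eq_one_iff.1 h)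
      rw [← hx]; exact orderOf_pow_dvd _
    have := orderOf_dvd_of_commute_eleven hG ho hd
    rw [ht] at this; norm_num at this
  have hout : ∀ R : Sylow 11 G, R ≠ P → x ∉ (R : Subgroup G) := fun R hR h => hR <| Sylow.ext <| by
    rw [← hxP]; exact (zpowers_eq_of_prime (card_eleven hG R) h hx1).symm
  -- at most 14 fixed points
  let F : Finset (Sylow 11 G) := Finset.univ.filter fun R => t • R = R
  have hF : F.card ≤ 14 := by
    have hinj : Set.InjOn (fun q : Sylow 11 G × Fin 11 => x ^ (q.2 : ℕ) • q.1)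
        ↑((F.erase P) ×ˢ (Finset.univ : Finset (Fin 11))) := by
      rintro ⟨R₁, i⟩ h1 ⟨R₂, j⟩ h2 he
      simp only [Finset.coe_product, Set.mem_prod, SetLike.mem_coe, Finset.mem_erase,
        Finset.mem_filter, Finset.mem_univ, true_and, and_true, F] at h1 h2
      obtain ⟨d, hd⟩ : ∃ d : ℕ, x ^ d • R₂ = R₁ := by
        refine ⟨(j : ℕ) + (11 - (i : ℕ)), ?_⟩
        simp only at he
        have hi : (i : ℕ) < 11 := i.2
        have h11 : x ^ 11 = 1 := orderOf_dvd_iff_pow_eq_one.1 (dvd_of_eq hx)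
        rw [Nat.add_comm, pow_add, mul_smul, ← he, ← mul_smul, ← pow_add,
          show 11 - (i : ℕ) + i = 11 by omega, h11, one_smul]
      have hfix : ((x ^ d)⁻¹ * (t * x ^ d * t⁻¹)) • R₂ = R₂ := by
        have hinv : t⁻¹ • R₂ = R₂ := by rw [inv_smul_eq_iff, h2.2]
        rw [mul_smul, mul_smul, mul_smul, hinv, hd, h1.2, ← hd, inv_smul_smul]
      have hmem : (x ^ d)⁻¹ * (t * x ^ d * t⁻¹) ∈ (P : Subgroup G) := by
        refine mul_mem (inv_mem (pow_mem x₀.2 _)) ?_
        exact (Subgroup.mem_normalizer_iff.1 t₀.2 _).1 (pow_mem x₀.2 _)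
      have hcom : (x ^ d)⁻¹ * (t * x ^ d * t⁻¹) = 1 := by
        by_contra hne
        apply h2.1
        apply Sylow.ext
        have hin := mem_sylow_of_smul_eq (k := 1) (orderOf_dvd_iff_pow_eq_one.1 ?_) R₂ hfix
        · rw [← zpowers_eq_of_prime (card_eleven hG R₂) hin hne,
            zpowers_eq_of_prime (card_eleven hG P) hmem hne]
        · rw [pow_one]
          have h := Subgroup.orderOf_dvd_natCard _ hmem
          rwa [card_eleven hG P] at h
      have hd1 : x ^ d = 1 := hnc d <| by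
        rw [inv_mul_eq_one] at hcom
        exact (mul_inv_eq_iff_eq_mul.1 hcom.symm)
      rw [hd1, one_smul] at hd
      subst hd
      refine Prod.ext rfl ?_
      exact orbit_eleven_injOn hx (hout _ h2.1) he
    have hmaps : Set.MapsTo (fun q : Sylow 11 G × Fin 11 => x ^ (q.2 : ℕ) • q.1)
        ↑((F.erase P) ×ˢ (Finset.univ : Finset (Fin 11))) ↑(Finset.univ.erase P) := by
      rintro ⟨R, i⟩ hR
      simp only [Finset.coe_product, Set.mem_prod, SetLike.mem_coe, Finset.mem_erase,
        Finset.mem_univ, and_true] at hR ⊢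
      intro he
      apply hR.1
      rw [← inv_smul_smul (x ^ (i : ℕ)) R, he, inv_smul_eq_iff, eq_comm,
        Sylow.smul_eq_iff_mem_normalizer]
      exact Subgroup.le_normalizer (pow_mem x₀.2 _)
    have h := Finset.card_le_card_of_injOn _ hmaps hinj
    rw [Finset.card_product, Finset.card_univ, Fintype.card_fin,
      Finset.card_erase_of_mem (Finset.mem_univ _), Finset.card_univ, ← Nat.card_eq_fintype_card,
      card_sylow_eleven hG] at h
    have hPF : P ∈ F := Finset.mem_filter.2 ⟨Finset.mem_univ _, htP⟩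
    rw [Finset.card_erase_of_mem hPF] at h
    omega
  -- the Sylow 5-subgroup of `t`
  set Q : Subgroup G := Subgroup.zpowers t with hQ
  have hQc : Nat.card Q = 5 := by rw [hQ, Nat.card_zpowers, ht]
  have hQSc : Nat.card Q = 5 ^ (Nat.card G).factorization 5 := by
    obtain ⟨Q₀⟩ := (inferInstance : Nonempty (Sylow 5 G))
    rw [← Q₀.card_eq_multiplicity, card_five hG Q₀, hQc]
  let QS : Sylow 5 G := Sylow.ofCard Q hQSc
  set N := Subgroup.normalizer (Q : Set G) with hN
  have hQH : Q ≤ H := Subgroup.zpowers_le.2 t₀.2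
  have horbit : (MulAction.orbit N P) = (F : Set (Sylow 11 G)) := by
    ext R
    simp only [SetLike.mem_coe, F, Finset.mem_filter, Finset.mem_univ, true_and]
    constructor
    · rintro ⟨⟨h, hh⟩, rfl⟩
      show t • h • P = h • P
      have h1 : h⁻¹ * t * h ∈ Q := by
        have h2 := (Subgroup.mem_normalizer_iff.1 (inv_mem hh) t).1 (Subgroup.mem_zpowers t)
        rwa [inv_inv] at h2
      have h3 : (h⁻¹ * t * h) • P = P := Sylow.smul_eq_iff_mem_normalizer.2 (hQH h1)
      calc t • h • P = h • ((h⁻¹ * t * h) • P) := by simp [← mul_smul, mul_assoc]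
        _ = h • P := by rw [h3]
    · intro hR
      obtain ⟨g, rfl⟩ := MulAction.exists_smul_eq G P R
      set t' : G := g⁻¹ * t * g with ht'
      have ht'H : t' ∈ H := Sylow.smul_eq_iff_mem_normalizer.1 (by
        rw [ht', mul_smul, mul_smul, hR, inv_smul_smul])
      have ht'o : orderOf t' = 5 := by
        rw [ht', ← ht]; simpa using H26.orderOf_conj_eq g⁻¹ t
      have hcard : ∀ s : G, ∀ hs : s ∈ H, orderOf s = 5 →
          Nat.card (Subgroup.zpowers (⟨s, hs⟩ : H)) = 5 ^ (Nat.card H).factorization 5 := by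
        intro s hs hso
        obtain ⟨Q₀⟩ := (inferInstance : Nonempty (Sylow 5 H))
        have hd : 5 ∣ Nat.card (Q₀ : Subgroup H) := Q₀.dvd_card_of_dvd_card (by rw [hH55]; norm_num)
        obtain ⟨m, hm⟩ := Q₀.2.exists_card_eq
        have h55 : Nat.card (Q₀ : Subgroup H) ∣ 55 := hH55 ▸ Subgroup.card_subgroup_dvd_card _
        rw [← Q₀.card_eq_multiplicity, Nat.card_zpowers, ← Subgroup.orderOf_coe, hso, hm]
        rw [hm] at hd h55
        match m, hd, h55 with
        | 0, hd, _ => norm_num at hd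
        | 1, _, _ => norm_num
        | m + 2, _, h55 => exact absurd ((Dvd.intro_left (5 ^ m) (pow_add 5 m 2).symm).trans h55) (by norm_num)
      let A : Sylow 5 H := Sylow.ofCard _ (hcard t t₀.2 ht)
      let B : Sylow 5 H := Sylow.ofCard _ (hcard t' ht'H ht'o)
      obtain ⟨h, hh⟩ := MulAction.exists_smul_eq H B A
      have h1 : (h : G) * t' * (h : G)⁻¹ ∈ Q := by
        have hmem : h * ⟨t', ht'H⟩ * h⁻¹ ∈ (A : Subgroup H) := by
          rw [← hh, Sylow.coe_subgroup_smul, Subgroup.mem_smul_pointwise_iff_exists]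
          exact ⟨⟨t', ht'H⟩, Subgroup.mem_zpowers _, rfl⟩
        obtain ⟨k, hk⟩ := hmem
        exact ⟨k, by simpa using congrArg Subtype.val hk⟩
      have hn : (h : G) * g⁻¹ ∈ N := by
        have h2 : (h : G) * g⁻¹ * t * ((h : G) * g⁻¹)⁻¹ ∈ Q := by
          convert h1 using 1; rw [ht']; group
        refine Subgroup.mem_normalizer_iff.2 fun q => ?_
        have hmap : Q.map (MulAut.conj ((h : G) * g⁻¹)).toMonoidHom = Q := by
          refine Subgroup.eq_of_le_of_card_ge ?_ ?_
          · rw [hQ, MonoidHom.map_zpowers, Subgroup.zpowers_le]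
            exact h2
          · rw [Subgroup.card_map_of_injective (MulEquiv.injective _)]
        conv_rhs => rw [← hmap]
        exact (Subgroup.mem_map_iff_mem (MulEquiv.injective _)).symm
      refine ⟨⟨((h : G) * g⁻¹)⁻¹, inv_mem hn⟩, ?_⟩
      show ((h : G) * g⁻¹)⁻¹ • P = g • P
      rw [mul_inv_rev, inv_inv, mul_smul, Sylow.smul_eq_iff_mem_normalizer.2 (inv_mem h.2)]
  have hstab : Nat.card (MulAction.stabilizer N P) = 5 := by
    have hmap : (MulAction.stabilizer N P).map N.subtype = N ⊓ H := by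
      ext g
      simp only [Subgroup.mem_map, MulAction.mem_stabilizer_iff, Subgroup.mem_inf]
      constructor
      · rintro ⟨a, ha, rfl⟩
        exact ⟨a.2, Sylow.smul_eq_iff_mem_normalizer.1 ha⟩
      · rintro ⟨h1, h2⟩
        exact ⟨⟨g, h1⟩, Sylow.smul_eq_iff_mem_normalizer.2 h2, rfl⟩
    rw [← Subgroup.card_map_of_injective (Subgroup.subtype_injective N), hmap]
    have h1 := Subgroup.card_dvd_of_le (inf_le_right : N ⊓ H ≤ H)
    have h2 := Subgroup.card_dvd_of_le (le_inf (Subgroup.le_normalizer) hQH : Q ≤ N ⊓ H)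
    rw [hH55] at h1
    rw [hQc] at h2
    have hne : Nat.card ↥(N ⊓ H) ≠ 55 := by
      intro he
      have heq : N ⊓ H = H := Subgroup.eq_of_le_of_card_ge inf_le_right (by rw [he, hH55])
      have hxN : x ∈ N := (heq.ge (Subgroup.le_normalizer x₀.2)).1
      have hc : x * t * x⁻¹ * t⁻¹ ∈ Q :=
        mul_mem ((Subgroup.mem_normalizer_iff.1 hxN t).1 (Subgroup.mem_zpowers t)) (inv_mem (Subgroup.mem_zpowers t))
      have hc' : x * t * x⁻¹ * t⁻¹ ∈ (P : Subgroup G) := by
        rw [mul_assoc, mul_assoc, ← mul_assoc t]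
        exact mul_mem x₀.2 ((Subgroup.mem_normalizer_iff.1 t₀.2 _).1 (inv_mem x₀.2))
      have hbot : Q ⊓ (P : Subgroup G) = ⊥ := Subgroup.inf_eq_bot_of_coprime (by
        rw [hQc, card_eleven hG P]; norm_num)
      have h1 : x * t * x⁻¹ * t⁻¹ = 1 := by
        have : x * t * x⁻¹ * t⁻¹ ∈ Q ⊓ (P : Subgroup G) := ⟨hc, hc'⟩
        rwa [hbot, Subgroup.mem_bot] at this
      apply hx1
      rw [mul_inv_eq_one, mul_inv_eq_iff_eq_mul] at h1
      simpa using hnc 1 (by rw [pow_one]; exact h1.symm)
    obtain ⟨m, hm⟩ := h2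
    rw [hm] at h1 hne ⊢
    have : m ∣ 11 := Nat.dvd_of_mul_dvd_mul_left (by norm_num : 0 < 5) (show 5 * m ∣ 5 * 11 from h1)
    rcases (Nat.dvd_prime (by norm_num)).1 this with rfl | rfl
    · norm_num
    · exact absurd rfl hne
  have hNc : Nat.card N = 5 * F.card := by
    rw [← (MulAction.stabilizer N P).index_mul_card, hstab, MulAction.index_stabilizer, horbit,
      Set.ncard_coe_finset, mul_comm]
  have hmul := card_sylow_mul hG QS
  have hQS : ((QS : Subgroup G) : Set G) = (Q : Set G) := rfl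
  rw [hQS, ← hN, hNc] at hmul
  have hmem := card_sylow_mem (p := 5) (k := 1) hG (by norm_num) (by norm_num)
  rw [show (Nat.divisors (7920 / 5 ^ 1)).filter (fun n => n % 5 = 1)
    = {1, 6, 11, 16, 36, 66, 176, 396} by decide +kernel] at hmem
  simp only [Finset.mem_insert, Finset.mem_singleton] at hmem
  rcases hmem with h | h | h | h | h | h | h | h <;> try (rw [h] at hmul; omega)
  exfalso
  have hN45 : Nat.card N = 45 := by rw [hNc]; rw [h] at hmul; omega
  have hdvd := card_normalizer_dvd Q hQc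
  rw [← hN, hN45] at hdvd
  have hCN : Subgroup.centralizer (Q : Set G) ≤ N := Subgroup.centralizer_le_normalizer _
  have h45 : 45 ∣ Nat.card (Subgroup.centralizer (Q : Set G)) :=
    (Nat.Coprime.dvd_mul_right (by norm_num : Nat.Coprime 45 (5 - 1))).1 hdvd
  have heq : Subgroup.centralizer (Q : Set G) = N := Subgroup.eq_of_le_of_card_ge hCN
    (by rw [hN45]; exact Nat.le_of_dvd Nat.card_pos h45)
  exact not_normalizer_le_centralizer (not_comm hG) (by rw [hG.2]; norm_num) QS
    (by rw [hQS, ← hN, heq])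

theorem card_normalizer_five (hG : Cfsg.IsM11 G) (Q : Sylow 5 G) :
    Nat.card (Subgroup.normalizer ((Q : Subgroup G) : Set G)) = 20 := by
  have := card_sylow_mul hG Q
  rw [card_sylow_five hG] at this
  omega

/-- The centralizer of an element of order 5 has order 5 or 10. -/
theorem card_centralizer_five (hG : Cfsg.IsM11 G) {t : G} (ht : orderOf t = 5) :
    Nat.card (Subgroup.centralizer ({t} : Set G)) = 5 ∨
      Nat.card (Subgroup.centralizer ({t} : Set G)) = 10 := by
  haveI := hG.1
  have hc : Nat.card (Subgroup.zpowers t) = 5 ^ 1 := by rw [Nat.card_zpowers, ht, pow_one]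
  obtain ⟨Q, hQ⟩ := (IsPGroup.of_card hc).exists_le_sylow
  have heq : Subgroup.zpowers t = Q :=
    Subgroup.eq_of_le_of_card_ge hQ (by rw [card_five hG Q, hc, pow_one])
  rw [← centralizer_eq_of_zpowers heq]
  have hCN : Subgroup.centralizer ((Q : Subgroup G) : Set G) ≤
      Subgroup.normalizer ((Q : Subgroup G) : Set G) := Subgroup.centralizer_le_normalizer _
  have h1 := Subgroup.card_dvd_of_le hCN
  rw [card_normalizer_five hG Q] at h1
  have hle : (Q : Subgroup G) ≤ Subgroup.centralizer ((Q : Subgroup G) : Set G) := by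
    rw [← heq, Subgroup.zpowers_le, heq, centralizer_eq_of_zpowers heq]
    exact Subgroup.mem_centralizer_singleton_iff.2 rfl
  have h2 := Subgroup.card_dvd_of_le hle
  rw [card_five hG Q] at h2
  have hne : Nat.card (Subgroup.centralizer ((Q : Subgroup G) : Set G)) ≠ 20 := fun he =>
    not_normalizer_le_centralizer (not_comm hG) (by rw [hG.2]; norm_num) Q
      (Subgroup.eq_of_le_of_card_ge hCN (by rw [he, card_normalizer_five hG Q])).ge
  obtain ⟨m, hm⟩ := h2
  rw [hm] at h1 hne ⊢
  have hm4 : m ∣ 2 ^ 2 := Nat.dvd_of_mul_dvd_mul_left (by norm_num : 0 < 5) (show 5 * m ∣ 5 * 2 ^ 2 from h1)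
  obtain ⟨i, hi, rfl⟩ := (Nat.dvd_prime_pow Nat.prime_two).1 hm4
  interval_cases i
  · left; rfl
  · right; rfl
  · exact absurd rfl hne

/-- An element whose centralizer has order divisible by 5 has order dividing 10. -/
theorem orderOf_dvd_ten (hG : Cfsg.IsM11 G) {g : G}
    (h : 5 ∣ Nat.card (Subgroup.centralizer ({g} : Set G))) : orderOf g ∣ 10 := by
  obtain ⟨t₀, ht₀⟩ := exists_prime_orderOf_dvd_card' 5 h
  have ht : orderOf (t₀ : G) = 5 := by rw [Subgroup.orderOf_coe, ht₀]
  have hg : g ∈ Subgroup.centralizer ({(t₀ : G)} : Set G) :=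
    Subgroup.mem_centralizer_singleton_iff.2 (Subgroup.mem_centralizer_singleton_iff.1 t₀.2).symm
  have := Subgroup.orderOf_dvd_natCard _ hg
  rcases card_centralizer_five hG ht with h | h <;> rw [h] at this
  · exact this.trans (by norm_num)
  · exact this

/-- An element whose centralizer has order divisible by 11 has order dividing 11. -/
theorem orderOf_dvd_eleven (hG : Cfsg.IsM11 G) {g : G}
    (h : 11 ∣ Nat.card (Subgroup.centralizer ({g} : Set G))) : orderOf g ∣ 11 := by
  obtain ⟨x₀, hx₀⟩ := exists_prime_orderOf_dvd_card' 11 h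
  exact orderOf_dvd_of_commute_eleven hG (by rw [Subgroup.orderOf_coe, hx₀] : orderOf (x₀ : G) = 11)
    (Subgroup.mem_centralizer_singleton_iff.1 x₀.2).symm

theorem card_nine (hG : Cfsg.IsM11 G) (P : Sylow 3 G) : Nat.card (P : Subgroup G) = 9 := by
  simpa using card_sylow_eq (k := 2) hG (by norm_num) (by norm_num) P

theorem sylow_three_comm (hG : Cfsg.IsM11 G) (P : Sylow 3 G) :
    ∀ a ∈ (P : Subgroup G), ∀ b ∈ (P : Subgroup G), a * b = b * a := by
  intro a ha b hb
  have h := IsPGroup.isMulCommutative_of_card_eq_prime_sq (p := 3) (G := (P : Subgroup G))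
    (by rw [card_nine hG P]; norm_num)
  exact congrArg Subtype.val (h.is_comm.comm ⟨a, ha⟩ ⟨b, hb⟩)

theorem le_centralizer_three (hG : Cfsg.IsM11 G) (P : Sylow 3 G) :
    (P : Subgroup G) ≤ Subgroup.centralizer ((P : Subgroup G) : Set G) :=
  fun a ha b hb => (sylow_three_comm hG P b hb a ha)

/-- If `q ∈ {5, 11}` divides the order of a Sylow 3-normalizer, a 3-element commutes with an
element of order `q`. -/
theorem exists_commute_of_dvd_normalizer (hG : Cfsg.IsM11 G) (P : Sylow 3 G) {q : ℕ}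
    (hq : q = 5 ∨ q = 11) (h : q ∣ Nat.card (Subgroup.normalizer ((P : Subgroup G) : Set G))) :
    ∃ y ∈ (P : Subgroup G), y ≠ 1 ∧ q ∣ Nat.card (Subgroup.centralizer ({y} : Set G)) := by
  classical
  haveI : Fact q.Prime := ⟨by rcases hq with rfl | rfl <;> norm_num⟩
  obtain ⟨t₀, ht₀⟩ := exists_prime_orderOf_dvd_card' q h
  set t : G := (t₀ : G) with htdef
  have ht : orderOf t = q := by rw [htdef, Subgroup.orderOf_coe, ht₀]
  by_contra hno
  push Not at hno
  have hfree : ∀ g ∈ Subgroup.zpowers t, ∀ y ∈ ((P : Subgroup G) : Set G) \ {1},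
      ConjAct.toConjAct g • y = y → ConjAct.toConjAct g = 1 := by
    intro g hg y hy he
    by_contra hg1
    apply hno y hy.1 hy.2
    rw [ConjAct.toConjAct_smul, mul_inv_eq_iff_eq_mul] at he
    have hgc : g ∈ Subgroup.centralizer ({y} : Set G) := Subgroup.mem_centralizer_singleton_iff.2 he
    have hog : orderOf g = q := by
      have hd := orderOf_dvd_of_mem_zpowers hg
      rw [ht] at hd
      exact ((Nat.dvd_prime Fact.out).1 hd).resolve_left fun h1 => hg1 (by
        rw [orderOf_eq_one_iff.1 h1, map_one])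
    exact hog ▸ Subgroup.orderOf_dvd_natCard _ hgc
  have hd := dvd_card_of_free (G := ConjAct G) (X := G)
    ((Subgroup.zpowers t).map ConjAct.toConjAct.toMonoidHom) (((P : Subgroup G) : Set G) \ {1})
    (by
      rintro - ⟨g, hg, rfl⟩ y ⟨hy, hy1⟩
      have hgN := (Subgroup.zpowers_le.2 t₀.2) hg
      show ConjAct.toConjAct g • y ∈ _
      rw [ConjAct.toConjAct_smul]
      exact ⟨(Subgroup.mem_normalizer_iff.1 hgN y).1 hy, fun h => hy1 (conj_eq_one_iff.1 h)⟩)
    (by rintro - ⟨g, hg, rfl⟩ y hy he; exact hfree g hg y hy he)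
  rw [Subgroup.card_map_of_injective (MulEquiv.injective _), Nat.card_zpowers, ht,
    Nat.card_coe_set_eq, Set.ncard_sdiff_singleton_of_mem (one_mem _), ← Nat.card_coe_set_eq] at hd
  rw [SetLike.coe_sort_coe, card_nine hG P] at hd
  rcases hq with rfl | rfl <;> norm_num at hd

/-- There are 55 or 220 Sylow 3-subgroups. -/
theorem card_sylow_three_or (hG : Cfsg.IsM11 G) :
    Nat.card (Sylow 3 G) = 55 ∨ Nat.card (Sylow 3 G) = 220 := by
  haveI := hG.1
  obtain ⟨P⟩ := (inferInstance : Nonempty (Sylow 3 G))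
  have hmem := card_sylow_mem (p := 3) (k := 2) hG (by norm_num) (by norm_num)
  rw [show (Nat.divisors (7920 / 3 ^ 2)).filter (fun n => n % 3 = 1)
    = {1, 4, 10, 16, 22, 40, 55, 88, 220, 880} by decide +kernel] at hmem
  simp only [Finset.mem_insert, Finset.mem_singleton] at hmem
  have hmul := card_sylow_mul hG P
  have h1 := one_lt_card_sylow (p := 3) hG (by norm_num)
  have hy : ∀ q, q = 5 ∨ q = 11 →
      ¬ q ∣ Nat.card (Subgroup.normalizer ((P : Subgroup G) : Set G)) := by
    intro q hq hd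
    obtain ⟨y, hyP, hy1, hyd⟩ := exists_commute_of_dvd_normalizer hG P hq hd
    have h9 : orderOf y ∣ 9 := card_nine hG P ▸ Subgroup.orderOf_dvd_natCard _ hyP
    apply hy1
    rw [← orderOf_eq_one_iff]
    rcases hq with rfl | rfl
    · exact Nat.eq_one_of_dvd_coprimes (by norm_num : Nat.Coprime 9 10) h9 (orderOf_dvd_ten hG hyd)
    · exact Nat.eq_one_of_dvd_coprimes (by norm_num : Nat.Coprime 9 11) h9 (orderOf_dvd_eleven hG hyd)
  have h5 := hy 5 (Or.inl rfl)
  have h11 := hy 11 (Or.inr rfl)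
  rcases hmem with h | h | h | h | h | h | h | h | h | h
  · omega
  · exfalso
    classical
    haveI := Fintype.ofFinite (Sylow 3 G)
    obtain ⟨x, hx⟩ := exists_prime_orderOf_dvd_card' (G := G) 11 (by rw [hG.2]; norm_num)
    set f := MulAction.toPermHom G (Sylow 3 G)
    have hd : orderOf (f x) ∣ 24 := by
      have := orderOf_dvd_natCard (f x)
      rw [Nat.card_perm, h] at this
      exact this
    have hd' : orderOf (f x) ∣ 11 := hx ▸ orderOf_map_dvd f x
    have hfx : f x = 1 := orderOf_eq_one_iff.1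
      (Nat.eq_one_of_dvd_coprimes (by norm_num : Nat.Coprime 24 11) hd hd')
    have hxn : x ∈ Subgroup.normalizer ((P : Subgroup G) : Set G) :=
      Sylow.smul_eq_iff_mem_normalizer.1 (Equiv.Perm.ext_iff.1 hfx P)
    exact h11 (hx ▸ Subgroup.orderOf_dvd_natCard _ hxn)
  · exact absurd ⟨72, by rw [h] at hmul; omega⟩ h11
  · exact absurd ⟨45, by rw [h] at hmul; omega⟩ h11
  · exact absurd ⟨72, by rw [h] at hmul; omega⟩ h5
  · exact absurd ⟨18, by rw [h] at hmul; omega⟩ h11
  · exact Or.inl h
  · exact absurd ⟨18, by rw [h] at hmul; omega⟩ h5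
  · exact Or.inr h
  · exfalso
    refine not_normalizer_le_centralizer (not_comm hG) (by rw [hG.2]; norm_num) P ?_
    have hle : (P : Subgroup G) = Subgroup.normalizer ((P : Subgroup G) : Set G) := by
      refine Subgroup.eq_of_le_of_card_ge Subgroup.le_normalizer ?_
      rw [card_nine hG P]; rw [h] at hmul; omega
    rw [← hle]
    exact le_centralizer_three hG P

end Cfsg.Agent.H69.M11
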