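import Cfsg.Agent.H69.M11.SelfCentralizing

/-!
Elements of order 3 lying in four Sylow 3-subgroups.
-/

set_option autoImplicit false

namespace Cfsg.Agent.H69.M11

open Subgroup MulAction

variable {G : Type*} [Group G] [Finite G]

/-- No nontrivial element of order prime to 3 centralizes a Sylow 3-subgroup. -/
theorem not_nine_dvd (hG : Cfsg.IsM11 G) {g : G} (hg1 : g ≠ 1) (hg : (orderOf g).Coprime 3) :
    ¬ 9 ∣ Nat.card (Subgroup.centralizer ({g} : Set G)) := by
  intro h
  obtain ⟨R, hR, -⟩ := exists_sylow_le hG h (one_mem _) (by rw [orderOf_one]; norm_num)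
  have hmem := mem_centralizer_sylow_iff.2 hR
  rw [centralizer_three hG R] at hmem
  exact hg1 (orderOf_eq_one_iff.1 (Nat.eq_one_of_dvd_coprimes
    (Nat.Coprime.pow_right 2 hg) dvd_rfl (orderOf_dvd_nine hG R hmem)))

/-- The configuration of four Sylow 3-subgroups through `x`. -/
theorem four_setup (hG : Cfsg.IsM11 G) (P : Sylow 3 G) {x : G} (hx : x ∈ (P : Subgroup G))
    (hx1 : x ≠ 1)
    (h4 : (MulAction.orbit (Subgroup.centralizer ({x} : Set G)) P).ncard = 4) :
    ∃ R : Sylow 3 G, R ≠ P ∧ R ∈ MulAction.orbit (Subgroup.centralizer ({x} : Set G)) P ∧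
      orderOf x = 3 ∧ (P : Subgroup G) ⊓ (R : Subgroup G) = Subgroup.zpowers x ∧
      (∀ y ∈ (P : Subgroup G), y ∉ (R : Subgroup G) →
        ∀ Q ∈ MulAction.orbit (Subgroup.centralizer ({x} : Set G)) P,
          Q = P ∨ Q = R ∨ Q = y • R ∨ Q = y • y • R) := by
  classical
  set C := Subgroup.centralizer ({x} : Set G)
  set O := MulAction.orbit C P with hO
  obtain ⟨R, hRO, hRne⟩ : ∃ R ∈ O, R ≠ P := by
    by_contra hcon
    push Not at hcon
    have h1 : O ⊆ {P} := fun R hR => hcon R hR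
    have := Set.ncard_le_ncard h1
    rw [h4, Set.ncard_singleton] at this
    omega
  have hxall : ∀ Q ∈ O, x ∈ (Q : Subgroup G) := by
    rintro - ⟨⟨c, hc⟩, rfl⟩
    show x ∈ ((c • P : Sylow 3 G) : Subgroup G)
    rw [Sylow.coe_subgroup_smul, Subgroup.mem_smul_pointwise_iff_exists]
    refine ⟨x, hx, ?_⟩
    show c * x * c⁻¹ = x
    rw [Subgroup.mem_centralizer_singleton_iff.1 hc, mul_inv_cancel_right]
  set T := MulAction.orbit (P : Subgroup G) R with hT
  have hTsub : T ⊆ O \ {P} := by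
    rintro - ⟨⟨q, hq⟩, rfl⟩
    obtain ⟨l, rfl⟩ := hRO
    refine ⟨⟨⟨q, le_centralizer_singleton hG P hx hq⟩ * l, mul_smul q (l : G) P⟩, fun h => hRne ?_⟩
    show l • P = P
    rw [Set.mem_singleton_iff] at h
    change q • (l • P) = P at h
    exact smul_left_cancel q (h.trans (Sylow.smul_eq_iff_mem_normalizer.2 (Subgroup.le_normalizer hq)).symm)
  have hT3 : (O \ {P}).ncard = 3 := by
    rw [Set.ncard_sdiff_singleton_of_mem (MulAction.mem_orbit_self P), h4]
  set Y := (P : Subgroup G) ⊓ (R : Subgroup G) with hY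
  have hmemY : ∀ q ∈ (P : Subgroup G), q • R = R ↔ q ∈ (R : Subgroup G) := fun q hq =>
    ⟨fun h => mem_sylow_of_smul_eq (k := 2) (by
        simpa using orderOf_dvd_iff_pow_eq_one.1 (orderOf_dvd_nine hG P hq)) R h,
      fun h => Sylow.smul_eq_iff_mem_normalizer.2 (Subgroup.le_normalizer h)⟩
  have hstab : Nat.card (MulAction.stabilizer (P : Subgroup G) R) = Nat.card Y := by
    rw [← Subgroup.card_map_of_injective (Subgroup.subtype_injective (P : Subgroup G))]
    refine congrArg (fun H : Subgroup G => Nat.card H) ?_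
    ext z
    simp only [Subgroup.mem_map, hY, Subgroup.mem_inf, MulAction.mem_stabilizer_iff]
    constructor
    · rintro ⟨q, hq, rfl⟩
      exact ⟨q.2, (hmemY q q.2).1 hq⟩
    · rintro ⟨h1, h2⟩
      exact ⟨⟨z, h1⟩, (hmemY z h1).2 h2, rfl⟩
  have hTY : T.ncard * Nat.card Y = 9 := by
    rw [← hstab, hT, ← MulAction.index_stabilizer, Subgroup.index_mul_card, card_nine hG]
  have hYne : Nat.card Y ≠ 9 := fun h => hRne (Sylow.ext (Subgroup.eq_of_le_of_card_ge
    ((Subgroup.eq_of_le_of_card_ge (inf_le_left : Y ≤ (P : Subgroup G))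
      (by rw [card_nine hG, h])).symm.le.trans inf_le_right)
    (by rw [card_nine hG, card_nine hG])).symm)
  have hY3 : Nat.card Y = 3 := by
    have h1 : Nat.card Y ∣ 3 ^ 2 := ⟨T.ncard, by rw [mul_comm]; exact hTY.symm⟩
    obtain ⟨i, hi, hi'⟩ := (Nat.dvd_prime_pow Nat.prime_three).1 h1
    have hle := Set.ncard_le_ncard hTsub
    rw [hT3] at hle
    rw [hi'] at hTY hYne ⊢
    interval_cases i
    · exfalso; simp at hTY; omega
    · rfl
    · exact absurd rfl hYne
  have hxY : Y = Subgroup.zpowers x :=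
    (zpowers_eq_of_prime hY3 ⟨hx, hxall R hRO⟩ hx1).symm
  have hx3 : orderOf x = 3 := by rw [← Nat.card_zpowers, ← hxY, hY3]
  refine ⟨R, hRne, hRO, hx3, hxY, fun y hy hyR Q hQ => ?_⟩
  have hy1 : y • R ≠ R := fun h => hyR ((hmemY y hy).1 h)
  have hy2 : y • y • R ≠ R := fun h => by
    rw [← mul_smul] at h
    have h2 := (hmemY (y * y) (mul_mem hy hy)).1 h
    apply hyR
    have h9 : y ^ 9 = 1 := orderOf_dvd_iff_pow_eq_one.1 (orderOf_dvd_nine hG P hy)
    have h10 : y = (y * y) ^ 5 := by rw [← pow_two, ← pow_mul, show 2 * 5 = 9 + 1 from rfl, pow_succ, h9, one_mul]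
    rw [h10]
    exact pow_mem h2 5
  have hy12 : y • y • R ≠ y • R := fun h => hy1 (smul_left_cancel y h)
  by_cases hQP : Q = P
  · exact Or.inl hQP
  right
  have hmemT : ∀ z : (P : Subgroup G), (z : G) • R ∈ O \ {P} := fun z => hTsub ⟨z, rfl⟩
  have hsub : ({R, y • R, y • y • R} : Set (Sylow 3 G)) = O \ {P} := by
    refine Set.eq_of_subset_of_ncard_le ?_ ?_
    · rintro z (rfl | rfl | rfl)
      · exact ⟨hRO, hRne⟩
      · exact hmemT ⟨y, hy⟩
      · rw [← mul_smul]
        exact hmemT ⟨y * y, mul_mem hy hy⟩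
    · rw [hT3, Set.ncard_eq_three.2 ⟨R, y • R, y • y • R, Ne.symm hy1, Ne.symm hy2, Ne.symm hy12, rfl⟩]
  have := hsub.ge ⟨hQ, hQP⟩
  simpa using this

/-- An involution normalizing `P` and commuting with an element of `P` moving `R` fixes all four. -/
theorem fixes_all {s x : G} (P R : Sylow 3 G) {y : G} (hs : s * s = 1) (hsP : s • P = P)
    (hsO : ∀ Q ∈ MulAction.orbit (Subgroup.centralizer ({x} : Set G)) P,
      s • Q ∈ MulAction.orbit (Subgroup.centralizer ({x} : Set G)) P)
    (hRO : R ∈ MulAction.orbit (Subgroup.centralizer ({x} : Set G)) P) (hR : R ≠ P)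
    (hcases : ∀ Q ∈ MulAction.orbit (Subgroup.centralizer ({x} : Set G)) P,
      Q = P ∨ Q = R ∨ Q = y • R ∨ Q = y • y • R)
    (hy1 : y • R ≠ R) (hy3 : y • y • y • R = R) (hsy : s * y = y * s) :
    ∀ Q ∈ MulAction.orbit (Subgroup.centralizer ({x} : Set G)) P, s • Q = Q := by
  have hc : ∀ Q : Sylow 3 G, s • y • Q = y • s • Q := fun Q => by rw [← mul_smul, hsy, mul_smul]
  have hsR : s • R = R := by
    rcases hcases _ (hsO R hRO) with h | h | h | h
    · exact absurd (smul_left_cancel s (h.trans hsP.symm)) hR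
    · exact h
    · exfalso
      have h2 : s • s • R = R := by rw [← mul_smul, hs, one_smul]
      rw [h, hc, h] at h2
      rw [h2] at hy3
      exact hy1 hy3
    · exfalso
      have h2 : s • s • R = R := by rw [← mul_smul, hs, one_smul]
      rw [h, hc, hc, h, hy3] at h2
      exact hy1 h2
  intro Q hQ
  rcases hcases Q hQ with rfl | rfl | rfl | rfl
  · exact hsP
  · exact hsR
  · rw [hc, hsR]
  · rw [hc, hc, hsR]

/-- The permutation action on the four Sylow 3-subgroups through `x`. -/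
theorem exists_hom_four (P : Sylow 3 G) {x : G}
    (h4 : (MulAction.orbit (Subgroup.centralizer ({x} : Set G)) P).ncard = 4) :
    ∃ π : Subgroup.centralizer ({x} : Set G) →* Equiv.Perm (Fin 4),
      ∀ c, π c = 1 ↔
        ∀ Q ∈ MulAction.orbit (Subgroup.centralizer ({x} : Set G)) P, (c : G) • Q = Q := by
  set C := Subgroup.centralizer ({x} : Set G)
  set O := MulAction.orbit C P
  haveI : Fintype O := Fintype.ofFinite _
  have e : O ≃ Fin 4 := Fintype.equivFinOfCardEq (by rw [← Nat.card_eq_fintype_card, Nat.card_coe_set_eq, h4])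
  refine ⟨(Equiv.permCongrHom e).toMonoidHom.comp (MulAction.toPermHom C O), fun c => ?_⟩
  rw [MonoidHom.comp_apply, MulEquiv.coe_toMonoidHom, MulEquiv.map_eq_one_iff]
  constructor
  · intro h Q hQ
    exact congrArg Subtype.val (Equiv.Perm.ext_iff.1 h ⟨Q, hQ⟩)
  · intro h
    exact Equiv.ext fun Q => Subtype.ext (h Q.1 Q.2)

end Cfsg.Agent.H69.M11
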