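import Cfsg.Agent.H69.M11.Triple
import Mathlib.LinearAlgebra.Matrix.Charpoly.FiniteField
import Mathlib.Combinatorics.Enumerative.DoubleCounting

/-!
The graph on the 55 Sylow 3-subgroups, and a subgroup of index 11.
-/

set_option autoImplicit false

namespace Cfsg.Agent.H69.M11

open Subgroup MulAction

variable {G : Type*} [Group G] [Finite G]

namespace Nbhd

variable {P A B : Sylow 3 G} {w σ : G} {K : Subgroup G}

theorem smul_P (P : Sylow 3 G) {q : G} (hq : q ∈ (P : Subgroup G)) : q • P = P :=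
  Sylow.smul_eq_iff_mem_normalizer.2 (Subgroup.le_normalizer hq)

theorem k_smul (h : Nbhd P A B w σ K) {k : G} (hk : k ∈ K) (q : G) :
    k • (q • A) = (k * q * k⁻¹) • A ∧ k • (q • B) = (k * q * k⁻¹) • B := by
  obtain ⟨-, h1, h2⟩ := h.fixK k hk
  constructor
  · nth_rw 2 [← h1]; rw [← mul_smul, ← mul_smul]; congr 1; group
  · nth_rw 2 [← h2]; rw [← mul_smul, ← mul_smul]; congr 1; group

theorem adj_A_all (h : Nbhd P A B w σ K) {q p : G} (hq : q ∈ (P : Subgroup G)) (hq1 : q ≠ 1)
    (hp : p ∈ (P : Subgroup G)) (hp1 : p ≠ 1) :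
    (Adj A (q • A) → Adj A (p • A)) ∧ (Adj A (q • B) → Adj A (p • B)) := by
  obtain ⟨k, hk, rfl⟩ := h.trans q hq hq1 p hp hp1
  obtain ⟨-, hkA, -⟩ := h.fixK k hk
  constructor <;> intro ha <;> have := ha.smul k <;> rw [hkA] at this
  · rwa [(h.k_smul hk q).1] at this
  · rwa [(h.k_smul hk q).2] at this

theorem adj_PA (h : Nbhd P A B w σ K) {q : G} (hq : q ∈ (P : Subgroup G)) :
    Adj P (q • A) ∧ Adj P (q • B) := by
  constructor
  · have := (show Adj P A from ⟨h.hAP.symm, w, h.hw, h.hwA⟩).smul q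
    rwa [smul_P P hq] at this
  · have := (show Adj P B from ⟨h.hBP.symm, w, h.hw, h.hwB⟩).smul q
    rwa [smul_P P hq] at this

theorem adj_AB (h : Nbhd P A B w σ K) : Adj A B := ⟨h.hAB, w, h.hwA, h.hwB⟩

theorem inj_A (h : Nbhd P A B w σ K) {q p : G} (hq : q ∈ (P : Subgroup G))
    (hp : p ∈ (P : Subgroup G)) (he : q • A = p • A) : q = p := by
  have := h.regA (p⁻¹ * q) (mul_mem (inv_mem hp) hq) (by rw [mul_smul, he, inv_smul_smul])
  exact (inv_mul_eq_one.1 this).symm

theorem inj_B (h : Nbhd P A B w σ K) {q p : G} (hq : q ∈ (P : Subgroup G))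
    (hp : p ∈ (P : Subgroup G)) (he : q • B = p • B) : q = p := by
  have := h.regB (p⁻¹ * q) (mul_mem (inv_mem hp) hq) (by rw [mul_smul, he, inv_smul_smul])
  exact (inv_mul_eq_one.1 this).symm

/-- `N(P)` is transitive on the neighbours of `P`. -/
theorem trans_nbr (h : Nbhd P A B w σ K) {Q : Sylow 3 G} (hQ : Adj P Q) :
    ∃ m : G, m • P = P ∧ m • A = Q := by
  obtain ⟨q, hq, rfl | rfl⟩ := h.nbr Q hQ
  · exact ⟨q, smul_P P hq, rfl⟩
  · exact ⟨q * σ, by rw [mul_smul, h.hσ, smul_P P hq], by rw [mul_smul, h.hσA]⟩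

/-- Adjacency between the two sides. -/
theorem adj_translate {q p : G} (X Y : Sylow 3 G) :
    Adj (q • X) (p • Y) ↔ Adj X ((q⁻¹ * p) • Y) := by
  rw [← adj_smul_iff q⁻¹, inv_smul_smul, mul_smul]

end Nbhd

section Counting

variable [Fintype (Sylow 3 G)]

open Classical in
/-- The neighbours of a Sylow 3-subgroup. -/
noncomputable def nbr (X : Sylow 3 G) : Finset (Sylow 3 G) := Finset.univ.filter fun Y => Adj X Y

theorem mem_nbr {X Y : Sylow 3 G} : Y ∈ nbr X ↔ Adj X Y := by simp [nbr]

open Classical in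
theorem nbr_smul (g : G) (X : Sylow 3 G) : nbr (g • X) = (nbr X).image (g • ·) := by
  ext Y
  simp only [mem_nbr, Finset.mem_image]
  constructor
  · intro hY
    refine ⟨g⁻¹ • Y, ?_, smul_inv_smul g Y⟩
    rwa [← adj_smul_iff g, smul_inv_smul]
  · rintro ⟨Z, hZ, rfl⟩
    exact hZ.smul g

open Classical in
theorem card_common_smul (g : G) (X Y : Sylow 3 G) :
    (nbr (g • X) ∩ nbr (g • Y)).card = (nbr X ∩ nbr Y).card := by
  rw [nbr_smul, nbr_smul, ← Finset.image_inter _ _ (MulAction.injective g),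
    Finset.card_image_of_injective _ (MulAction.injective g)]

theorem card_sylow55 (hG : Cfsg.IsM11 G) : Fintype.card (Sylow 3 G) = 55 := by
  obtain ⟨P⟩ := (inferInstance : Nonempty (Sylow 3 G))
  have := card_sylow_mul hG P
  rw [card_normalizer_three hG P] at this
  rw [← Nat.card_eq_fintype_card]; omega

variable {P A B : Sylow 3 G} {w σ : G} {K : Subgroup G}

open Classical in
/-- The side of `X` in the neighbourhood of `P`. -/
noncomputable def side (P X : Sylow 3 G) : Finset (Sylow 3 G) :=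
  Finset.univ.filter fun Y => ∃ q ∈ (P : Subgroup G), q • X = Y

theorem mem_side {X Y : Sylow 3 G} : Y ∈ side P X ↔ ∃ q ∈ (P : Subgroup G), q • X = Y := by
  simp [side]

theorem card_side (hG : Cfsg.IsM11 G) {X : Sylow 3 G}
    (hreg : ∀ q ∈ (P : Subgroup G), ∀ p ∈ (P : Subgroup G), q • X = p • X → q = p) :
    (side P X).card = 9 := by
  classical
  haveI : Fintype (P : Subgroup G) := Fintype.ofFinite _
  have : side P X = Finset.univ.image (fun q : (P : Subgroup G) => (q : G) • X) := by
    ext Y; simp [mem_side]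
  rw [this, Finset.card_image_of_injective _ (fun a b h => Subtype.ext (hreg a a.2 b b.2 h)),
    Finset.card_univ, ← Nat.card_eq_fintype_card, card_nine hG]

open Classical in
theorem nbr_eq (h : Nbhd P A B w σ K) : nbr P = side P A ∪ side P B := by
  ext Y
  simp only [mem_nbr, Finset.mem_union, mem_side]
  constructor
  · intro hY
    obtain ⟨q, hq, rfl | rfl⟩ := h.nbr Y hY
    · exact Or.inl ⟨q, hq, rfl⟩
    · exact Or.inr ⟨q, hq, rfl⟩
  · rintro (⟨q, hq, rfl⟩ | ⟨q, hq, rfl⟩)
    · exact (h.adj_PA hq).1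
    · exact (h.adj_PA hq).2

theorem card_nbr (hG : Cfsg.IsM11 G) (h : Nbhd P A B w σ K) (X : Sylow 3 G) : (nbr X).card = 18 := by
  classical
  obtain ⟨g, rfl⟩ := MulAction.exists_smul_eq G P X
  rw [nbr_smul, Finset.card_image_of_injective _ (MulAction.injective g), nbr_eq h,
    Finset.card_union_of_disjoint, card_side hG fun q hq p hp => h.inj_A hq hp,
    card_side hG fun q hq p hp => h.inj_B hq hp]
  rw [Finset.disjoint_left]
  intro Y hA hB
  obtain ⟨q, hq, rfl⟩ := mem_side.1 hA
  obtain ⟨p, hp, hpe⟩ := mem_side.1 hB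
  exact h.sep (p⁻¹ * q) (mul_mem (inv_mem hp) hq) (by rw [mul_smul, ← hpe, inv_smul_smul])

/-- `N(P)` is transitive on the Sylow subgroups not adjacent to `P`. -/
theorem trans_far (hG : Cfsg.IsM11 G) (h : Nbhd P A B w σ K) {Q Q' : Sylow 3 G}
    (hQP : Q ≠ P) (hQ : ¬ Adj P Q) (hQP' : Q' ≠ P) (hQ' : ¬ Adj P Q') :
    ∃ m : G, m • P = P ∧ m • Q = Q' := by
  classical
  set M := Subgroup.normalizer ((P : Subgroup G) : Set G) with hMdef
  set far := Finset.univ.filter fun R : Sylow 3 G => R ≠ P ∧ ¬ Adj P R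
  have hfar : far.card = 36 := by
    have he : Finset.univ.filter (fun R : Sylow 3 G => R ≠ P ∧ ¬ Adj P R) =
        Finset.univ \ insert P (nbr P) := by
      ext R; simp [mem_nbr]
    show (Finset.univ.filter _).card = 36
    rw [he, Finset.card_sdiff_of_subset (Finset.subset_univ _), Finset.card_univ, card_sylow55 hG,
      Finset.card_insert_of_notMem (fun hm => (mem_nbr.1 hm).1 rfl), card_nbr hG h]
  have hPm : ∀ m : M, (m : G) • P = P := fun m => Sylow.smul_eq_iff_mem_normalizer.2 m.2
  have horb : ∀ R ∈ MulAction.orbit M Q, R ∈ far := by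
    rintro - ⟨m, rfl⟩
    show (m : G) • Q ∈ far
    simp only [far, Finset.mem_filter, Finset.mem_univ, true_and]
    constructor
    · intro e; exact hQP (smul_left_cancel (m : G) (e.trans (hPm m).symm))
    · intro e; exact hQ ((adj_smul_iff (m : G)).1 (by rwa [hPm m]))
  -- the stabilizer is a small 2-group
  set D := MulAction.stabilizer M Q with hDdef
  have hD4 : Nat.card D ≤ 4 := by
    have h144 : Nat.card D ∣ 144 := card_normalizer_three hG P ▸ Subgroup.card_subgroup_dvd_card D
    have h3 : ¬ 3 ∣ Nat.card D := by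
      intro h3
      haveI : Fact (Nat.Prime 3) := ⟨Nat.prime_three⟩
      obtain ⟨y₀, hy₀⟩ := exists_prime_orderOf_dvd_card' 3 h3
      set y : G := ((y₀ : M) : G) with hy
      have hyo : orderOf y = 3 := by rw [hy, Subgroup.orderOf_coe, Subgroup.orderOf_coe, hy₀]
      have hy9 : y ^ 3 ^ 2 = 1 := orderOf_dvd_iff_pow_eq_one.1 (by rw [hyo]; norm_num)
      have hyP := mem_sylow_of_smul_eq hy9 P (hPm (y₀ : M))
      have hyQ := mem_sylow_of_smul_eq hy9 Q (MulAction.mem_stabilizer_iff.1 y₀.2 :)
      exact hQP ((card_centralizer_three_elem hG P hyP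
        (fun e => by rw [e, orderOf_one] at hyo; norm_num at hyo)).2 Q hyQ)
    have hc : Nat.card D ∣ 2 ^ 4 :=
      (((Nat.Prime.coprime_iff_not_dvd Nat.prime_three).2 h3).pow_left 2).symm.dvd_of_dvd_mul_right
        (show Nat.card D ∣ 2 ^ 4 * 3 ^ 2 from h144)
    obtain ⟨i, hi, hi'⟩ := (Nat.dvd_prime_pow Nat.prime_two).1 hc
    by_contra hlt
    have h8 : 3 ≤ i := by
      by_contra hi3
      apply hlt
      rw [hi']
      exact le_of_le_of_eq (Nat.pow_le_pow_right (by norm_num) (by omega : i ≤ 2)) (by norm_num)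
    haveI : Fact (Nat.Prime 2) := ⟨Nat.prime_two⟩
    haveI : Nontrivial D := Finite.one_lt_card_iff_nontrivial.1 (by omega)
    haveI := (IsPGroup.of_card hi').center_nontrivial
    have hdvd : 2 ∣ Nat.card (Subgroup.center D) := by
      obtain ⟨j, hj⟩ := ((IsPGroup.of_card hi').to_subgroup (Subgroup.center D)).exists_card_eq
      rcases j with _ | j
      · exact absurd hj (Finite.one_lt_card_iff_nontrivial.2 inferInstance).ne'
      · exact hj ▸ Dvd.intro_left (2 ^ j) (pow_succ 2 j).symm
    obtain ⟨c, hc⟩ := exists_prime_orderOf_dvd_card' 2 hdvd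
    set z : G := (((c : D) : M) : G) with hz
    have hzo : orderOf z = 2 := by
      rw [hz, Subgroup.orderOf_coe, Subgroup.orderOf_coe, Subgroup.orderOf_coe, hc]
    set D' := D.map M.subtype
    have h8D : 8 ∣ Nat.card D' := by
      rw [Subgroup.card_map_of_injective (Subgroup.subtype_injective M), hi']
      exact Nat.pow_dvd_pow 2 h8
    have hzD : z ∈ D' := ⟨(c : D), (c : D).2, rfl⟩
    have hcomm : ∀ d ∈ D', Commute d z := by
      rintro - ⟨d, hd, rfl⟩
      have := Subgroup.mem_center_iff.1 c.2 ⟨d, hd⟩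
      exact congrArg (fun a : D => ((a : M) : G)) this
    have hP' := inverts_of_central hG P (fun d hd => by
      obtain ⟨a, -, rfl⟩ := hd; exact a.2) h8D hzD hzo hcomm
    have hQ2 := inverts_of_central hG Q (fun d hd => by
      obtain ⟨a, ha, rfl⟩ := hd
      exact Sylow.smul_eq_iff_mem_normalizer.1 (MulAction.mem_stabilizer_iff.1 ha :)) h8D hzD hzo hcomm
    exact hQ ⟨hQP.symm, z, ⟨hzo, hP'⟩, ⟨hzo, hQ2⟩⟩
  have hmul : (MulAction.orbit M Q).ncard * Nat.card D = 144 := by
    rw [← MulAction.index_stabilizer, ← card_normalizer_three hG P]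
    exact Subgroup.index_mul_card _
  have h36 : 36 ≤ (MulAction.orbit M Q).ncard := by
    by_contra hlt
    have := Nat.mul_le_mul (show (MulAction.orbit M Q).ncard ≤ 35 by omega) hD4
    omega
  have heq : (MulAction.orbit M Q) = (far : Set (Sylow 3 G)) :=
    Set.eq_of_subset_of_ncard_le horb (by rw [Set.ncard_coe_finset, hfar]; exact h36)
  have hmem : Q' ∈ (far : Set (Sylow 3 G)) := by
    simp [far, hQP', hQ']
  rw [← heq] at hmem
  obtain ⟨m, hm⟩ := hmem
  exact ⟨m, hPm m, hm⟩

open Classical in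
/-- The parameters of the graph. -/
theorem srg (hG : Cfsg.IsM11 G) (h : Nbhd P A B w σ K) :
    ∃ l c : ℕ, l = (nbr P ∩ nbr A).card ∧ 36 * c + 18 * l = 18 * 17 ∧
      (∀ X Y : Sylow 3 G, Adj X Y → (nbr X ∩ nbr Y).card = l) ∧
      (∀ X Y : Sylow 3 G, X ≠ Y → ¬ Adj X Y → (nbr X ∩ nbr Y).card = c) := by
  set l := (nbr P ∩ nbr A).card with hl
  have hladj : ∀ X Y : Sylow 3 G, Adj X Y → (nbr X ∩ nbr Y).card = l := by
    intro X Y hXY
    obtain ⟨g, rfl⟩ := MulAction.exists_smul_eq G P X
    obtain ⟨Z, rfl⟩ : ∃ Z, g • Z = Y := ⟨g⁻¹ • Y, smul_inv_smul g Y⟩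
    rw [card_common_smul]
    obtain ⟨m, hmP, rfl⟩ := h.trans_nbr ((adj_smul_iff g).1 hXY)
    rw [hl, ← card_common_smul m P A, hmP]
  set far := Finset.univ.filter fun R : Sylow 3 G => R ≠ P ∧ ¬ Adj P R with hfar'
  have hfc : far.card = 36 := by
    have he : far = Finset.univ \ insert P (nbr P) := by
      ext R; simp [hfar', mem_nbr]
    rw [he, Finset.card_sdiff_of_subset (Finset.subset_univ _), Finset.card_univ, card_sylow55 hG,
      Finset.card_insert_of_notMem (fun hm => (mem_nbr.1 hm).1 rfl), card_nbr hG h]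
  obtain ⟨Q₀, hQ₀⟩ := Finset.card_pos.1 (show 0 < far.card by omega)
  simp only [hfar', Finset.mem_filter, Finset.mem_univ, true_and] at hQ₀
  set c := (nbr P ∩ nbr Q₀).card with hc
  have hfar : ∀ Q, Q ≠ P → ¬ Adj P Q → (nbr P ∩ nbr Q).card = c := by
    intro Q h1 h2
    obtain ⟨m, hmP, rfl⟩ := trans_far hG h hQ₀.1 hQ₀.2 h1 h2
    rw [hc, ← card_common_smul m P Q₀, hmP]
  refine ⟨l, c, rfl, ?_, hladj, ?_⟩
  · have hdc := Finset.sum_card_bipartiteAbove_eq_sum_card_bipartiteBelow
      (fun (X Y : Sylow 3 G) => Adj X Y) (s := nbr P) (t := far)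
    have hleft : ∀ X ∈ nbr P, (far.bipartiteAbove (fun (X Y : Sylow 3 G) => Adj X Y) X).card = 17 - l := by
      intro X hX
      have hXP := mem_nbr.1 hX
      have hsplit : nbr X = insert P ((nbr P ∩ nbr X) ∪ far.bipartiteAbove (fun X Y => Adj X Y) X) := by
        ext Y
        simp only [Finset.bipartiteAbove, Finset.mem_insert, Finset.mem_union, Finset.mem_inter,
          mem_nbr, hfar', Finset.mem_filter, Finset.mem_univ, true_and]
        constructor
        · intro hY
          by_cases e : Y = P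
          · exact Or.inl e
          by_cases e' : Adj P Y
          · exact Or.inr (Or.inl ⟨e', hY⟩)
          · exact Or.inr (Or.inr ⟨⟨e, e'⟩, hY⟩)
        · rintro (rfl | ⟨-, hY⟩ | ⟨-, hY⟩)
          · exact hXP.symm
          · exact hY
          · exact hY
      have := congrArg Finset.card hsplit
      rw [card_nbr hG h, Finset.card_insert_of_notMem, Finset.card_union_of_disjoint,
        hladj P X hXP] at this
      · omega
      · rw [Finset.disjoint_left]
        intro Y h1 h2
        simp only [Finset.bipartiteAbove, hfar', Finset.mem_filter] at h2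
        exact h2.1.2.2 (mem_nbr.1 (Finset.mem_inter.1 h1).1)
      · simp [Finset.bipartiteAbove, hfar', mem_nbr, fun hh : Adj P P => hh.1 rfl]
        exact fun hh => absurd rfl hh.1
    have hright : ∀ Y ∈ far, ((nbr P).bipartiteBelow (fun (X Y : Sylow 3 G) => Adj X Y) Y).card = c := by
      intro Y hY
      simp only [hfar', Finset.mem_filter, Finset.mem_univ, true_and] at hY
      rw [← hfar Y hY.1 hY.2]
      congr 1
      ext Z
      simp only [Finset.bipartiteBelow, Finset.mem_filter, Finset.mem_inter, mem_nbr]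
      exact ⟨fun ⟨h1, h2⟩ => ⟨h1, h2.symm⟩, fun ⟨h1, h2⟩ => ⟨h1, h2.symm⟩⟩
    rw [Finset.sum_const_nat hleft, Finset.sum_const_nat hright, card_nbr hG h, hfc] at hdc
    have hl17 : l ≤ 17 := by
      have : nbr P ∩ nbr A ⊆ (nbr P).erase A := fun Y hY => Finset.mem_erase.2
        ⟨(mem_nbr.1 (Finset.mem_inter.1 hY).2).1.symm, (Finset.mem_inter.1 hY).1⟩
      have h2 := Finset.card_le_card this
      rw [Finset.card_erase_of_mem (mem_nbr.2 (by simpa using (h.adj_PA (one_mem _)).1)),
        card_nbr hG h] at h2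
      exact h2
    omega
  · intro X Y hne hna
    obtain ⟨g, rfl⟩ := MulAction.exists_smul_eq G P X
    obtain ⟨Z, rfl⟩ : ∃ Z, g • Z = Y := ⟨g⁻¹ • Y, smul_inv_smul g Y⟩
    rw [card_common_smul]
    exact hfar Z (fun e => hne (by rw [e])) (fun e => hna (e.smul g))

/-- No strongly regular graph with parameters (55,18,1,8). -/
theorem false_of_one (hG : Cfsg.IsM11 G) (h : Nbhd P A B w σ K)
    (h1 : ∀ X Y : Sylow 3 G, Adj X Y → (open Classical in (nbr X ∩ nbr Y).card) = 1)
    (h8 : ∀ X Y : Sylow 3 G, X ≠ Y → ¬ Adj X Y → (open Classical in (nbr X ∩ nbr Y).card) = 8) :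
    False := by
  classical
  set Am : Matrix (Sylow 3 G) (Sylow 3 G) (ZMod 7) := Matrix.of fun X Y => if Adj X Y then 1 else 0 with hAm
  set J : Matrix (Sylow 3 G) (Sylow 3 G) (ZMod 7) := Matrix.of fun _ _ => 1 with hJ
  have hA2 : Am * Am = (3 : ZMod 7) • 1 + J := by
    ext X Y
    have e : (Am * Am) X Y = ((nbr X ∩ nbr Y).card : ZMod 7) := by
      rw [show nbr X ∩ nbr Y = Finset.univ.filter (fun Z => Adj X Z ∧ Adj Z Y) from ?_,
          Matrix.mul_apply, ← Finset.sum_boole]
      · refine Finset.sum_congr rfl fun Z _ => ?_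
        simp only [hAm, Matrix.of_apply]
        by_cases a : Adj X Z <;> by_cases b : Adj Z Y <;> simp [a, b]
      · ext Z
        simp only [Finset.mem_inter, mem_nbr, Finset.mem_filter, Finset.mem_univ, true_and]
        exact ⟨fun ⟨a, b⟩ => ⟨a, b.symm⟩, fun ⟨a, b⟩ => ⟨a, b.symm⟩⟩
    rw [e, Matrix.add_apply, Matrix.smul_apply, hJ, Matrix.of_apply, Matrix.one_apply]
    by_cases hXY : X = Y
    · subst hXY
      rw [Finset.inter_self, card_nbr hG h, if_pos rfl]
      decide
    rw [if_neg hXY]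
    by_cases ha : Adj X Y
    · rw [h1 X Y ha]; decide
    · rw [h8 X Y hXY ha]; decide
  have hJJ : J * J = (6 : ZMod 7) • J := by
    ext X Y
    simp only [hJ, Matrix.mul_apply, Matrix.of_apply, mul_one, Matrix.smul_apply, Finset.sum_const,
      Finset.card_univ, card_sylow55 hG]
    decide
  have hAJ : Am * J = (4 : ZMod 7) • J := by
    ext X Y
    simp only [hJ, hAm, Matrix.mul_apply, Matrix.of_apply, mul_one, Matrix.smul_apply, Finset.sum_boole]
    rw [show (Finset.univ.filter fun Z => Adj X Z) = nbr X from by ext Z; simp [mem_nbr],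
      card_nbr hG h]
    decide
  have hA4 : Am ^ 4 = (2 : ZMod 7) • 1 + (5 : ZMod 7) • J := by
    show Am ^ (2 + 2) = _
    rw [pow_add, pow_two, hA2, add_mul, mul_add, mul_add, hJJ]
    simp only [Matrix.smul_mul, Matrix.mul_smul, one_mul, mul_one, smul_smul]
    match_scalars <;> decide
  have hA7 : Am ^ 7 = (6 : ZMod 7) • Am + (6 : ZMod 7) • J := by
    have h6 : Am ^ 6 = (6 : ZMod 7) • 1 + (5 : ZMod 7) • J := by
      show Am ^ (4 + 2) = _
      rw [pow_add, hA4, pow_two, hA2, add_mul, mul_add, mul_add]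
      simp only [Matrix.smul_mul, Matrix.mul_smul, one_mul, mul_one, smul_smul, hJJ]
      match_scalars <;> decide
    show Am ^ (1 + 6) = _
    rw [pow_add, pow_one, h6, mul_add, Matrix.mul_smul, Matrix.mul_smul,
      mul_one, hAJ, smul_smul, show (5 : ZMod 7) * 4 = 6 from by decide]
  have ht : Matrix.trace (Am ^ 7) = Matrix.trace Am ^ 7 :=
    @ZMod.trace_pow_card (Sylow 3 G) _ _ 7 ⟨by norm_num⟩ Am
  rw [hA7, Matrix.trace_add, Matrix.trace_smul, Matrix.trace_smul] at ht
  have htA : Matrix.trace Am = 0 := by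
    simp only [Matrix.trace, Matrix.diag, hAm, Matrix.of_apply]
    exact Finset.sum_eq_zero fun X _ => if_neg fun hh => hh.1 rfl
  have htJ : Matrix.trace J = 6 := by
    simp only [Matrix.trace, Matrix.diag, hJ, Matrix.of_apply, Finset.sum_const, Finset.card_univ,
      card_sylow55 hG]
    decide
  rw [htA, htJ] at ht
  revert ht
  decide

end Counting

open Pointwise in
/-- A simple group of order 7920 has a subgroup of order 720. -/
theorem exists_subgroup_720 (hG : Cfsg.IsM11 G) : ∃ H : Subgroup G, Nat.card H = 720 := by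
  classical
  obtain ⟨P⟩ := (inferInstance : Nonempty (Sylow 3 G))
  obtain ⟨A, B, w, σ, K, h⟩ := exists_nbhd hG P
  haveI : Fintype (Sylow 3 G) := Fintype.ofFinite _
  obtain ⟨l, c, hl, hlc, hladj, hcn⟩ := srg hG h
  set M := Subgroup.normalizer ((P : Subgroup G) : Set G) with hMdef
  obtain ⟨q₀, hq₀P, hq₀1⟩ : ∃ q ∈ (P : Subgroup G), q ≠ 1 := by
    by_contra hcon
    push Not at hcon
    have : (P : Subgroup G) = ⊥ := (Subgroup.eq_bot_iff_forall _).2 hcon
    have h9 := card_nine hG P
    rw [this, Subgroup.card_bot] at h9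
    norm_num at h9
  have hP1 : ∀ X : Sylow 3 G, (1 : G) • X = X := one_smul G
  -- the stabilizer of a set with transitive stabilizer
  have hstab : ∀ (Γ : Finset (Sylow 3 G)), P ∈ Γ →
      (∀ Q ∈ Γ, ∃ g : G, g • (Γ : Set (Sylow 3 G)) = Γ ∧ g • P = Q) →
      Nat.card (MulAction.stabilizer G (Γ : Set (Sylow 3 G))) =
        Γ.card * Nat.card ↥(MulAction.stabilizer G (Γ : Set (Sylow 3 G)) ⊓ M) := by
    intro Γ hPΓ htr
    set H := MulAction.stabilizer G (Γ : Set (Sylow 3 G))
    have horb : MulAction.orbit H P = (Γ : Set (Sylow 3 G)) := by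
      ext Q
      constructor
      · rintro ⟨⟨g, hg⟩, rfl⟩
        rw [← MulAction.mem_stabilizer_iff.1 hg]
        exact Set.smul_mem_smul_set hPΓ
      · intro hQ
        obtain ⟨g, hg, hgP⟩ := htr Q hQ
        exact ⟨⟨g, MulAction.mem_stabilizer_iff.2 hg⟩, hgP⟩
    have hst : MulAction.stabilizer H P = M.subgroupOf H := by
      ext g; exact Sylow.smul_eq_iff_mem_normalizer
    have hc' : Nat.card (M.subgroupOf H) = Nat.card ↥(H ⊓ M) := by
      rw [← Subgroup.inf_subgroupOf_left]
      exact Nat.card_congr (Subgroup.subgroupOfEquivOfLe inf_le_left).toEquiv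
    rw [← hc', ← hst, ← Set.ncard_coe_finset, ← horb, ← MulAction.index_stabilizer]
    exact (Subgroup.index_mul_card _).symm
  by_cases hα : Adj A (q₀ • A)
  · have hαall : ∀ q ∈ (P : Subgroup G), q ≠ 1 → Adj A (q • A) := fun q hq hq1 =>
      (h.adj_A_all hq₀P hq₀1 hq hq1).1 hα
    by_cases hβ : Adj A (q₀ • B)
    · -- λ = 17
      exfalso
      have hβall : ∀ q ∈ (P : Subgroup G), Adj A (q • B) := fun q hq => by
        by_cases e : q = 1
        · rw [e, hP1]; exact h.adj_AB
        · exact (h.adj_A_all hq₀P hq₀1 hq e).2 hβ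
      have hnA : nbr A = insert P ((nbr P).erase A) := by
        refine (Finset.eq_of_subset_of_card_le ?_ ?_).symm
        · intro Y hY
          rcases Finset.mem_insert.1 hY with rfl | hY
          · exact mem_nbr.2 (by have := (h.adj_PA (one_mem _)).1; rw [hP1] at this; exact this.symm)
          · obtain ⟨hne, hY⟩ := Finset.mem_erase.1 hY
            obtain ⟨q, hq, rfl | rfl⟩ := h.nbr Y (mem_nbr.1 hY)
            · exact mem_nbr.2 (hαall q hq fun e => hne (by rw [e, hP1]))
            · exact mem_nbr.2 (hβall q hq)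
        · rw [Finset.card_insert_of_notMem fun hh => (mem_nbr.1 (Finset.mem_erase.1 hh).2).1 rfl,
            Finset.card_erase_of_mem (mem_nbr.2 (by simpa [hP1] using (h.adj_PA (one_mem _)).1)),
            card_nbr hG h, card_nbr hG h]
      set Γ := insert P (nbr P) with hΓ
      have hA : A ∈ nbr P := mem_nbr.2 (by simpa [hP1] using (h.adj_PA (one_mem _)).1)
      have hΓA : insert A (nbr A) = Γ := by
        rw [hnA, hΓ, Finset.insert_comm, Finset.insert_erase hA]
      have hall : ∀ X ∈ Γ, insert X (nbr X) = Γ := by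
        intro X hX
        rcases Finset.mem_insert.1 hX with rfl | hX
        · rfl
        obtain ⟨m, hmP, rfl⟩ := h.trans_nbr (mem_nbr.1 hX)
        have e := congrArg (Finset.image (m • ·)) hΓA
        rw [hΓ, Finset.image_insert, Finset.image_insert, ← nbr_smul, ← nbr_smul, hmP] at e
        exact e
      have hfix : ∀ g : G, g • P ∈ Γ → g • (Γ : Set (Sylow 3 G)) = Γ := by
        intro g hg
        have e := hall _ hg
        rw [nbr_smul, ← Finset.image_insert (g • ·), ← hΓ] at e
        conv_rhs => rw [← e, Finset.coe_image]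
        rfl
      have hcard := hstab Γ (Finset.mem_insert_self _ _) fun Q hQ => by
        obtain ⟨g, rfl⟩ := MulAction.exists_smul_eq G P Q
        exact ⟨g, hfix g hQ, rfl⟩
      have hle : M ≤ MulAction.stabilizer G (Γ : Set (Sylow 3 G)) := fun m hm =>
        MulAction.mem_stabilizer_iff.2 (hfix m (by
          rw [Sylow.smul_eq_iff_mem_normalizer.2 hm]; exact Finset.mem_insert_self _ _))
      rw [inf_eq_right.2 hle, card_normalizer_three hG P,
        Finset.card_insert_of_notMem (fun hh => (mem_nbr.1 hh).1 rfl), card_nbr hG h] at hcard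
      have := Subgroup.card_subgroup_dvd_card (MulAction.stabilizer G (Γ : Set (Sylow 3 G)))
      rw [hcard, hG.2] at this
      norm_num at this
    · -- cliques of size 10
      have hβno : ∀ q ∈ (P : Subgroup G), q ≠ 1 → ¬ Adj A (q • B) := fun q hq hq1 hh =>
        hβ ((h.adj_A_all hq hq1 hq₀P hq₀1).2 hh)
      have hαB : ∀ q ∈ (P : Subgroup G), q ≠ 1 → Adj B (q • B) := by
        intro q hq hq1
        have hσM : σ ∈ M := Sylow.smul_eq_iff_mem_normalizer.1 h.hσ
        have hq' : σ⁻¹ * q * σ ∈ (P : Subgroup G) := (Subgroup.mem_normalizer_iff.1 hσM _).2 (by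
          rw [show σ * (σ⁻¹ * q * σ) * σ⁻¹ = q by group]; exact hq)
        have := (hαall _ hq' (fun e => hq1 (by
          calc q = σ * (σ⁻¹ * q * σ) * σ⁻¹ := by group
            _ = 1 := by rw [e]; group))).smul σ
        rw [h.hσA, ← mul_smul, show σ * (σ⁻¹ * q * σ) = q * σ by group, mul_smul, h.hσA] at this
        exact this
      have hAB' : ∀ q ∈ (P : Subgroup G), ∀ p ∈ (P : Subgroup G), Adj (q • A) (p • B) → q = p := by
        intro q hq p hp hh
        rw [Nbhd.adj_translate] at hh
        by_contra hne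
        exact hβno _ (mul_mem (inv_mem hq) hp) (fun e => hne (inv_mul_eq_one.1 e)) hh
      set C0 := insert P (side P A) with hC0
      set C1 := insert P (side P B) with hC1
      have hPside : ∀ X, (∀ q ∈ (P : Subgroup G), Adj P (q • X)) → P ∉ side P X := by
        intro X hX hm
        obtain ⟨q, hq, e⟩ := mem_side.1 hm
        exact (hX q hq).1 e.symm
      have hc0 : C0.card = 10 := by
        rw [hC0, Finset.card_insert_of_notMem (hPside A fun q hq => (h.adj_PA hq).1),
          card_side hG fun q hq p hp => h.inj_A hq hp]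
      have hclique : ∀ X ∈ C0, ∀ Y ∈ C0, X ≠ Y → Adj X Y := by
        intro X hX Y hY hne
        rcases Finset.mem_insert.1 hX with rfl | hX <;> rcases Finset.mem_insert.1 hY with rfl | hY
        · exact absurd rfl hne
        · obtain ⟨q, hq, rfl⟩ := mem_side.1 hY; exact (h.adj_PA hq).1
        · obtain ⟨q, hq, rfl⟩ := mem_side.1 hX; exact (h.adj_PA hq).1.symm
        · obtain ⟨q, hq, rfl⟩ := mem_side.1 hX
          obtain ⟨p, hp, rfl⟩ := mem_side.1 hY
          rw [Nbhd.adj_translate]
          exact hαall _ (mul_mem (inv_mem hq) hp) fun e => hne (by rw [inv_mul_eq_one.1 e])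
      have hmax : ∀ Z : Finset (Sylow 3 G), Z.card = 10 → P ∈ Z →
          (∀ X ∈ Z, ∀ Y ∈ Z, X ≠ Y → Adj X Y) → Z = C0 ∨ Z = C1 := by
        intro Z hZ hPZ hcl
        have hsub : ∀ Y ∈ Z.erase P, Y ∈ side P A ∨ Y ∈ side P B := by
          intro Y hY
          obtain ⟨hne, hY⟩ := Finset.mem_erase.1 hY
          have := mem_nbr.2 (hcl P hPZ Y hY hne.symm)
          rw [nbr_eq h] at this
          exact Finset.mem_union.1 this
        have h9 : (Z.erase P).card = 9 := by rw [Finset.card_erase_of_mem hPZ, hZ]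
        have hone : ∀ X, (∀ Y ∈ Z.erase P, Y ∈ side P X) →
            (∀ q ∈ (P : Subgroup G), ∀ p ∈ (P : Subgroup G), q • X = p • X → q = p) →
            Z = insert P (side P X) := by
          intro X hX hreg
          have := Finset.eq_of_subset_of_card_le hX (by rw [h9, card_side hG hreg])
          rw [← this, Finset.insert_erase hPZ]
        by_cases hA' : ∀ Y ∈ Z.erase P, Y ∈ side P A
        · exact Or.inl (hone A hA' fun q hq p hp => h.inj_A hq hp)
        by_cases hB' : ∀ Y ∈ Z.erase P, Y ∈ side P B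
        · exact Or.inr (hone B hB' fun q hq p hp => h.inj_B hq hp)
        exfalso
        push Not at hA' hB'
        obtain ⟨Y₁, hY₁, hY₁'⟩ := hB'
        obtain ⟨Y₂, hY₂, hY₂'⟩ := hA'
        obtain ⟨q, hq, rfl⟩ := mem_side.1 ((hsub Y₁ hY₁).resolve_right hY₁')
        obtain ⟨p, hp, rfl⟩ := mem_side.1 ((hsub Y₂ hY₂).resolve_left hY₂')
        have hmemZ : ∀ {Y}, Y ∈ Z.erase P → Y ∈ Z := fun hY => (Finset.mem_erase.1 hY).2
        have hqp : q = p := hAB' q hq p hp (hcl _ (hmemZ hY₁) _ (hmemZ hY₂) fun e =>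
          h.sep (p⁻¹ * q) (mul_mem (inv_mem hp) hq) (by rw [mul_smul, e, inv_smul_smul]))
        subst hqp
        have hle : Z.erase P ⊆ {q • A, q • B} := by
          intro Y hY
          rw [Finset.mem_insert, Finset.mem_singleton]
          by_contra hne
          push Not at hne
          rcases hsub Y hY with hs | hs
          · obtain ⟨r, hr, rfl⟩ := mem_side.1 hs
            exact hne.1 (by rw [hAB' r hr q hq (hcl _ (hmemZ hY) _ (hmemZ hY₂) hne.2)])
          · obtain ⟨r, hr, rfl⟩ := mem_side.1 hs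
            exact hne.2 (by rw [hAB' q hq r hr (hcl _ (hmemZ hY₁) _ (hmemZ hY) (Ne.symm hne.1))])
        have := (Finset.card_le_card hle).trans Finset.card_le_two
        omega
      have hσ0 : C0.image (σ • ·) = C1 := by
        have hσM : σ ∈ M := Sylow.smul_eq_iff_mem_normalizer.1 h.hσ
        ext Y
        simp only [hC0, hC1, Finset.image_insert, h.hσ, Finset.mem_insert, Finset.mem_image, mem_side]
        refine or_congr_right ?_
        constructor
        · rintro ⟨-, ⟨q, hq, rfl⟩, rfl⟩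
          refine ⟨σ * q * σ⁻¹, (Subgroup.mem_normalizer_iff.1 hσM q).1 hq, ?_⟩
          rw [← h.hσA, ← mul_smul, ← mul_smul]
          congr 1; group
        · rintro ⟨q, hq, rfl⟩
          refine ⟨(σ⁻¹ * q * σ) • A, ⟨_, (Subgroup.mem_normalizer_iff.1 hσM _).2 (by
            rw [show σ * (σ⁻¹ * q * σ) * σ⁻¹ = q by group]; exact hq), rfl⟩, ?_⟩
          rw [← h.hσA, ← mul_smul, ← mul_smul]
          congr 1; group
      have hcard := hstab C0 (Finset.mem_insert_self _ _) fun Q hQ => by
        obtain ⟨g, rfl⟩ := MulAction.exists_smul_eq G P Q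
        set Z := C0.image (g⁻¹ • ·) with hZ
        have hZc : Z.card = 10 := by
          rw [hZ, Finset.card_image_of_injective _ (MulAction.injective g⁻¹), hc0]
        have hPZ : P ∈ Z := Finset.mem_image.2 ⟨g • P, hQ, inv_smul_smul g P⟩
        have hZcl : ∀ X ∈ Z, ∀ Y ∈ Z, X ≠ Y → Adj X Y := by
          intro X hX Y hY hne
          obtain ⟨X', hX', rfl⟩ := Finset.mem_image.1 hX
          obtain ⟨Y', hY', rfl⟩ := Finset.mem_image.1 hY
          exact (hclique X' hX' Y' hY' fun e => hne (by rw [e])).smul g⁻¹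
        have hgZ : Z.image (g • ·) = C0 := by
          rw [hZ, Finset.image_image]
          convert Finset.image_id (s := C0) using 2
          funext X; simp
        rcases hmax Z hZc hPZ hZcl with hh | hh
        · refine ⟨g, ?_, rfl⟩
          conv_rhs => rw [← hgZ, hh, Finset.coe_image]
          rfl
        · refine ⟨g * σ, ?_, by rw [mul_smul, h.hσ]⟩
          conv_rhs => rw [← hgZ, hh, ← hσ0, Finset.image_image, Finset.coe_image]
          ext X
          simp [Set.mem_smul_set, mul_smul]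
      refine ⟨MulAction.stabilizer G (C0 : Set (Sylow 3 G)), ?_⟩
      set H := MulAction.stabilizer G (C0 : Set (Sylow 3 G)) with hH
      have hfixC : ∀ m : G, (∀ X ∈ C0, m • X ∈ C0) → m ∈ H := fun m hm => by
        rw [hH, MulAction.mem_stabilizer_iff, ← Set.image_smul, ← Finset.coe_image, Finset.coe_inj]
        exact Finset.eq_of_subset_of_card_le (fun Y hY => by
          obtain ⟨X, hX, rfl⟩ := Finset.mem_image.1 hY; exact hm X hX)
          (by rw [Finset.card_image_of_injective _ (MulAction.injective m)])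
      have hKM : ∀ k ∈ K, k ∈ M := fun k hk => Sylow.smul_eq_iff_mem_normalizer.1 (h.fixK k hk).1
      have hPH : (P : Subgroup G) ≤ H ⊓ M := fun p hp => ⟨hfixC p fun X hX => by
        rcases Finset.mem_insert.1 hX with rfl | hX
        · rw [Nbhd.smul_P X hp]; exact Finset.mem_insert_self _ _
        · obtain ⟨q, hq, rfl⟩ := mem_side.1 hX
          exact Finset.mem_insert_of_mem (mem_side.2 ⟨p * q, mul_mem hp hq, mul_smul p q A⟩),
        Subgroup.le_normalizer hp⟩
      have hKH : K ≤ H ⊓ M := fun k hk => ⟨hfixC k fun X hX => by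
        rcases Finset.mem_insert.1 hX with rfl | hX
        · rw [(h.fixK k hk).1]; exact Finset.mem_insert_self _ _
        · obtain ⟨q, hq, rfl⟩ := mem_side.1 hX
          exact Finset.mem_insert_of_mem (mem_side.2 ⟨k * q * k⁻¹,
            (Subgroup.mem_normalizer_iff.1 (hKM k hk) q).1 hq, (h.k_smul hk q).1.symm⟩),
        hKM k hk⟩
      have h72 : 72 ∣ Nat.card ↥(H ⊓ M) := Nat.Coprime.mul_dvd_of_dvd_of_dvd
        (by norm_num : Nat.Coprime 9 8) (card_nine hG P ▸ Subgroup.card_dvd_of_le hPH)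
        (h.cardK ▸ Subgroup.card_dvd_of_le hKH)
      have h144 : Nat.card ↥(H ⊓ M) ∣ 144 :=
        card_normalizer_three hG P ▸ Subgroup.card_dvd_of_le inf_le_right
      have hne : Nat.card ↥(H ⊓ M) ≠ 144 := by
        intro e
        have hM' := Subgroup.eq_of_le_of_card_ge (inf_le_right : H ⊓ M ≤ M)
          (by rw [e, card_normalizer_three hG P])
        have hσH : σ ∈ H := (hM'.ge (Sylow.smul_eq_iff_mem_normalizer.1 h.hσ)).1
        have hmem : σ • A ∈ (C0 : Set (Sylow 3 G)) := by
          rw [← MulAction.mem_stabilizer_iff.1 hσH]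
          exact Set.smul_mem_smul_set (Finset.mem_insert_of_mem (mem_side.2 ⟨1, one_mem _, hP1 A⟩))
        rw [h.hσA, Finset.mem_coe] at hmem
        rcases Finset.mem_insert.1 hmem with e' | e'
        · exact h.hBP e'
        · obtain ⟨q, hq, e''⟩ := mem_side.1 e'
          exact h.sep q hq e''
      rw [hcard, hc0]
      obtain ⟨j, hj⟩ := h72
      rw [hj] at h144 hne ⊢
      have := Nat.le_of_dvd (by norm_num) h144
      have hj2 : j ≤ 2 := by omega
      interval_cases j <;> omega
  · exfalso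
    have hαno : ∀ q ∈ (P : Subgroup G), q ≠ 1 → ¬ Adj A (q • A) := fun q hq hq1 hh =>
      hα ((h.adj_A_all hq hq1 hq₀P hq₀1).1 hh)
    by_cases hβ : Adj A (q₀ • B)
    · -- cross
      have hβall : ∀ q ∈ (P : Subgroup G), Adj A (q • B) := fun q hq => by
        by_cases e : q = 1
        · rw [e, hP1]; exact h.adj_AB
        · exact (h.adj_A_all hq₀P hq₀1 hq e).2 hβ
      have hsub : insert P (side P B) ⊆ nbr A ∩ nbr (q₀ • A) := by
        intro Y hY
        rw [Finset.mem_inter, mem_nbr, mem_nbr]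
        rcases Finset.mem_insert.1 hY with rfl | hY
        · have h1 := (h.adj_PA (one_mem _)).1
          rw [hP1] at h1
          exact ⟨h1.symm, (h.adj_PA hq₀P).1.symm⟩
        · obtain ⟨p, hp, rfl⟩ := mem_side.1 hY
          exact ⟨hβall p hp, Nbhd.adj_translate _ _ |>.2 (hβall _ (mul_mem (inv_mem hq₀P) hp))⟩
      have h10 := Finset.card_le_card hsub
      rw [Finset.card_insert_of_notMem (fun hm => by
          obtain ⟨q, hq, e⟩ := mem_side.1 hm
          exact (h.adj_PA hq).2.1 e.symm), card_side hG fun q hq p hp => h.inj_B hq hp,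
        hcn A (q₀ • A) (fun e => hq₀1 (h.regA q₀ hq₀P e.symm)) hα] at h10
      omega
    · have hβno : ∀ q ∈ (P : Subgroup G), q ≠ 1 → ¬ Adj A (q • B) := fun q hq hq1 hh =>
        hβ ((h.adj_A_all hq hq1 hq₀P hq₀1).2 hh)
      have he : nbr P ∩ nbr A = {B} := by
        ext Y
        simp only [Finset.mem_inter, mem_nbr, Finset.mem_singleton]
        constructor
        · rintro ⟨h1, h2⟩
          obtain ⟨q, hq, rfl | rfl⟩ := h.nbr Y h1
          · by_cases e : q = 1
            · rw [e, hP1] at h2; exact absurd rfl h2.1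
            · exact absurd h2 (hαno q hq e)
          · by_cases e : q = 1
            · rw [e, hP1]
            · exact absurd h2 (hβno q hq e)
        · rintro rfl
          refine ⟨?_, h.adj_AB⟩
          have := (h.adj_PA (one_mem _)).2
          rwa [hP1] at this
      have hl1 : l = 1 := by rw [hl, he, Finset.card_singleton]
      have hc8 : c = 8 := by omega
      refine false_of_one hG h ?_ ?_
      · intro X Y hXY
        rw [← hl1]
        convert hladj X Y hXY
      · intro X Y hne hna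
        rw [← hc8]
        convert hcn X Y hne hna

end Cfsg.Agent.H69.M11
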