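import Cfsg.Agent.H69.M11.Isolated

/-!
The Sylow 3-subgroups of a simple group of order 7920 are self-centralizing.
-/

set_option autoImplicit false

namespace Cfsg.Agent.H69.M11

open Subgroup MulAction
open scoped commutatorElement

variable {G : Type*} [Group G] [Finite G]

theorem conj_le_centralizer {s : G} {P : Sylow 3 G}
    (h : (P : Subgroup G) ≤ Subgroup.centralizer ({s} : Set G)) (g : G) :
    ((g • P : Sylow 3 G) : Subgroup G) ≤ Subgroup.centralizer ({g * s * g⁻¹} : Set G) := by
  intro q hq
  rw [Sylow.coe_subgroup_smul, Subgroup.mem_smul_pointwise_iff_exists] at hq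
  obtain ⟨r, hr, rfl⟩ := hq
  exact Subgroup.mem_centralizer_singleton_iff.2
    ((commute_conj_iff g r s).2 (Subgroup.mem_centralizer_singleton_iff.1 (h hr))).eq

theorem mem_centralizer_sylow_iff {s : G} {P : Sylow 3 G} :
    s ∈ Subgroup.centralizer ((P : Subgroup G) : Set G) ↔
      (P : Subgroup G) ≤ Subgroup.centralizer ({s} : Set G) := by
  constructor
  · exact fun h q hq => Subgroup.mem_centralizer_singleton_iff.2 (h q hq)
  · exact fun h q hq => Subgroup.mem_centralizer_singleton_iff.1 (h hq)

/-- The number of involutions of a group of even order is odd. -/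
theorem odd_card_involutions {H : Type*} [Group H] [Finite H] (h2 : 2 ∣ Nat.card H) :
    Odd (Nat.card {z : H // orderOf z = 2}) := by
  classical
  haveI := Fintype.ofFinite H
  let σ : Equiv.Perm H := Equiv.inv H
  have hσ : σ ^ 2 ^ 1 = 1 := by ext g; simp [σ, pow_two]
  have hs := Equiv.Perm.two_dvd_card_support (σ := σ) (by simpa using hσ)
  have hsupp : σ.support = Finset.univ \ insert 1 (Finset.univ.filter fun z : H => orderOf z = 2) := by
    ext g
    simp only [σ, Equiv.Perm.mem_support, Equiv.inv_apply, Finset.mem_sdiff, Finset.mem_univ,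
      Finset.mem_insert, Finset.mem_filter, true_and]
    constructor
    · rintro h (rfl | h2)
      · exact h inv_one
      · exact h (inv_eq_of_mul_eq_one_right (H26.mul_self_of_orderOf_two h2))
    · intro h he
      push Not at h
      refine h.2 (H26.orderOf_two_of_mul_self ?_ h.1)
      nth_rw 1 [← he]
      exact inv_mul_cancel g
  have hc : σ.support.card + (Nat.card {z : H // orderOf z = 2} + 1) = Nat.card H := by
    rw [hsupp, Nat.card_eq_fintype_card, Fintype.card_subtype, Nat.card_eq_fintype_card,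
      ← Finset.card_univ]
    have hn : (1 : H) ∉ Finset.univ.filter fun z : H => orderOf z = 2 := by simp
    rw [← Finset.card_insert_of_notMem hn]
    exact Finset.card_sdiff_add_card_eq_card (Finset.subset_univ _)
  rw [Nat.odd_iff]
  omega

/-- A 2-group acting on a set of odd size has a fixed point. -/
theorem exists_central_involution (hG : Cfsg.IsM11 G) (P : Sylow 3 G)
    (hM : Nat.card (Subgroup.normalizer ((P : Subgroup G) : Set G)) = 144)
    (h2 : 2 ∣ Nat.card (Subgroup.centralizer ((P : Subgroup G) : Set G))) :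
    ∃ z : G, orderOf z = 2 ∧
      Subgroup.centralizer ({z} : Set G) = Subgroup.normalizer ((P : Subgroup G) : Set G) := by
  classical
  haveI : Fact (Nat.Prime 2) := ⟨Nat.prime_two⟩
  set M := Subgroup.normalizer ((P : Subgroup G) : Set G) with hMdef
  set C := Subgroup.centralizer ((P : Subgroup G) : Set G) with hCdef
  obtain ⟨S₀, hS₀⟩ := Sylow.exists_subgroup_card_pow_prime (G := M) 2 (n := 4) (by rw [hM]; norm_num)
  set S : Subgroup G := S₀.map M.subtype with hSdef
  have hS : Nat.card S = 2 ^ 4 := by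
    rw [hSdef, Subgroup.card_map_of_injective (Subgroup.subtype_injective M), hS₀]
  have hSM : S ≤ M := Subgroup.map_subtype_le _
  let I : Set G := {z | z ∈ C ∧ orderOf z = 2}
  have hIc : Nat.card I = Nat.card {z : C // orderOf z = 2} := Nat.card_congr
    { toFun := fun z => ⟨⟨z, z.2.1⟩, by rw [← Subgroup.orderOf_coe]; exact z.2.2⟩
      invFun := fun z => ⟨z.1, z.1.2, by rw [Subgroup.orderOf_coe]; exact z.2⟩
      left_inv := fun z => rfl
      right_inv := fun z => rfl }
  letI : MulAction S I :=
    { smul := fun a z => ⟨(a : G) * z * (a : G)⁻¹, by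
        refine ⟨fun q hq => ?_, ?_⟩
        · have hmem : (a : G)⁻¹ * q * (a : G) ∈ (P : Subgroup G) := by
            have := (Subgroup.mem_normalizer_iff.1 (inv_mem (hSM a.2)) q).1 hq
            rwa [inv_inv] at this
          have hz := z.2.1 _ hmem
          have := (commute_conj_iff (a : G) _ _).2 hz
          simp only [mul_assoc, mul_inv_cancel_left, mul_inv_cancel, mul_one] at this ⊢
          simpa [mul_assoc] using this.eq
        · rw [H26.orderOf_conj_eq]; exact z.2.2⟩
      one_smul := fun z => Subtype.ext (show (1 : G) * z * (1 : G)⁻¹ = z by simp)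
      mul_smul := fun a b z => Subtype.ext
        (show ((a : G) * b) * z * ((a : G) * b)⁻¹ = a * (b * z * (b : G)⁻¹) * (a : G)⁻¹ by group) }
  have hodd := odd_card_involutions h2
  rw [← hIc] at hodd
  have hfix := (IsPGroup.of_card hS).card_modEq_card_fixedPoints I
  obtain ⟨z, hz⟩ : (MulAction.fixedPoints S I).Nonempty := by
    rw [Set.nonempty_iff_ne_empty]
    intro he
    rw [he, Nat.ModEq, Nat.card_coe_set_eq (∅ : Set I), Set.ncard_empty, Nat.odd_iff.1 hodd] at hfix
    omega
  refine ⟨z, z.2.2, ?_⟩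
  set L := Subgroup.centralizer ({(z : G)} : Set G) with hLdef
  have hPL : (P : Subgroup G) ≤ L := mem_centralizer_sylow_iff.1 z.2.1
  have hSL : S ≤ L := fun a ha => Subgroup.mem_centralizer_singleton_iff.2 <| by
    have := congrArg Subtype.val (hz ⟨a, ha⟩)
    change a * z * a⁻¹ = z at this
    exact mul_inv_eq_iff_eq_mul.1 this
  have h144 : Nat.card ↥(L ⊓ M) = 144 := by
    refine Nat.dvd_antisymm (hM ▸ Subgroup.card_dvd_of_le inf_le_right) ?_
    exact Nat.Coprime.mul_dvd_of_dvd_of_dvd (by norm_num : Nat.Coprime 9 16)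
      (card_nine hG P ▸ Subgroup.card_dvd_of_le (le_inf hPL Subgroup.le_normalizer))
      (show 2 ^ 4 ∣ _ from hS ▸ Subgroup.card_dvd_of_le (le_inf hSL hSM))
  obtain ⟨hmul, hmod⟩ := orbit_count P hPL
  rw [h144] at hmul
  set n := (MulAction.orbit L P).ncard
  have hd : n * 144 ∣ 55 * 144 := by
    rw [hmul, show 55 * 144 = Nat.card G by rw [hG.2]]
    exact Subgroup.card_subgroup_dvd_card _
  have hn : n ∣ 55 := Nat.dvd_of_mul_dvd_mul_right (by norm_num) hd
  have hn1 : n = 1 := by
    have hmem : n ∈ Nat.divisors 55 := Nat.mem_divisors.2 ⟨hn, by norm_num⟩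
    rw [show Nat.divisors 55 = {1, 5, 11, 55} by decide +kernel] at hmem
    simp only [Finset.mem_insert, Finset.mem_singleton] at hmem
    rcases hmem with h | h | h | h <;> try omega
    exfalso
    have htop : L = ⊤ := Subgroup.eq_top_of_card_eq _ (by rw [← hmul, h, hG.2])
    haveI := hG.1
    refine H26.ne_one_of_orderOf_two z.2.2 (eq_one_of_central (not_comm hG) fun g => ?_)
    exact Subgroup.mem_centralizer_singleton_iff.1 (show g ∈ L by rw [htop]; trivial)
  rw [hn1, one_mul] at hmul
  exact (Subgroup.eq_of_le_of_card_ge (inf_le_left : L ⊓ M ≤ L) (by rw [h144, ← hmul])).symm.trans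
    (Subgroup.eq_of_le_of_card_ge inf_le_right (by rw [h144, hM]))

theorem false_of_fiftyFive (hG : Cfsg.IsM11 G) (P : Sylow 3 G)
    (hM : Nat.card (Subgroup.normalizer ((P : Subgroup G) : Set G)) = 144)
    (h2 : 2 ∣ Nat.card (Subgroup.centralizer ((P : Subgroup G) : Set G))) : False := by
  obtain ⟨z, hz, hCz⟩ := exists_central_involution hG P hM h2
  set M := Subgroup.normalizer ((P : Subgroup G) : Set G)
  have hPz : (P : Subgroup G) ≤ Subgroup.centralizer ({z} : Set G) := by
    rw [hCz]; exact Subgroup.le_normalizer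
  -- every Sylow 3-subgroup of a conjugate centralizer is the conjugate of `P`
  have huniq : ∀ (g : G) (R : Sylow 3 G), (R : Subgroup G) ≤ Subgroup.centralizer ({g * z * g⁻¹} : Set G) →
      R = g • P := by
    intro g R hR
    have hgP := conj_le_centralizer (P := P) hPz g
    obtain ⟨⟨l, hl⟩, rfl⟩ := mem_orbit_of_le hgP hR
    have hl' : g⁻¹ * l * g ∈ M := by
      rw [← hCz]
      refine Subgroup.mem_centralizer_singleton_iff.2 ?_
      have := Commute.map (Subgroup.mem_centralizer_singleton_iff.1 hl : Commute l (g * z * g⁻¹))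
        (MulAut.conj g⁻¹).toMonoidHom
      simpa [mul_assoc] using this.eq
    show l • g • P = g • P
    rw [← inv_smul_eq_iff, ← mul_smul, ← mul_smul]
    refine Sylow.smul_eq_iff_mem_normalizer.2 ?_
    have hinv := inv_mem (inv_mem hl')
    have h5 : g⁻¹ * l * g ∈ M := by simpa using hinv
    simpa [mul_assoc, M] using h5
  have hU : ∀ s s' : G, IsConj z s → IsConj z s' → ∀ Q R : Sylow 3 G,
      (Q : Subgroup G) ≤ Subgroup.centralizer ({s} : Set G) →
      (R : Subgroup G) ≤ Subgroup.centralizer ({s'} : Set G) →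
      ∀ x ∈ (Q : Subgroup G), x ∈ (R : Subgroup G) → x ≠ 1 → s = s' := by
    intro s s' hs hs' Q R hQ hR x hxQ hxR hx1
    obtain ⟨g, rfl⟩ := isConj_iff.1 hs
    obtain ⟨g', rfl⟩ := isConj_iff.1 hs'
    have hso : orderOf (g * z * g⁻¹) = 2 := by rw [H26.orderOf_conj_eq, hz]
    have hsR := mem_centralizer_of_meet hG hso Q R (mem_centralizer_sylow_iff.2 hQ) hxQ hxR hx1
    have h1 := huniq g R (mem_centralizer_sylow_iff.1 hsR)
    have h2' := huniq g' R hR
    have hmem : g⁻¹ * g' ∈ M := by
      refine Sylow.smul_eq_iff_mem_normalizer.1 ?_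
      rw [mul_smul, ← h2', h1, inv_smul_smul]
    have hc : g⁻¹ * g' * z = z * (g⁻¹ * g') := Subgroup.mem_centralizer_singleton_iff.1 (hCz.ge hmem)
    calc g * z * g⁻¹ = g * (z * (g⁻¹ * g')) * g'⁻¹ := by group
      _ = g * (g⁻¹ * g' * z) * g'⁻¹ := by rw [hc]
      _ = g' * z * g'⁻¹ := by group
  refine false_of_class hG hz (by rw [hCz, hM]) hU fun s hs => ?_
  obtain ⟨g, rfl⟩ := isConj_iff.1 hs
  have hgP := conj_le_centralizer (P := P) hPz g
  obtain ⟨y, hy⟩ := exists_prime_orderOf_dvd_card' (G := ((g • P : Sylow 3 G) : Subgroup G)) 3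
    (by rw [card_nine hG]; norm_num)
  refine ⟨g • P, hgP, y, y.2, by rw [Subgroup.orderOf_coe, hy], fun a ha hne hc => ?_⟩
  have haa : a * a = 1 := H26.mul_self_of_orderOf_two (by rw [← H26.isConj_orderOf ha, hz])
  have hai : a⁻¹ = a := inv_eq_of_mul_eq_one_right haa
  have haN : a ∈ Subgroup.normalizer (((g • P : Sylow 3 G) : Subgroup G) : Set G) := by
    refine Sylow.smul_eq_iff_mem_normalizer.1 (huniq g (a • g • P) ?_)
    have := conj_le_centralizer hgP a
    have he : a * (g * z * g⁻¹) * a⁻¹ = g * z * g⁻¹ := by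
      rw [hc.eq, mul_inv_cancel_right]
    rwa [he] at this
  have hmem : a * y * a ∈ ((g • P : Sylow 3 G) : Subgroup G) := by
    have := (Subgroup.mem_normalizer_iff.1 haN y).1 y.2
    rwa [hai] at this
  set w := (y : G) * (a * y * a) with hw
  have hwc : Commute a w := by
    have hcomm := sylow_three_comm hG (g • P) _ y.2 _ hmem
    show a * w = w * a
    calc a * w = (a * y * a) * y * a := by
          rw [hw]
          simp only [mul_assoc]
      _ = w * a := by rw [hw, hcomm]
  have hw1 : w = 1 := by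
    by_contra hw1
    have hwmem : w ∈ ((g • P : Sylow 3 G) : Subgroup G) := mul_mem y.2 hmem
    obtain ⟨R, hR, hwR⟩ := exists_sylow_le hG (L := Subgroup.centralizer ({a} : Set G)) (by
        obtain ⟨k, hk⟩ := isConj_iff.1 ha
        rw [← hk]
        exact card_nine hG _ ▸ Subgroup.card_dvd_of_le
          (conj_le_centralizer (P := P) hPz k))
      (Subgroup.mem_centralizer_singleton_iff.2 hwc.eq.symm) (orderOf_dvd_nine hG _ hwmem)
    exact hne (hU a _ ha (isConj_iff.2 ⟨g, rfl⟩) R (g • P) hR hgP w hwR hwmem hw1)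
  rw [hw, mul_eq_one_iff_inv_eq] at hw1
  rw [← hw1]
  exact inv_mem (Subgroup.mem_zpowers _)

/-- With 220 Sylow 3-subgroups: the involution centralizing a Sylow 3-subgroup. -/
theorem thirtySix_setup (hG : Cfsg.IsM11 G) (P : Sylow 3 G)
    (hM : Nat.card (Subgroup.normalizer ((P : Subgroup G) : Set G)) = 36)
    (h2 : 2 ∣ Nat.card (Subgroup.centralizer ((P : Subgroup G) : Set G))) :
    ∃ s : G, orderOf s = 2 ∧ (P : Subgroup G) ≤ Subgroup.centralizer ({s} : Set G) ∧
      Subgroup.normalizer ((P : Subgroup G) : Set G) ≤ Subgroup.centralizer ({s} : Set G) ∧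
      Nat.card (Subgroup.centralizer ((P : Subgroup G) : Set G)) = 18 ∧
      (∀ z ∈ Subgroup.centralizer ((P : Subgroup G) : Set G), orderOf z = 2 → z = s) := by
  haveI : Fact (Nat.Prime 2) := ⟨Nat.prime_two⟩
  haveI := hG.1
  set M := Subgroup.normalizer ((P : Subgroup G) : Set G) with hMdef
  set C := Subgroup.centralizer ((P : Subgroup G) : Set G) with hCdef
  have hCM : C ≤ M := Subgroup.centralizer_le_normalizer _
  have hC18 : Nat.card C = 18 := by
    have h1 := Subgroup.card_dvd_of_le hCM
    rw [hM] at h1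
    have h9 := Subgroup.card_dvd_of_le (le_centralizer_three hG P)
    rw [card_nine hG P] at h9
    have h18 : 18 ∣ Nat.card C := Nat.Coprime.mul_dvd_of_dvd_of_dvd (by norm_num : Nat.Coprime 9 2) h9 h2
    obtain ⟨k, hk⟩ := h18
    rw [hk] at h1 ⊢
    have : k ∣ 2 := Nat.dvd_of_mul_dvd_mul_left (by norm_num : 0 < 18) (show 18 * k ∣ 18 * 2 from h1)
    rcases (Nat.dvd_prime Nat.prime_two).1 this with rfl | rfl
    · rfl
    · exfalso
      exact not_normalizer_le_centralizer (not_comm hG) (by rw [hG.2]; norm_num) P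
        (Subgroup.eq_of_le_of_card_ge hCM (by rw [hk, hM])).ge
  obtain ⟨s₀, hs₀⟩ := exists_prime_orderOf_dvd_card' 2 h2
  set s : G := (s₀ : G) with hsdef
  have hs : orderOf s = 2 := by rw [hsdef, Subgroup.orderOf_coe, hs₀]
  have huni : ∀ z ∈ C, orderOf z = 2 → z = s := by
    intro z hz hzo
    have hidx : ((P : Subgroup G).subgroupOf C).index = 2 := by
      have := ((P : Subgroup G).subgroupOf C).index_mul_card
      rw [Nat.card_congr (Subgroup.subgroupOfEquivOfLe (le_centralizer_three hG P)).toEquiv,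
        card_nine hG P, hC18] at this
      omega
    have hnot : ∀ w : G, orderOf w = 2 → w ∉ (P : Subgroup G) := fun w hw h => by
      have := orderOf_dvd_nine hG P h
      rw [hw] at this; norm_num at this
    have hmem : z * s ∈ (P : Subgroup G) := by
      have := (Subgroup.mul_mem_iff_of_index_two hidx (a := (⟨z, hz⟩ : C)) (b := s₀)).2
        (iff_of_false (hnot z hzo) (hnot s hs))
      exact this
    have hzz := H26.mul_self_of_orderOf_two hzo
    have hss := H26.mul_self_of_orderOf_two hs
    have hc : z * (z * s) = (z * s) * z := (hz _ hmem).symm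
    rw [← mul_assoc, hzz, one_mul] at hc
    have h21 : (z * s) ^ 2 = 1 := by
      rw [pow_two, ← mul_assoc, ← hc, hss]
    have h1 : z * s = 1 := orderOf_eq_one_iff.1 (Nat.eq_one_of_dvd_coprimes
      (by norm_num : Nat.Coprime 9 2) (orderOf_dvd_nine hG P hmem) (orderOf_dvd_of_pow_eq_one h21))
    rw [mul_eq_one_iff_eq_inv, inv_eq_of_mul_eq_one_right hss] at h1
    exact h1
  refine ⟨s, hs, mem_centralizer_sylow_iff.1 s₀.2, fun m hm => ?_, hC18, huni⟩
  refine Subgroup.mem_centralizer_singleton_iff.2 (mul_inv_eq_iff_eq_mul.1 (huni _ ?_ ?_))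
  · intro q hq
    have hmem : m⁻¹ * q * m ∈ (P : Subgroup G) := by
      have := (Subgroup.mem_normalizer_iff.1 (inv_mem hm) q).1 hq
      rwa [inv_inv] at this
    have := (commute_conj_iff m _ _).2 (s₀.2 _ hmem : Commute (m⁻¹ * q * m) s)
    simp only [mul_assoc, mul_inv_cancel_left, mul_inv_cancel, mul_one] at this ⊢
    simpa [mul_assoc] using this.eq
  · rw [H26.orderOf_conj_eq, hs]

/-- A normal 2-complement argument: `s` outside an index-2 subgroup of a Sylow 2-subgroup. -/
theorem false_of_small_centralizer (hG : Cfsg.IsM11 G) {s : G} (hs : orderOf s = 2)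
    (hC : Nat.card (Subgroup.centralizer ({s} : Set G)) = 36) : False := by
  classical
  haveI : Fact (Nat.Prime 2) := ⟨Nat.prime_two⟩
  haveI := hG.1
  have hp : IsPGroup 2 (Subgroup.zpowers s) := IsPGroup.of_card (n := 1) (by rw [Nat.card_zpowers, hs, pow_one])
  obtain ⟨S, hS⟩ := hp.exists_le_sylow
  have hsS : s ∈ (S : Subgroup G) := hS (Subgroup.mem_zpowers s)
  have hS16 : Nat.card (S : Subgroup G) = 16 := by
    simpa using card_sylow_eq (k := 4) hG (by norm_num) (by norm_num) S
  -- the conjugates of `s` in `S` have centralizers of order at most 4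
  have hsmall : ∀ q : (S : Subgroup G), IsConj s (q : G) →
      Nat.card (Subgroup.centralizer ({q} : Set (S : Subgroup G))) ∣ 4 := by
    intro q hq
    obtain ⟨k, hk⟩ := isConj_iff.1 hq
    have hcq : Nat.card (Subgroup.centralizer ({(q : G)} : Set G)) = 36 := by
      have h1 := card_centralizer_mul_class (q : G)
      have h2 := card_centralizer_mul_class s
      rw [show Nat.card {g : G // IsConj (q : G) g} = Nat.card {g : G // IsConj s g} from
        Nat.card_congr (Equiv.subtypeEquivRight fun g => ⟨hq.trans, hq.symm.trans⟩), ← h2] at h1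
      rw [← hC]
      exact Nat.eq_of_mul_eq_mul_left (Nat.pos_of_ne_zero fun h => by
        rw [h, zero_mul, hG.2] at h2; omega) h1
    have hle : (Subgroup.centralizer ({q} : Set (S : Subgroup G))).map (S : Subgroup G).subtype ≤
        Subgroup.centralizer ({(q : G)} : Set G) := by
      rintro - ⟨a, ha, rfl⟩
      exact Subgroup.mem_centralizer_singleton_iff.2
        (congrArg Subtype.val (Subgroup.mem_centralizer_singleton_iff.1 ha))
    have h36 := Subgroup.card_dvd_of_le hle
    rw [hcq, Subgroup.card_map_of_injective (Subgroup.subtype_injective _)] at h36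
    have h16 : _ ∣ 16 := hS16 ▸ Subgroup.card_subgroup_dvd_card (Subgroup.centralizer ({q} : Set (S : Subgroup G)))
    exact Nat.dvd_gcd h16 h36
  set D : Subgroup (S : Subgroup G) := _root_.commutator (S : Subgroup G) with hDdef
  have hPS : IsPGroup 2 (S : Subgroup G) := S.2
  set s' : (S : Subgroup G) := ⟨s, hsS⟩
  -- the class of each conjugate of `s` in `S` is a full coset of `D`
  have hclass : ∀ q : (S : Subgroup G), IsConj s (q : G) →
      Nat.card {g // IsConj q g} ≥ 4 := by
    intro q hq
    have h := card_centralizer_mul_class q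
    rw [hS16] at h
    have h4 := Nat.le_of_dvd (by norm_num) (hsmall q hq)
    nlinarith [h4, h]
  have hincl : ∀ q g : (S : Subgroup G), IsConj q g → q⁻¹ * g ∈ D := by
    intro q g hqg
    obtain ⟨c, rfl⟩ := isConj_iff.1 hqg
    have hm : q⁻¹ * c * q * c⁻¹ ∈ D := by
      have := Subgroup.commutator_mem_commutator (Subgroup.mem_top q⁻¹) (Subgroup.mem_top c)
      rw [commutatorElement_def, inv_inv] at this
      exact this
    rwa [← mul_assoc, ← mul_assoc]
  haveI : Group.IsNilpotent (S : Subgroup G) := hPS.isNilpotent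
  have hkey : ∀ x : (S : Subgroup G), D ⊔ Subgroup.zpowers x = ⊤ → False := by
    have hcom : ∀ (H : Subgroup (S : Subgroup G)), IsCoatom H → D ≤ H := by
      intro H hH
      haveI : H.Normal := NormalizerCondition.normal_of_coatom H normalizerCondition_of_isNilpotent hH
      obtain ⟨x, -, hx⟩ := SetLike.exists_of_lt (lt_top_iff_ne_top.2 hH.1)
      have hgen : H ⊔ Subgroup.zpowers x = ⊤ := hH.2 _ (lt_of_le_of_ne le_sup_left (fun h =>
        hx (h ▸ (le_sup_right : Subgroup.zpowers x ≤ H ⊔ Subgroup.zpowers x) (Subgroup.mem_zpowers x))))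
      have hcyc : IsCyclic ((S : Subgroup G) ⧸ H) := by
        refine ⟨⟨QuotientGroup.mk' H x, fun g => ?_⟩⟩
        obtain ⟨g, rfl⟩ := QuotientGroup.mk'_surjective H g
        have hg : g ∈ H ⊔ Subgroup.zpowers x := hgen ▸ Subgroup.mem_top g
        obtain ⟨a, ha, b, ⟨k, rfl⟩, rfl⟩ := Subgroup.mem_sup_of_normal_left.1 hg
        exact ⟨k, by simp [(QuotientGroup.eq_one_iff a).2 ha]⟩
      rw [hDdef, _root_.commutator_def, Subgroup.commutator_le]
      intro a _ b _
      rw [← QuotientGroup.eq_one_iff]
      rw [commutatorElement_def]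
      have := (IsCyclic.commGroup (α := (S : Subgroup G) ⧸ H)).mul_comm (a : (S : Subgroup G) ⧸ H) (b : _)
      simp only [QuotientGroup.mk_mul, QuotientGroup.mk_inv]
      rw [show (a : (S : Subgroup G) ⧸ H) * b = b * a from this]
      group
    have hab : ¬ ∀ a b : (S : Subgroup G), a * b = b * a := by
      intro hab
      have h := hsmall s' (IsConj.refl _)
      rw [show Subgroup.centralizer ({s'} : Set (S : Subgroup G)) = ⊤ from
        eq_top_iff.2 fun a _ => Subgroup.mem_centralizer_singleton_iff.2 (hab a s'),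
        Subgroup.card_top, hS16] at h
      norm_num at h
    have key : ∀ x : (S : Subgroup G), D ⊔ Subgroup.zpowers x = ⊤ → False := by
      intro x hgen
      have htop : Subgroup.zpowers x = ⊤ := by
        rcases eq_top_or_exists_le_coatom (Subgroup.zpowers x) with h | ⟨H, hH, hle⟩
        · exact h
        · exact absurd (top_le_iff.1 (hgen.ge.trans (sup_le (hcom H hH) hle))) hH.1
      apply hab
      intro a b
      obtain ⟨i, rfl⟩ := Subgroup.mem_zpowers_iff.1 (htop.ge (Subgroup.mem_top a))
      obtain ⟨j, rfl⟩ := Subgroup.mem_zpowers_iff.1 (htop.ge (Subgroup.mem_top b))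
      exact (Commute.refl x).zpow_zpow i j
    exact key
  have hDlt : D.index ≠ 1 ∧ D.index ≠ 2 := by
    refine ⟨fun h => hkey 1 ?_, fun h => ?_⟩
    · rw [Subgroup.index_eq_one] at h; rw [h]; simp
    · obtain ⟨x, -, hx⟩ := SetLike.exists_of_lt (lt_top_iff_ne_top.2 (fun e : D = ⊤ => by simp [e] at h))
      refine hkey x (eq_top_iff.2 fun g _ => ?_)
      by_cases hg : g ∈ D
      · exact Subgroup.mem_sup_left hg
      · have : g * x⁻¹ ∈ D := (Subgroup.mul_mem_iff_of_index_two h).2 (iff_of_false hg (by simpa using hx))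
        rw [← mul_inv_cancel_right g x⁻¹, inv_inv]
        exact mul_mem (Subgroup.mem_sup_left this) (Subgroup.mem_sup_right (Subgroup.mem_zpowers x))
  have hDc : Nat.card D = 4 := by
    have h1 : 4 ≤ Nat.card D := by
      refine (hclass s' (IsConj.refl _)).trans (Nat.card_le_card_of_injective
        (fun g : {g // IsConj s' g} => (⟨s'⁻¹ * g.1, hincl _ _ g.2⟩ : D)) ?_)
      intro a b h
      exact Subtype.ext (mul_left_cancel (congrArg Subtype.val h))
    have h2 := D.index_mul_card
    rw [hS16] at h2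
    have h3 : 4 ≤ D.index := by
      have hd : D.index ∣ 2 ^ 4 := ⟨_, h2.symm⟩
      obtain ⟨i, hi, hi'⟩ := (Nat.dvd_prime_pow Nat.prime_two).1 hd
      rw [hi'] at hDlt ⊢
      match i, hDlt with
      | 0, h => exact absurd rfl h.1
      | 1, h => exact absurd rfl h.2
      | i + 2, _ => rw [pow_add]; exact Nat.le_mul_of_pos_left _ (by positivity)
    nlinarith
  have hcoset : ∀ q : (S : Subgroup G), IsConj s (q : G) → ∀ e ∈ D, IsConj s ((q * e : (S : Subgroup G)) : G) := by
    intro q hq e he
    have hbij : Function.Bijective (fun g : {g // IsConj q g} => (⟨q⁻¹ * g.1, hincl _ _ g.2⟩ : D)) := by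
      have hinj : Function.Injective (fun g : {g // IsConj q g} => (⟨q⁻¹ * g.1, hincl _ _ g.2⟩ : D)) :=
        fun a b h => Subtype.ext (mul_left_cancel (congrArg Subtype.val h))
      refine hinj.bijective_of_nat_card_le ?_
      rw [hDc]
      exact hclass q hq
    obtain ⟨⟨g, hg⟩, hge⟩ := hbij.2 ⟨e, he⟩
    have hge' : q⁻¹ * g = e := congrArg Subtype.val hge
    rw [← hge', mul_inv_cancel_left]
    obtain ⟨c, rfl⟩ := isConj_iff.1 hg
    exact hq.trans (isConj_iff.2 ⟨(c : G), rfl⟩)
  have hnotD : ∀ q : (S : Subgroup G), IsConj s (q : G) → q ∉ D := by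
    intro q hq hqD
    have := hcoset q hq q⁻¹ (inv_mem hqD)
    rw [mul_inv_cancel, Subgroup.coe_one] at this
    exact H26.ne_one_of_orderOf_two hs (isConj_one_left.1 this)
  -- a coset without conjugates of `s`
  haveI := Fintype.ofFinite (S : Subgroup G)
  obtain ⟨c, hcD, hc⟩ : ∃ c : (S : Subgroup G), c ∉ D ∧
      ∀ e ∈ D, ¬ IsConj s ((c * e : (S : Subgroup G)) : G) := by
    by_contra hcon
    push Not at hcon
    have hall : ∀ c : (S : Subgroup G), c ∉ D → IsConj s (c : G) := by
      intro c hc
      obtain ⟨e, he, hce⟩ := hcon c hc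
      have := hcoset _ hce e⁻¹ (inv_mem he)
      rwa [mul_inv_cancel_right] at this
    have hinv : ∀ c : (S : Subgroup G), c ∉ D → c * c = 1 := fun c hc =>
      Subtype.ext (H26.mul_self_of_orderOf_two (by rw [← H26.isConj_orderOf (hall c hc), hs]))
    have hsD := hnotD s' (IsConj.refl _)
    -- `s` commutes with everything outside `D` and outside its coset
    let A : Finset (S : Subgroup G) := Finset.univ.filter (fun c => c ∉ D ∧ s' * c ∉ D)
    have hA : ∀ c ∈ A, Commute c s' := by
      intro c hc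
      obtain ⟨hc1, hc2⟩ := (Finset.mem_filter.1 hc).2
      have h1 := hinv _ hc1
      have h2 := hinv _ hc2
      have h3 := hinv _ hsD
      show c * s' = s' * c
      have h4 : s' * c = (s' * c)⁻¹ := (inv_eq_of_mul_eq_one_right h2).symm
      rw [h4, mul_inv_rev, inv_eq_of_mul_eq_one_right h1, inv_eq_of_mul_eq_one_right h3]
    have hsub : A ⊆ (Finset.univ.filter fun c => c ∈ Subgroup.centralizer ({s'} : Set (S : Subgroup G))) := by
      intro c hc
      exact Finset.mem_filter.2 ⟨Finset.mem_univ _, Subgroup.mem_centralizer_singleton_iff.2 (hA c hc).eq⟩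
    have h8 := Finset.card_le_card hsub
    rw [← Fintype.card_subtype (fun c => c ∈ Subgroup.centralizer ({s'} : Set (S : Subgroup G))), ← Nat.card_eq_fintype_card] at h8
    have h4 := Nat.le_of_dvd (by norm_num) (hsmall s' (IsConj.refl _))
    have hAc : 8 ≤ A.card := by
      have hD1 : (Finset.univ.filter fun c : (S : Subgroup G) => c ∈ D).card = 4 := by
        rw [← Fintype.card_subtype, ← Nat.card_eq_fintype_card]; exact hDc
      have hD2 : (Finset.univ.filter fun c : (S : Subgroup G) => s' * c ∈ D).card = 4 := by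
        rw [← hD1]
        exact Finset.card_equiv (Equiv.mulLeft s') (by simp)
      have hcov : (Finset.univ : Finset (S : Subgroup G)) ⊆ A ∪
          ((Finset.univ.filter fun c => c ∈ D) ∪ (Finset.univ.filter fun c => s' * c ∈ D)) := by
        intro c _
        simp only [A, Finset.mem_union, Finset.mem_filter, Finset.mem_univ, true_and]
        by_cases h1 : c ∈ D <;> by_cases h2 : s' * c ∈ D <;> simp [h1, h2]
      have := (Finset.card_le_card hcov).trans ((Finset.card_union_le _ _).trans
        (Nat.add_le_add_left (Finset.card_union_le _ _) _))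
      rw [Finset.card_univ, ← Nat.card_eq_fintype_card, hS16, hD1, hD2] at this
      omega
    have hcc : Nat.card {x // x ∈ Subgroup.centralizer ({s'} : Set (S : Subgroup G))} ≤ 4 := h4
    omega
  set Q₀ : Subgroup (S : Subgroup G) := D ⊔ Subgroup.zpowers c with hQ₀
  have hDQ : D ≤ Q₀ := le_sup_left
  have hcQ : c ∈ Q₀ := Subgroup.mem_sup_right (Subgroup.mem_zpowers c)
  have hQc : Nat.card Q₀ = 8 := by
    have h1 := Subgroup.card_dvd_of_le hDQ
    rw [hDc] at h1
    have h2 : Nat.card Q₀ ∣ 2 ^ 4 := (Subgroup.card_subgroup_dvd_card Q₀).trans (by rw [hS16]; norm_num)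
    obtain ⟨i, hi, hi'⟩ := (Nat.dvd_prime_pow Nat.prime_two).1 h2
    have hne4 : Nat.card Q₀ ≠ 4 := fun h =>
      hcD ((Subgroup.eq_of_le_of_card_ge hDQ (by rw [hDc, h])).ge hcQ)
    have hne16 : Nat.card Q₀ ≠ 16 := fun h =>
      hkey c (Subgroup.eq_top_of_card_eq _ (by rw [h, hS16]))
    rw [hi'] at h1 hne4 hne16 ⊢
    interval_cases i <;> simp at h1 hne4 hne16 ⊢
  have hidx : (D.subgroupOf Q₀).index = 2 := by
    have := (D.subgroupOf Q₀).index_mul_card
    rw [Nat.card_congr (Subgroup.subgroupOfEquivOfLe hDQ).toEquiv, hDc, hQc] at this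
    omega
  have hfree : ∀ g ∈ Q₀, ¬ IsConj s ((g : (S : Subgroup G)) : G) := by
    intro g hg hgs
    have hmem : c⁻¹ * g ∈ D :=
      (Subgroup.mul_mem_iff_of_index_two hidx (a := (⟨c⁻¹, inv_mem hcQ⟩ : Q₀)) (b := ⟨g, hg⟩)).2
        (iff_of_false (fun h => hcD (inv_mem_iff.1 (Subgroup.mem_subgroupOf.1 h)))
          (fun h => hnotD g hgs (Subgroup.mem_subgroupOf.1 h)))
    refine hc _ hmem ?_
    rwa [mul_inv_cancel_left]
  have hQS : Q₀.map (S : Subgroup G).subtype ≤ S := Subgroup.map_subtype_le _
  have hrel : (Q₀.map (S : Subgroup G).subtype).relIndex (S : Subgroup G) = 2 := by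
    show ((Q₀.map (S : Subgroup G).subtype).subgroupOf (S : Subgroup G)).index = 2
    rw [← Subgroup.comap_subtype, Subgroup.comap_map_eq_self_of_injective (Subgroup.subtype_injective _)]
    have := Q₀.index_mul_card
    rw [hS16, hQc] at this
    omega
  have hsQ : s ∉ Q₀.map (S : Subgroup G).subtype := by
    rintro ⟨g, hg, hgs⟩
    exact hfree g hg (by rw [show ((g : (S : Subgroup G)) : G) = s from hgs])
  rcases H25.thompson_transfer S _ hQS hrel s hs hsS hsQ with ⟨N, hN, hNi, -⟩ | ⟨k, hk⟩
  · rcases hN.eq_bot_or_eq_top with h | h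
    · rw [h, Subgroup.index_bot, hG.2] at hNi; omega
    · rw [h, Subgroup.index_top] at hNi; omega
  · obtain ⟨g, hg, hgk⟩ := hk
    refine hfree g hg (isConj_iff.2 ⟨k, ?_⟩)
    exact hgk.symm

end Cfsg.Agent.H69.M11
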