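import Cfsg.Agent.H69.M11.Three

/-!
A class of 55 involutions, each centralizing a Sylow 3-subgroup, is impossible in a simple group of
order 7920.
-/

set_option autoImplicit false

namespace Cfsg.Agent.H69.M11

open Subgroup MulAction

variable {G : Type*} [Group G] [Finite G]

theorem exists_sylow_le (hG : Cfsg.IsM11 G) {L : Subgroup G} (h9 : 9 ∣ Nat.card L) {x : G}
    (hx : x ∈ L) (hxo : orderOf x ∣ 9) : ∃ R : Sylow 3 G, (R : Subgroup G) ≤ L ∧ x ∈ (R : Subgroup G) := by
  obtain ⟨i, -, hi⟩ := (Nat.dvd_prime_pow Nat.prime_three).1 (show orderOf x ∣ 3 ^ 2 from hxo)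
  have hp : IsPGroup 3 (Subgroup.zpowers (⟨x, hx⟩ : L)) := IsPGroup.of_card (n := i) (by
    rw [Nat.card_zpowers, ← Subgroup.orderOf_coe, hi])
  obtain ⟨Q, hQ⟩ := hp.exists_le_sylow
  obtain ⟨P⟩ := (inferInstance : Nonempty (Sylow 3 G))
  have hQ9 : Nat.card ((Q : Subgroup L).map L.subtype) = 9 := by
    rw [Subgroup.card_map_of_injective (Subgroup.subtype_injective L)]
    obtain ⟨m, hm⟩ := Q.2.exists_card_eq
    have h1 : 3 ^ 2 ∣ Nat.card (Q : Subgroup L) := Q.pow_dvd_card_of_pow_dvd_card h9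
    have h2 : Nat.card (Q : Subgroup L) ∣ 7920 :=
      (Subgroup.card_subgroup_dvd_card _).trans (hG.2 ▸ Subgroup.card_subgroup_dvd_card _)
    rw [hm] at h1 h2 ⊢
    have h3 : 2 ≤ m := (Nat.pow_dvd_pow_iff_le_right (by norm_num)).1 h1
    have h4 : m ≤ 2 := by
      by_contra hc
      have := (Nat.pow_dvd_pow 3 (by omega : 3 ≤ m)).trans h2
      norm_num at this
    rw [le_antisymm h4 h3]; norm_num
  refine ⟨Sylow.ofCard ((Q : Subgroup L).map L.subtype) (hQ9.trans ((card_nine hG P).symm.trans P.card_eq_multiplicity)), ?_, ?_⟩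
  · show (Q : Subgroup L).map L.subtype ≤ L
    exact Subgroup.map_subtype_le _
  · show x ∈ (Q : Subgroup L).map L.subtype
    exact ⟨⟨x, hx⟩, hQ (Subgroup.mem_zpowers _), rfl⟩

/-- Conjugation by an element as a bijection. -/
theorem commute_conj_iff (g a b : G) : Commute (g * a * g⁻¹) (g * b * g⁻¹) ↔ Commute a b := by
  constructor
  · intro h
    have := Commute.map h (MulAut.conj g⁻¹).toMonoidHom
    simpa [mul_assoc] using this
  · intro h
    exact h.map (MulAut.conj g).toMonoidHom

/-- In an abelian configuration two involutions of the class never commute; their products have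
order 5, which is numerically impossible. -/
theorem false_of_no_commuting (hG : Cfsg.IsM11 G) {s₀ : G} (hs : orderOf s₀ = 2)
    (hcard : Nat.card {a : G // IsConj s₀ a} = 55)
    (hno : ∀ a b : G, IsConj s₀ a → IsConj s₀ b → Commute a b → a = b)
    (hthree : ∀ a x : G, IsConj s₀ a → orderOf x = 3 → a * x * a = x⁻¹ → False) : False := by
  classical
  haveI := Fintype.ofFinite G
  have hinv : ∀ a, IsConj s₀ a → a * a = 1 := fun a ha =>
    H26.mul_self_of_orderOf_two (by rw [← H26.isConj_orderOf ha, hs])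
  have hne1 : ∀ a, IsConj s₀ a → a ≠ 1 := fun a ha =>
    H26.ne_one_of_orderOf_two (by rw [← H26.isConj_orderOf ha, hs])
  have h5 : ∀ a b : G, IsConj s₀ a → IsConj s₀ b → a ≠ b → orderOf (a * b) = 5 := by
    intro a b ha hb hab
    have haa := hinv a ha
    have hbb := hinv b hb
    have hn1 : orderOf (a * b) ≠ 1 := fun h => hab (by
      rw [orderOf_eq_one_iff] at h
      rw [← inv_eq_of_mul_eq_one_right h]
      exact (inv_eq_of_mul_eq_one_right haa).symm)
    have hinvpow : ∀ k : ℕ, a * (a * b) ^ k * a = ((a * b) ^ k)⁻¹ := fun k => by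
      have := H26.conj_zpow_mul haa hbb (k : ℤ)
      simpa using this
    have hodd : ¬ 2 ∣ orderOf (a * b) := by
      rintro ⟨m, hm⟩
      set w := (a * b) ^ (m : ℤ) with hw
      have hm0 : m ≠ 0 := by rintro rfl; simp [orderOf_eq_zero_iff'] at hm; exact absurd (isOfFinOrder_of_finite (a * b)) (by simpa [isOfFinOrder_iff_pow_eq_one] using hm)
      have hw1 : w ≠ 1 := fun h => by
        rw [hw, zpow_natCast] at h
        have := Nat.le_of_dvd (by omega) (orderOf_dvd_of_pow_eq_one h)
        omega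
      have hw2 : (a * b) ^ (2 * (m : ℤ)) = 1 := by
        rw [show (2 * (m : ℤ)) = ((2 * m : ℕ) : ℤ) by push_cast; ring, zpow_natCast, ← hm,
          pow_orderOf_eq_one]
      have hwi : (a * b) ^ (-(m : ℤ)) = w := by
        rw [hw, show -(m : ℤ) = (m : ℤ) - 2 * m by ring, zpow_sub, hw2, inv_one, mul_one]
      have hawX : IsConj s₀ (a * w) := by
        rcases Nat.even_or_odd m with ⟨r, hr⟩ | ⟨r, hr⟩
        · refine ha.trans (isConj_iff.2 ⟨(a * b) ^ (r : ℤ), ?_⟩)
          rw [H26.zpow_conj_fst haa hbb, ← hwi, hr]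
          push_cast; ring_nf
        · refine hb.trans (isConj_iff.2 ⟨(a * b) ^ (-(r : ℤ)), ?_⟩)
          rw [H26.zpow_conj_snd haa hbb, hw, hr]
          push_cast; ring_nf
      have hcomm : Commute a (a * w) := by
        have h1 : a * w * a = w := by
          rw [hw, H26.conj_zpow_mul haa hbb, hwi]
        show a * (a * w) = a * w * a
        rw [h1, ← mul_assoc, haa, one_mul]
      exact hw1 (mul_eq_left.1 (hno a (a * w) ha hawX hcomm).symm)
    have hn : orderOf (a * b) ∣ 7920 := hG.2 ▸ orderOf_dvd_natCard _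
    have hpw : ∀ q, q ∣ orderOf (a * b) → orderOf ((a * b) ^ (orderOf (a * b) / q)) = q := by
      intro q hq
      rw [orderOf_pow, Nat.gcd_eq_right (Nat.div_dvd_of_dvd hq), Nat.div_div_self hq]
      exact (orderOf_pos _).ne'
    have h3 : ¬ 3 ∣ orderOf (a * b) := fun h => hthree a _ ha (hpw 3 h) (hinvpow _)
    have h11 : ¬ 11 ∣ orderOf (a * b) := by
      intro h
      set x := (a * b) ^ (orderOf (a * b) / 11)
      have hx : orderOf x = 11 := hpw 11 h
      have hc : Nat.card (Subgroup.zpowers x) = 11 ^ 1 := by rw [Nat.card_zpowers, hx, pow_one]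
      obtain ⟨P, hP⟩ := (IsPGroup.of_card hc).exists_le_sylow
      have heq : Subgroup.zpowers x = P :=
        Subgroup.eq_of_le_of_card_ge hP (by rw [card_eleven hG P, hc, pow_one])
      have hmem : a ∈ Subgroup.normalizer ((P : Subgroup G) : Set G) := by
        rw [← heq]
        refine Subgroup.mem_normalizer_iff.2 fun q => ?_
        have hmap : (Subgroup.zpowers x).map (MulAut.conj a).toMonoidHom = Subgroup.zpowers x := by
          refine Subgroup.eq_of_le_of_card_ge ?_ ?_
          · rw [MonoidHom.map_zpowers, Subgroup.zpowers_le]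
            show a * x * a⁻¹ ∈ _
            rw [inv_eq_of_mul_eq_one_right haa, hinvpow]
            exact inv_mem (Subgroup.mem_zpowers x)
          · rw [Subgroup.card_map_of_injective (MulEquiv.injective _)]
        conv_rhs => rw [← hmap]
        exact (Subgroup.mem_map_iff_mem (MulEquiv.injective _)).symm
      have := Subgroup.orderOf_dvd_natCard _ hmem
      rw [← H26.isConj_orderOf ha, hs, card_normalizer_eleven hG P] at this
      norm_num at this
    have hc : ∀ q, Nat.Prime q → ¬ q ∣ orderOf (a * b) → Nat.Coprime (orderOf (a * b)) q :=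
      fun q hq h => (hq.coprime_iff_not_dvd.2 h).symm
    have hd5 : orderOf (a * b) ∣ 5 := by
      refine (Nat.Coprime.dvd_of_dvd_mul_right ((hc 2 Nat.prime_two hodd).pow_right 4) ?_)
      refine (Nat.Coprime.dvd_of_dvd_mul_right ((hc 3 Nat.prime_three h3).pow_right 2) ?_)
      exact (Nat.Coprime.dvd_of_dvd_mul_right (hc 11 (by norm_num) h11)
        (show orderOf (a * b) ∣ 5 * 2 ^ 4 * 3 ^ 2 * 11 from hn))
    exact ((Nat.dvd_prime (by norm_num)).1 hd5).resolve_left hn1
  let Xs : Finset G := Finset.univ.filter (fun a => IsConj s₀ a)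
  have hXs : Xs.card = 55 := by
    rw [← hcard, Nat.card_eq_fintype_card, Fintype.card_subtype]
  haveI := Fintype.ofFinite (Sylow 5 G)
  let F : Sylow 5 G → Finset (G × G) := fun Q =>
    Xs.offDiag.filter fun q => q.1 * q.2 ∈ (Q : Subgroup G)
  obtain ⟨Q₀⟩ := (inferInstance : Nonempty (Sylow 5 G))
  have hconst : ∀ Q, (F Q).card = (F Q₀).card := by
    intro Q
    obtain ⟨g, rfl⟩ := MulAction.exists_smul_eq G Q₀ Q
    refine (Finset.card_equiv ((MulAut.conj g).toEquiv.prodCongr (MulAut.conj g).toEquiv) ?_).symm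
    rintro ⟨a, b⟩
    simp only [F, Xs, Finset.mem_filter, Finset.mem_offDiag, Finset.mem_univ, true_and,
      Equiv.prodCongr_apply, Prod.map_apply, MulEquiv.toEquiv_eq_coe, MulEquiv.coe_toEquiv,
      MulAut.conj_apply]
    have hcj : ∀ z : G, IsConj s₀ (g * z * g⁻¹) ↔ IsConj s₀ z := fun z => by
      have hz : IsConj z (g * z * g⁻¹) := isConj_iff.2 ⟨g, rfl⟩
      exact ⟨fun h => h.trans hz.symm, fun h => h.trans hz⟩
    have hm : g * a * g⁻¹ * (g * b * g⁻¹) ∈ ((g • Q₀ : Sylow 5 G) : Subgroup G) ↔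
        a * b ∈ (Q₀ : Subgroup G) := by
      rw [Sylow.coe_subgroup_smul,
        show g * a * g⁻¹ * (g * b * g⁻¹) = MulAut.conj g • (a * b) by
          simp [MulAut.smul_def, mul_assoc],
        Subgroup.smul_mem_pointwise_smul_iff]
    simp only [hcj, hm, ne_eq, mul_left_inj, mul_right_inj]
  have hunion : Xs.offDiag = Finset.univ.biUnion F := by
    ext ⟨a, b⟩
    simp only [Finset.mem_biUnion, Finset.mem_univ, true_and, F, Finset.mem_filter]
    refine ⟨fun h => ?_, fun ⟨_, h, _⟩ => h⟩
    obtain ⟨ha, hb, hab⟩ := Finset.mem_offDiag.1 h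
    simp only [Xs, Finset.mem_filter, Finset.mem_univ, true_and] at ha hb
    have hc : Nat.card (Subgroup.zpowers (a * b)) = 5 ^ 1 := by
      rw [Nat.card_zpowers, h5 a b ha hb hab, pow_one]
    obtain ⟨Q, hQ⟩ := (IsPGroup.of_card hc).exists_le_sylow
    exact ⟨Q, h, hQ (Subgroup.mem_zpowers _)⟩
  have hdisj : ∀ Q ∈ (Finset.univ : Finset (Sylow 5 G)), ∀ R ∈ Finset.univ, Q ≠ R →
      Disjoint (F Q) (F R) := by
    intro Q _ R _ hQR
    rw [Finset.disjoint_left]
    rintro ⟨a, b⟩ hQ hR
    simp only [F, Finset.mem_filter, Finset.mem_offDiag, Xs, Finset.mem_univ, true_and] at hQ hR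
    obtain ⟨⟨ha, hb, hab⟩, hQm⟩ := hQ
    have hne : a * b ≠ 1 := fun h => by
      have := h5 a b ha hb hab; rw [h, orderOf_one] at this; omega
    apply hQR
    apply Sylow.ext
    rw [← zpowers_eq_of_prime (card_five hG Q) hQm hne, ← zpowers_eq_of_prime (card_five hG R) hR.2 hne]
  have hsum : Xs.offDiag.card = 396 * (F Q₀).card := by
    rw [hunion, Finset.card_biUnion hdisj, Finset.sum_congr rfl (fun Q _ => hconst Q),
      Finset.sum_const, Finset.card_univ, ← Nat.card_eq_fintype_card, card_sylow_five hG,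
      smul_eq_mul]
  rw [Finset.offDiag_card, hXs] at hsum
  omega

/-- There is no class of involutions of size 55 as in the hypotheses. -/
theorem false_of_class (hG : Cfsg.IsM11 G) {s₀ : G} (hs₀ : orderOf s₀ = 2)
    (hC : Nat.card (Subgroup.centralizer ({s₀} : Set G)) = 144)
    (hU : ∀ s s' : G, IsConj s₀ s → IsConj s₀ s' → ∀ P R : Sylow 3 G,
      (P : Subgroup G) ≤ Subgroup.centralizer ({s} : Set G) →
      (R : Subgroup G) ≤ Subgroup.centralizer ({s'} : Set G) →
      ∀ x ∈ (P : Subgroup G), x ∈ (R : Subgroup G) → x ≠ 1 → s = s')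
    (hY : ∀ s : G, IsConj s₀ s → ∃ P : Sylow 3 G, (P : Subgroup G) ≤ Subgroup.centralizer ({s} : Set G) ∧
      ∃ y ∈ (P : Subgroup G), orderOf y = 3 ∧
        ∀ a : G, IsConj s₀ a → a ≠ s → Commute a s → a * y * a ∈ Subgroup.zpowers y) : False := by
  classical
  haveI := Fintype.ofFinite G
  have hinv : ∀ a, IsConj s₀ a → a * a = 1 := fun a ha =>
    H26.mul_self_of_orderOf_two (by rw [← H26.isConj_orderOf ha, hs₀])
  have hcent : ∀ a, IsConj s₀ a → Nat.card (Subgroup.centralizer ({a} : Set G)) = 144 := by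
    intro a ha
    have h1 := card_centralizer_mul_class a
    have h2 := card_centralizer_mul_class s₀
    have he : Nat.card {g : G // IsConj a g} = Nat.card {g : G // IsConj s₀ g} :=
      Nat.card_congr (Equiv.subtypeEquivRight fun g => ⟨ha.trans, ha.symm.trans⟩)
    rw [he, ← h2] at h1
    rw [← hC]
    exact Nat.eq_of_mul_eq_mul_left (Nat.pos_of_ne_zero fun h => by
      rw [h, zero_mul, hG.2] at h2; omega) h1
  have h55 : Nat.card {a : G // IsConj s₀ a} = 55 := by
    have := card_centralizer_mul_class s₀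
    rw [hC, hG.2] at this
    omega
  choose P hP y hy hyo hyinv using hY
  have key : ∀ (s : G) (hs : IsConj s₀ s) (R : Sylow 3 G),
      (R : Subgroup G) ≤ Subgroup.centralizer ({s} : Set G) →
      ∀ a : G, IsConj s₀ a → ∀ x ∈ (R : Subgroup G), x ≠ 1 → Commute a x → a = s := by
    intro s hs R hR a ha x hx hx1 hax
    obtain ⟨R', hR', hxR'⟩ := exists_sylow_le hG (L := Subgroup.centralizer ({a} : Set G))
      (by rw [hcent a ha]; norm_num) (Subgroup.mem_centralizer_singleton_iff.2 hax.eq.symm)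
      (orderOf_dvd_nine hG R hx)
    exact hU a s ha hs R' R hR' hR x hxR' hx hx1
  have hy1 : ∀ s hs, y s hs ≠ 1 := fun s hs h => by
    have := hyo s hs; rw [h, orderOf_one] at this; omega
  have hys : ∀ s hs, Commute s (y s hs) := fun s hs =>
    (Subgroup.mem_centralizer_singleton_iff.1 (hP s hs (hy s hs))).symm
  -- `a` inverts `y`
  have hainv : ∀ s hs a, IsConj s₀ a → a ≠ s → Commute a s → a * y s hs * a = (y s hs)⁻¹ := by
    intro s hs a ha hne hc
    have haa := hinv a ha
    obtain ⟨k, hk⟩ := (mem_powers_iff_mem_zpowers (x := y s hs)).2 (hyinv s hs a ha hne hc)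
    have hk : y s hs ^ k = a * y s hs * a := hk
    rw [← pow_mod_orderOf, hyo s hs] at hk
    have h3 : k % 3 < 3 := Nat.mod_lt _ (by norm_num)
    have hy3 : y s hs ^ 3 = 1 := by rw [← hyo s hs, pow_orderOf_eq_one]
    interval_cases hm : k % 3
    · exfalso
      rw [pow_zero] at hk
      apply hy1 s hs
      calc y s hs = a * (a * y s hs * a) * a := by simp [← mul_assoc, haa]; rw [mul_assoc, haa, mul_one]
        _ = 1 := by rw [← hk, mul_one, haa]
    · exfalso
      rw [pow_one] at hk
      apply hne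
      refine key s hs _ (hP s hs) a ha _ (hy s hs) (hy1 s hs) ?_
      show a * y s hs = y s hs * a
      conv_rhs => rw [hk, mul_assoc, haa, mul_one]
    · rw [← hk]
      exact eq_inv_of_mul_eq_one_left (by rw [← pow_succ, hy3])
  let Xs : Finset G := Finset.univ.filter (fun a => IsConj s₀ a)
  have hXs : Xs.card = 55 := by
    rw [← h55, Nat.card_eq_fintype_card, Fintype.card_subtype]
  let J : G → Finset G := fun s => Xs.filter (fun a => a ≠ s ∧ Commute a s)
  have hmemJ : ∀ s a, a ∈ J s ↔ IsConj s₀ a ∧ a ≠ s ∧ Commute a s := fun s a => by simp [J, Xs]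
  have hJc : ∀ s, IsConj s₀ s → (J s).card = (J s₀).card := by
    intro s hs
    obtain ⟨g, rfl⟩ := isConj_iff.1 hs
    refine (Finset.card_equiv (MulAut.conj g).toEquiv ?_).symm
    intro a
    simp only [hmemJ, MulEquiv.toEquiv_eq_coe, MulEquiv.coe_toEquiv, MulAut.conj_apply]
    have hz : IsConj a (g * a * g⁻¹) := isConj_iff.2 ⟨g, rfl⟩
    constructor
    · rintro ⟨h1, h2, h3⟩
      exact ⟨h1.trans hz, fun h => h2 (mul_left_cancel (mul_right_cancel h)), (commute_conj_iff g _ _).2 h3⟩
    · rintro ⟨h1, h2, h3⟩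
      exact ⟨h1.trans hz.symm, fun h => h2 (by rw [h]), (commute_conj_iff g _ _).1 h3⟩
  set d := (J s₀).card with hd
  have hs0 : IsConj s₀ s₀ := IsConj.refl _
  -- `9` divides the degree
  have h9 : 9 ∣ d := by
    have h := dvd_card_of_free (G := ConjAct G) (X := G)
      (((P s₀ hs0 : Sylow 3 G) : Subgroup G).map ConjAct.toConjAct.toMonoidHom) ↑(J s₀) (by
        rintro - ⟨q, hq, rfl⟩ a ha
        simp only [SetLike.mem_coe, hmemJ] at ha ⊢
        show IsConj s₀ (ConjAct.toConjAct q • a) ∧ _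
        have hqs : q * s₀ * q⁻¹ = s₀ := by
          rw [Subgroup.mem_centralizer_singleton_iff.1 (hP s₀ hs0 hq), mul_inv_cancel_right]
        refine ⟨?_, ?_, ?_⟩
        · rw [ConjAct.toConjAct_smul]; exact ha.1.trans (isConj_iff.2 ⟨q, rfl⟩)
        · show ConjAct.toConjAct q • a ≠ s₀
          rw [ConjAct.toConjAct_smul]
          intro h
          exact ha.2.1 (mul_left_cancel (mul_right_cancel (h.trans hqs.symm)))
        · show Commute (ConjAct.toConjAct q • a) s₀
          rw [ConjAct.toConjAct_smul]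
          have := (commute_conj_iff q a s₀).2 ha.2.2
          rwa [hqs] at this) (by
        rintro - ⟨q, hq, rfl⟩ a ha he
        simp only [SetLike.mem_coe, hmemJ] at ha
        by_contra h1
        change ConjAct.toConjAct q • a = a at he
        rw [ConjAct.toConjAct_smul, mul_inv_eq_iff_eq_mul] at he
        exact ha.2.1 (key s₀ hs0 _ (hP s₀ hs0) a ha.1 q hq
          (fun h => h1 (by subst h; simp)) he.symm))
    rwa [Subgroup.card_map_of_injective (MulEquiv.injective _), card_nine hG,
      Nat.card_coe_set_eq, Set.ncard_coe_finset] at h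
  let Far : Finset G := Xs \ insert s₀ (J s₀)
  have hsJ : s₀ ∉ J s₀ := fun h => ((hmemJ _ _).1 h).2.1 rfl
  have hins : insert s₀ (J s₀) ⊆ Xs := Finset.insert_subset (Finset.mem_filter.2 ⟨Finset.mem_univ _, hs0⟩) (Finset.filter_subset _ _)
  have hFar : Far.card + (d + 1) = 55 := by
    have h := Finset.card_sdiff_add_card_eq_card hins
    rw [hXs, Finset.card_insert_of_notMem hsJ] at h
    exact h
  have hmemF : ∀ b, b ∈ Far ↔ IsConj s₀ b ∧ ¬ Commute b s₀ := by
    intro b
    simp only [Far, Finset.mem_sdiff, Finset.mem_insert, hmemJ, Xs, Finset.mem_filter,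
      Finset.mem_univ, true_and]
    constructor
    · rintro ⟨h1, h2⟩
      push Not at h2
      exact ⟨h1, h2.2 h1 h2.1⟩
    · rintro ⟨h1, h2⟩
      exact ⟨h1, by rintro (rfl | ⟨-, -, h3⟩); exacts [h2 (Commute.refl _), h2 h3]⟩
  -- evenness
  have heven : 2 ∣ Far.card := by
    have h := dvd_card_of_free (G := ConjAct G) (X := G)
      ((Subgroup.zpowers s₀).map ConjAct.toConjAct.toMonoidHom) ↑Far (by
        rintro - ⟨q, hq, rfl⟩ b hb
        simp only [SetLike.mem_coe, hmemF] at hb ⊢
        show IsConj s₀ (ConjAct.toConjAct q • b) ∧ ¬ Commute (ConjAct.toConjAct q • b) s₀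
        obtain ⟨k, rfl⟩ := hq
        rw [ConjAct.toConjAct_smul]
        refine ⟨hb.1.trans (isConj_iff.2 ⟨_, rfl⟩), fun hc => hb.2 ?_⟩
        refine (commute_conj_iff (s₀ ^ k) b s₀).1 ?_
        have : s₀ ^ k * s₀ * (s₀ ^ k)⁻¹ = s₀ := by
          rw [((Commute.refl s₀).zpow_left k).eq, mul_inv_cancel_right]
        rwa [this]) (by
        rintro - ⟨q, hq, rfl⟩ b hb he
        simp only [SetLike.mem_coe, hmemF] at hb
        change ConjAct.toConjAct q • b = b at he
        rw [ConjAct.toConjAct_smul, mul_inv_eq_iff_eq_mul] at he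
        obtain ⟨k, hk⟩ := (mem_powers_iff_mem_zpowers (x := s₀)).2 hq
        have hk : s₀ ^ k = q := hk
        subst hk
        rw [← pow_mod_orderOf, hs₀] at he ⊢
        rcases Nat.mod_two_eq_zero_or_one k with h | h <;> rw [h] at he ⊢
        · simp
        · exfalso; rw [pow_one] at he; exact hb.2 he.symm)
    rwa [Subgroup.card_map_of_injective (MulEquiv.injective _), Nat.card_zpowers, hs₀,
      Nat.card_coe_set_eq, Set.ncard_coe_finset] at h
  -- partners
  let pa : G × Fin 2 → G := fun q =>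
    if h : IsConj s₀ q.1 then s₀ * y q.1 h ^ ((q.2 : ℕ) + 1) else 1
  have hJX : ∀ s a, a ∈ J s → IsConj s₀ a := fun s a h => ((hmemJ s a).1 h).1
  have hpow1 : ∀ s hs (i : Fin 2), y s hs ^ ((i : ℕ) + 1) ≠ 1 := by
    intro s hs i h
    have := Nat.le_of_dvd (by omega) (orderOf_dvd_of_pow_eq_one h)
    rw [hyo s hs] at this
    have := i.2
    omega
  have hpaF : ∀ q ∈ J s₀ ×ˢ (Finset.univ : Finset (Fin 2)), pa q ∈ Far := by
    rintro ⟨a, i⟩ hq
    obtain ⟨ha, -⟩ := Finset.mem_product.1 hq
    have haX := hJX _ _ ha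
    simp only [pa, dif_pos haX]
    set z := y a haX
    have hinvz : s₀ * z * s₀ = z⁻¹ := hainv a haX s₀ hs0 (Ne.symm ((hmemJ _ _).1 ha).2.1)
      ((hmemJ _ _).1 ha).2.2.symm
    have hz3 : z ^ 3 = 1 := by rw [← hyo a haX, pow_orderOf_eq_one]
    have hss := hinv s₀ hs0
    have hconj : ∀ j : ℕ, s₀ * z ^ (j * 2) = (z ^ j)⁻¹ * s₀ * z ^ j := fun j => by
      have h1 : s₀ * z ^ j * s₀ = (z ^ j)⁻¹ := by
        have := map_pow (MulAut.conj s₀) z j
        simp only [MulAut.conj_apply, inv_eq_of_mul_eq_one_right hss, hinvz, inv_pow] at this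
        exact this
      rw [← h1, mul_assoc (s₀ * z ^ j), hss, mul_one, pow_mul, pow_two, mul_assoc]
    rw [hmemF]
    refine ⟨?_, fun hc => hpow1 a haX i ?_⟩
    · have hi := i.2
      obtain hi0 | hi1 : (i : ℕ) = 0 ∨ (i : ℕ) = 1 := by omega
      · rw [hi0, show z ^ (0 + 1) = z ^ (2 * 2) by rw [show 2 * 2 = 3 + 1 from rfl, pow_add z 3 1, hz3, one_mul], hconj 2]
        exact isConj_iff.2 ⟨(z ^ 2)⁻¹, by rw [inv_inv]⟩
      · rw [hi1, show z ^ (1 + 1) = z ^ (1 * 2) from rfl, hconj 1]
        exact isConj_iff.2 ⟨(z ^ 1)⁻¹, by rw [inv_inv]⟩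
    · set w := z ^ ((i : ℕ) + 1) with hw
      have h1 : s₀ * w * s₀ = w⁻¹ := by
        have := map_pow (MulAut.conj s₀) z ((i : ℕ) + 1)
        simp only [MulAut.conj_apply, inv_eq_of_mul_eq_one_right hss, hinvz, inv_pow] at this
        exact this
      have h2 : s₀ * w * s₀ = w := by
        rw [hc.eq, ← mul_assoc, hss, one_mul]
      have h3 : w ^ 2 = 1 := by rw [pow_two]; nth_rw 1 [← h2, h1]; rw [inv_mul_cancel]
      have h4 : orderOf w ∣ 3 := by rw [← hyo a haX]; exact orderOf_pow_dvd _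
      exact orderOf_eq_one_iff.1 (Nat.eq_one_of_dvd_coprimes (by norm_num : Nat.Coprime 3 2) h4
        (orderOf_dvd_of_pow_eq_one h3))
  have hpainj : Set.InjOn pa ↑(J s₀ ×ˢ (Finset.univ : Finset (Fin 2))) := by
    rintro ⟨a, i⟩ h1 ⟨b, j⟩ h2 he
    obtain ⟨ha, -⟩ := Finset.mem_product.1 h1
    obtain ⟨hb, -⟩ := Finset.mem_product.1 h2
    have haX := hJX _ _ ha
    have hbX := hJX _ _ hb
    simp only [pa, dif_pos haX, dif_pos hbX] at he
    have he' := mul_left_cancel he
    have hab : a = b := by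
      refine key b hbX _ (hP b hbX) a haX _ (pow_mem (hy b hbX) ((j : ℕ) + 1)) (hpow1 b hbX j) ?_
      rw [← he']
      exact (hys a haX).pow_right _
    subst hab
    refine Prod.ext rfl (Fin.ext ?_)
    rw [pow_inj_mod, hyo a haX] at he'
    have := i.2; have := j.2
    simp only
    omega
  have hcardpa : 2 * d ≤ Far.card := by
    have h := Finset.card_le_card_of_injOn pa hpaF hpainj
    rw [Finset.card_product, Finset.card_univ, Fintype.card_fin, mul_comm] at h
    exact h
  have hcases : d = 0 ∨ d = 18 := by omega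
  rcases hcases with hd0 | hd18
  · refine false_of_no_commuting hG hs₀ h55 ?_ ?_
    · intro a b ha hb hc
      by_contra hne
      have : a ∈ J b := (hmemJ b a).2 ⟨ha, hne, hc⟩
      have h0 := hJc b hb
      rw [hd0, Finset.card_eq_zero] at h0
      simp [h0] at this
    · intro a x ha hx hax
      obtain ⟨R, -, hxR⟩ := exists_sylow_le hG (L := (⊤ : Subgroup G))
        (by rw [Subgroup.card_top, hG.2]; norm_num) (Subgroup.mem_top x) (by rw [hx]; norm_num)
      have hxa : x ≠ 1 := fun h => by rw [h, orderOf_one] at hx; omega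
      obtain ⟨g, rfl⟩ := MulAction.exists_smul_eq G (P s₀ hs0) R
      set s := g * s₀ * g⁻¹ with hsdef
      have hsX : IsConj s₀ s := isConj_iff.2 ⟨g, rfl⟩
      have hRs : ((g • P s₀ hs0 : Sylow 3 G) : Subgroup G) ≤ Subgroup.centralizer ({s} : Set G) := by
        intro q hq
        rw [Sylow.coe_subgroup_smul, Subgroup.mem_smul_pointwise_iff_exists] at hq
        obtain ⟨r, hr, rfl⟩ := hq
        refine Subgroup.mem_centralizer_singleton_iff.2 ?_
        exact ((commute_conj_iff g r s₀).2 (Subgroup.mem_centralizer_singleton_iff.1 (hP s₀ hs0 hr))).eq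
      have haa := hinv a ha
      have hai : a⁻¹ = a := inv_eq_of_mul_eq_one_right haa
      have hR2 : ((a • g • P s₀ hs0 : Sylow 3 G) : Subgroup G) ≤
          Subgroup.centralizer ({a * s * a} : Set G) := by
        intro q hq
        rw [Sylow.coe_subgroup_smul, Subgroup.mem_smul_pointwise_iff_exists] at hq
        obtain ⟨r, hr, rfl⟩ := hq
        refine Subgroup.mem_centralizer_singleton_iff.2 ?_
        show a * r * a⁻¹ * (a * s * a) = a * s * a * (a * r * a⁻¹)
        conv_lhs => rw [← hai]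
        conv_rhs => rw [show a * s * a = a * s * a⁻¹ by rw [hai]]
        have := ((commute_conj_iff a r s).2 (Subgroup.mem_centralizer_singleton_iff.1 (hRs hr))).eq
        simpa [hai] using this
      have hx2 : x ∈ ((a • g • P s₀ hs0 : Sylow 3 G) : Subgroup G) := by
        rw [Sylow.coe_subgroup_smul, Subgroup.mem_smul_pointwise_iff_exists]
        refine ⟨x⁻¹, inv_mem hxR, ?_⟩
        show a * x⁻¹ * a⁻¹ = x
        rw [← hax, hai, ← mul_assoc, ← mul_assoc, haa, one_mul, mul_assoc, haa, mul_one]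
      have heq := hU s (a * s * a) hsX
        (hsX.trans (isConj_iff.2 ⟨a, by rw [hai]⟩)) _ _ hRs hR2 x hxR hx2 hxa
      have hne : a ≠ s := by
        intro h
        have hc : x * s = s * x := Subgroup.mem_centralizer_singleton_iff.1 (hRs hxR)
        rw [← h] at hc
        rw [mul_assoc, hc, ← mul_assoc, haa, one_mul] at hax
        have h2 : x ^ 2 = 1 := by rw [pow_two]; nth_rw 1 [hax]; rw [inv_mul_cancel]
        have := orderOf_dvd_of_pow_eq_one h2
        rw [hx] at this; norm_num at this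
      have : a ∈ J s := (hmemJ s a).2 ⟨ha, hne, by
        show a * s = s * a
        conv_rhs => rw [heq, mul_assoc, haa, mul_one]⟩
      have h0 := hJc s hsX
      rw [hd0, Finset.card_eq_zero] at h0
      simp [h0] at this
  · -- degree 18
    have himg : (J s₀ ×ˢ (Finset.univ : Finset (Fin 2))).image pa = Far := by
      refine Finset.eq_of_subset_of_card_le (fun b hb => ?_) ?_
      · obtain ⟨q, hq, rfl⟩ := Finset.mem_image.1 hb
        exact hpaF q hq
      · rw [Finset.card_image_of_injOn hpainj, Finset.card_product, Finset.card_univ,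
          Fintype.card_fin]
        omega
    have hmu : ∀ b ∈ Far, ((J s₀).filter (fun a => Commute a b)).card ≤ 1 := by
      intro b hb
      rw [← himg] at hb
      obtain ⟨⟨c, i⟩, hq, rfl⟩ := Finset.mem_image.1 hb
      obtain ⟨hc, -⟩ := Finset.mem_product.1 hq
      have hcX := hJX _ _ hc
      refine Finset.card_le_one.2 fun u hu v hv => ?_
      have : ∀ u ∈ (J s₀).filter (fun a => Commute a (pa (c, i))), u = c := by
        intro u hu
        simp only [Finset.mem_filter, hmemJ, pa, dif_pos hcX] at hu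
        obtain ⟨⟨huX, -, hus⟩, hub⟩ := hu
        refine key c hcX _ (hP c hcX) u huX _ (pow_mem (hy c hcX) ((i : ℕ) + 1)) (hpow1 c hcX i) ?_
        have := hus.inv_right.mul_right hub
        rwa [inv_mul_cancel_left] at this
      rw [this u hu, this v hv]
    have hlam : ∀ a ∈ J s₀, 3 * (((J s₀).filter (fun b => b ≠ a ∧ Commute b a)).card + 1) ≤ 18 := by
      intro a ha
      set N := insert a ((J s₀).filter (fun b => b ≠ a ∧ Commute b a)) with hN
      have hsub : ∀ b ∈ N, b ∈ J s₀ ∧ Commute b a := by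
        intro b hb
        simp only [hN, Finset.mem_insert, Finset.mem_filter] at hb
        rcases hb with rfl | ⟨h1, -, h2⟩
        · exact ⟨ha, Commute.refl _⟩
        · exact ⟨h1, h2⟩
      have haX := hJX _ _ ha
      set z := y s₀ hs0 with hz
      have hmap : ∀ q ∈ N ×ˢ (Finset.univ : Finset (Fin 3)),
          (z ^ (q.2 : ℕ))⁻¹ * q.1 * z ^ (q.2 : ℕ) ∈ J s₀ := by
        rintro ⟨b, i⟩ hq
        obtain ⟨hb, -⟩ := Finset.mem_product.1 hq
        obtain ⟨hbX, hbs, hbc⟩ := (hmemJ _ _).1 (hsub b hb).1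
        have hzs : Commute s₀ (z ^ (i : ℕ)) := (hys s₀ hs0).pow_right _
        have hfix : (z ^ (i : ℕ))⁻¹ * s₀ * z ^ (i : ℕ) = s₀ := by
          rw [mul_assoc, hzs.eq, inv_mul_cancel_left]
        refine (hmemJ _ _).2 ⟨hbX.trans (isConj_iff.2 ⟨(z ^ (i : ℕ))⁻¹, by rw [inv_inv]⟩), fun h => ?_, ?_⟩
        · apply hbs
          have := congrArg (fun u => z ^ (i : ℕ) * u * (z ^ (i : ℕ))⁻¹) h
          simp only [← mul_assoc, mul_inv_cancel, one_mul, mul_inv_cancel_right] at this
          rw [this, ← hzs.eq, mul_inv_cancel_right]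
        · have := (commute_conj_iff (z ^ (i : ℕ))⁻¹ b s₀).2 hbc
          rwa [inv_inv, hfix] at this
      have hinj : Set.InjOn (fun q : G × Fin 3 => (z ^ (q.2 : ℕ))⁻¹ * q.1 * z ^ (q.2 : ℕ))
          ↑(N ×ˢ (Finset.univ : Finset (Fin 3))) := by
        rintro ⟨b, i⟩ h1 ⟨c, j⟩ h2 he
        obtain ⟨hb, -⟩ := Finset.mem_product.1 h1
        obtain ⟨hc, -⟩ := Finset.mem_product.1 h2
        obtain ⟨hbJ, hba⟩ := hsub b hb
        obtain ⟨hcJ, hca⟩ := hsub c hc
        obtain ⟨hbX, hbs, hbc⟩ := (hmemJ _ _).1 hbJ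
        obtain ⟨hcX, hcs, hcc⟩ := (hmemJ _ _).1 hcJ
        have hform : ∀ (u : G), u * z * u = z⁻¹ → u * u = 1 → ∀ k : ℕ,
            (z ^ k)⁻¹ * u * z ^ k = u * z ^ (2 * k) := by
          intro u hu huu k
          have h1 : u * z ^ k * u = (z ^ k)⁻¹ := by
            have := map_pow (MulAut.conj u) z k
            simp only [MulAut.conj_apply, inv_eq_of_mul_eq_one_right huu, hu, inv_pow] at this
            exact this
          rw [← h1, mul_assoc (u * z ^ k), huu, mul_one, two_mul, pow_add, mul_assoc]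
        simp only at he
        rw [hform b (hainv s₀ hs0 b hbX hbs hbc) (hinv b hbX), hform c (hainv s₀ hs0 c hcX hcs hcc) (hinv c hcX)] at he
        have hbc' : c⁻¹ * b = z ^ (2 * (j : ℕ)) * (z ^ (2 * (i : ℕ)))⁻¹ := by
          rw [eq_mul_inv_iff_mul_eq, mul_assoc, he, inv_mul_cancel_left]
        have hcom : Commute a (c⁻¹ * b) := hca.symm.inv_right.mul_right hba.symm
        have hz1 : z ^ (2 * (j : ℕ)) * (z ^ (2 * (i : ℕ)))⁻¹ = 1 := by
          by_contra hne
          rw [hbc'] at hcom
          exact ((hmemJ _ _).1 ha).2.1 (key s₀ hs0 _ (hP s₀ hs0) a haX _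
            (mul_mem (pow_mem (hy s₀ hs0) _) (inv_mem (pow_mem (hy s₀ hs0) _))) hne hcom)
        rw [hz1, inv_mul_eq_one] at hbc'
        rw [mul_inv_eq_one] at hz1
        refine Prod.ext hbc'.symm (Fin.ext ?_)
        rw [pow_inj_mod, hyo s₀ hs0] at hz1
        have := i.2; have := j.2
        simp only
        omega
      have h := Finset.card_le_card_of_injOn _ hmap hinj
      rw [Finset.card_product, Finset.card_univ, Fintype.card_fin, hN,
        Finset.card_insert_of_notMem (by simp), ← hd, hd18] at h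
      omega
    have hlow : ∀ a ∈ J s₀, 12 ≤ (Far.filter (fun b => Commute a b)).card := by
      intro a ha
      obtain ⟨haX, has, hac⟩ := (hmemJ _ _).1 ha
      have h1 := hJc a haX
      have hsub : J a ⊆ insert s₀ ((J s₀).filter (fun b => b ≠ a ∧ Commute b a)) ∪
          Far.filter (fun b => Commute a b) := by
        intro b hb
        obtain ⟨hbX, hba, hbc⟩ := (hmemJ _ _).1 hb
        simp only [Finset.mem_union, Finset.mem_insert, Finset.mem_filter, hmemJ, hmemF]
        by_cases h : b = s₀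
        · exact Or.inl (Or.inl h)
        by_cases h' : Commute b s₀
        · exact Or.inl (Or.inr ⟨⟨hbX, h, h'⟩, hba, hbc⟩)
        · exact Or.inr ⟨⟨hbX, h'⟩, hbc.symm⟩
      have h2 := (Finset.card_le_card hsub).trans (Finset.card_union_le _ _)
      have h3 := Finset.card_insert_le s₀ ((J s₀).filter (fun b => b ≠ a ∧ Commute b a))
      have h4 := hlam a ha
      omega
    have hcount := Finset.sum_card_bipartiteAbove_eq_sum_card_bipartiteBelow
      (fun a b => Commute a b) (s := J s₀) (t := Far)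
    simp only [Finset.bipartiteAbove, Finset.bipartiteBelow] at hcount
    have hl := Finset.card_nsmul_le_sum _ _ 12 hlow
    have hr := Finset.sum_le_card_nsmul _ _ 1 hmu
    rw [smul_eq_mul, ← hd, hd18] at hl
    rw [smul_eq_mul, mul_one] at hr
    omega

end Cfsg.Agent.H69.M11
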