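import Cfsg.Agent.H69.M11.Sylow
import Cfsg.Agent.H69.M11.Count
import Cfsg.Agent.H25.InvolutionTransfer

/-!
Groups of order 7920 which are not simple.
-/

set_option autoImplicit false

namespace Cfsg.Agent.H69.M11

open Subgroup MulAction

variable {G : Type*} [Group G] [Finite G]

/-- Some element of order `p` commutes with some element of order `q`. -/
def Linked (G : Type*) [Group G] (p q : ℕ) : Prop :=
  ∃ a b : G, orderOf a = p ∧ orderOf b = q ∧ Commute a b

theorem Linked.symm {p q : ℕ} (h : Linked G p q) : Linked G q p :=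
  let ⟨a, b, ha, hb, hab⟩ := h; ⟨b, a, hb, ha, hab.symm⟩

theorem Linked.map {H : Subgroup G} {p q : ℕ} (h : Linked H p q) : Linked G p q := by
  obtain ⟨a, b, ha, hb, hab⟩ := h
  exact ⟨a, b, by rwa [Subgroup.orderOf_coe], by rwa [Subgroup.orderOf_coe],
    congrArg Subtype.val hab.eq⟩

theorem sylow_prime (hord : Nat.card G = 7920) (p k : ℕ) [hp : Fact p.Prime] (hk : p ^ k ∣ 7920)
    (hk' : ¬ p ^ (k + 1) ∣ 7920) (P : Sylow p G) : Nat.card (P : Subgroup G) = p ^ k := by
  obtain ⟨m, hm⟩ := P.2.exists_card_eq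
  have h1 : p ^ m ∣ 7920 := by rw [← hm, ← hord]; exact Subgroup.card_subgroup_dvd_card _
  have h2 : p ^ k ∣ Nat.card (P : Subgroup G) := P.pow_dvd_card_of_pow_dvd_card (by rw [hord]; exact hk)
  rw [hm] at h2
  have h3 : k ≤ m := (Nat.pow_dvd_pow_iff_le_right hp.out.one_lt).1 h2
  have h4 : m ≤ k := by
    by_contra hc
    exact hk' ((Nat.pow_dvd_pow p (by omega)).trans h1)
  rw [hm, le_antisymm h4 h3]

theorem linked_of_dvd_centralizer {p q : ℕ} [Fact q.Prime] {A : Subgroup G} {a : G} (ha : a ∈ A)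
    (hao : orderOf a = p) (hq : q ∣ Nat.card (Subgroup.centralizer (A : Set G))) : Linked G p q := by
  obtain ⟨b, hb⟩ := exists_prime_orderOf_dvd_card' q hq
  exact ⟨a, b, hao, by rw [Subgroup.orderOf_coe, hb], b.2 a ha⟩

/-- An element of order `p` normalizing a subgroup `Q` with `|Q| ≢ 1 (mod p)` fixes a nontrivial
element of it. -/
theorem exists_fixed_of_normalizes {p : ℕ} [Fact p.Prime] {x : G} (hx : orderOf x = p)
    {Q : Subgroup G} (hxQ : x ∈ Subgroup.normalizer (Q : Set G)) (h : Nat.card Q % p ≠ 1) :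
    ∃ q ∈ Q, q ≠ 1 ∧ Commute x q := by
  have hp : IsPGroup p (Subgroup.zpowers x) := IsPGroup.of_card (n := 1) (by
    rw [Nat.card_zpowers, hx, pow_one])
  letI : MulAction (Subgroup.zpowers x) Q :=
    { smul := fun g q => ⟨(g : G) * q * (g : G)⁻¹,
        (Subgroup.mem_normalizer_iff.1 (Subgroup.zpowers_le.2 hxQ g.2) _).1 q.2⟩
      one_smul := fun q => Subtype.ext (show (1 : G) * q * (1 : G)⁻¹ = q by group)
      mul_smul := fun a b q => Subtype.ext
        (show (a : G) * b * q * ((a : G) * b)⁻¹ = a * (b * q * (b : G)⁻¹) * (a : G)⁻¹ by group) }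
  by_contra hcon
  push Not at hcon
  have hfix : MulAction.fixedPoints (Subgroup.zpowers x) Q = {1} := by
    ext q
    constructor
    · intro hq
      by_contra hq1
      refine hcon q q.2 (fun e => hq1 (Subtype.ext e)) ?_
      exact mul_inv_eq_iff_eq_mul.1 (congrArg Subtype.val (hq ⟨x, Subgroup.mem_zpowers x⟩) :)
    · rintro rfl g
      exact Subtype.ext (show (g : G) * 1 * (g : G)⁻¹ = 1 by group)
  have hmod := hp.card_modEq_card_fixedPoints Q
  rw [hfix, Nat.card_coe_set_eq, Set.ncard_singleton] at hmod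
  rw [Nat.ModEq, Nat.mod_eq_of_lt (Fact.out : p.Prime).one_lt] at hmod
  exact h hmod

/-- A prime of a normal subgroup is linked to a prime not dividing it. -/
theorem linked_of_normal {p q : ℕ} [hp : Fact p.Prime] [hq : Fact q.Prime] {M : Subgroup G}
    (hM : M.Normal) (hpG : p ∣ Nat.card G) (hpM : ¬ p ∣ Nat.card M) {k : ℕ}
    (hk : q ^ k ∣ Nat.card M) (hk' : ¬ q ^ (k + 1) ∣ Nat.card M) (hmod : q ^ k % p ≠ 1) :
    Linked G p q := by
  haveI := hM
  obtain ⟨Q⟩ := (inferInstance : Nonempty (Sylow q M))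
  have hQ : Nat.card (Q : Subgroup M) = q ^ k := by
    obtain ⟨m, hm⟩ := Q.2.exists_card_eq
    have h1 : q ^ m ∣ Nat.card M := hm ▸ Subgroup.card_subgroup_dvd_card _
    have h2 : q ^ k ∣ Nat.card (Q : Subgroup M) := Q.pow_dvd_card_of_pow_dvd_card hk
    rw [hm] at h2
    have h4 : m ≤ k := by
      by_contra hc
      exact hk' ((Nat.pow_dvd_pow q (by omega)).trans h1)
    rw [hm, le_antisymm h4 ((Nat.pow_dvd_pow_iff_le_right hq.out.one_lt).1 h2)]
  set Q' := (Q : Subgroup M).map M.subtype with hQ'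
  have hfr := Sylow.normalizer_sup_eq_top Q
  have hp' : p ∣ Nat.card (Subgroup.normalizer (Q' : Set G)) := by
    have h1 : Nat.card G ∣ Nat.card (Subgroup.normalizer (Q' : Set G)) * Nat.card M := by
      have h2 := Subgroup.relIndex_sup_right (K := M) (H := Subgroup.normalizer (Q' : Set G))
      rw [hQ', hfr, Subgroup.relIndex_top_right] at h2
      rw [← M.index_mul_card, h2]
      exact Nat.mul_dvd_mul_right (Subgroup.relIndex_dvd_card _ _) _
    exact (hp.out.dvd_mul.1 (hpG.trans h1)).resolve_right hpM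
  obtain ⟨x, hx⟩ := exists_prime_orderOf_dvd_card' p hp'
  obtain ⟨a, ha, ha1, hxa⟩ := exists_fixed_of_normalizes (x := (x : G)) (Q := Q')
    (by rw [Subgroup.orderOf_coe, hx]) x.2 (by
      rw [hQ', Subgroup.card_map_of_injective (Subgroup.subtype_injective M), hQ]; exact hmod)
  have hd : orderOf a ∣ q ^ k := by
    have := Subgroup.orderOf_dvd_natCard _ ha
    rwa [Subgroup.card_map_of_injective (Subgroup.subtype_injective M), hQ] at this
  obtain ⟨i, -, hi⟩ := (Nat.dvd_prime_pow hq.out).1 hd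
  rcases i with _ | i
  · exact absurd (orderOf_eq_one_iff.1 hi) ha1
  refine ⟨x, a ^ q ^ i, by rw [Subgroup.orderOf_coe, hx], ?_, hxa.pow_right _⟩
  rw [orderOf_pow_of_dvd (pow_ne_zero _ hq.out.ne_zero) (hi ▸ Nat.pow_dvd_pow q (Nat.le_succ i)), hi,
    Nat.pow_div (Nat.le_succ i) hq.out.pos, show i + 1 - i = 1 by omega, pow_one]

/-- A self-centralizing normalizer of a subgroup of prime order gives a normal complement. -/
theorem exists_complement {M : Subgroup G} {p : ℕ} [hp : Fact p.Prime] {A : Subgroup G}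
    (hA : Nat.card A = p) (hAM : A ≤ M) (hp2 : ¬ p ^ 2 ∣ Nat.card M) (hM : M.Normal)
    (hcent : M ⊓ Subgroup.normalizer (A : Set G) ≤ Subgroup.centralizer (A : Set G)) :
    ∃ K : Subgroup G, K.Normal ∧ K ≤ M ∧ Nat.card K * p = Nat.card M := by
  have hc : Nat.card (A.subgroupOf M) = p := by
    rw [Nat.card_congr (Subgroup.subgroupOfEquivOfLe hAM).toEquiv, hA]
  have hdvd : p ∣ Nat.card M := hA ▸ Subgroup.card_dvd_of_le hAM
  have hfac : (Nat.card M).factorization p = 1 := by
    have h1 := hp.out.factorization_pos_of_dvd Nat.card_pos.ne' hdvd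
    by_contra h
    exact hp2 ((Nat.pow_dvd_pow p (by omega)).trans (Nat.ordProj_dvd _ p))
  let S : Sylow p M := Sylow.ofCard (A.subgroupOf M) (by rw [hc, hfac, pow_one])
  have hle : Subgroup.normalizer ((S : Subgroup M) : Set M) ≤
      Subgroup.centralizer ((S : Subgroup M) : Set M) := by
    intro g hg
    have he : Subgroup.normalizer ((S : Subgroup M) : Set M) =
        (Subgroup.normalizer (A : Set G)).subgroupOf M := (Subgroup.subgroupOf_normalizer_eq hAM).symm
    rw [he, Subgroup.mem_subgroupOf] at hg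
    intro a ha
    exact Subtype.ext (hcent ⟨g.2, hg⟩ (a : G) (Subgroup.mem_subgroupOf.1 ha))
  set K := (MonoidHom.transferSylow S hle).ker with hK
  have hcompl := MonoidHom.ker_transferSylow_isComplement' S hle
  have hKc : Nat.card K * p = Nat.card M := by
    have := hcompl.card_mul
    rw [show Nat.card (S : Subgroup M) = p from hc] at this
    exact this
  have hKn : ¬ p ∣ Nat.card K := fun h => hp2 (by
    rw [pow_two, ← hKc]; exact Nat.mul_dvd_mul_right h p)
  haveI hKnormal : K.Normal := MonoidHom.normal_ker _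
  refine ⟨K.map M.subtype, ?_, Subgroup.map_subtype_le _, by
    rw [Subgroup.card_map_of_injective (Subgroup.subtype_injective M), hKc]⟩
  refine ⟨fun k hk g => ?_⟩
  obtain ⟨k', hk', rfl⟩ := hk
  haveI := hM
  set c : M := ⟨g * k' * g⁻¹, hM.conj_mem _ k'.2 g⟩ with hc'
  refine ⟨c, ?_, rfl⟩
  -- the order of the conjugate is prime to `p`, so it dies in `M ⧸ K`
  have hidx : K.index = p := by
    have := K.index_mul_card
    rw [← hKc, mul_comm] at this
    exact Nat.eq_of_mul_eq_mul_left Nat.card_pos this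
  have h1 : orderOf (QuotientGroup.mk' K c) ∣ p := by
    rw [← hidx, Subgroup.index_eq_card]; exact orderOf_dvd_natCard _
  have h2 : orderOf (QuotientGroup.mk' K c) ∣ Nat.card K := by
    refine (orderOf_map_dvd _ c).trans ?_
    rw [← Subgroup.orderOf_coe c, hc']
    show orderOf (g * (k' : G) * g⁻¹) ∣ _
    rw [show g * (k' : G) * g⁻¹ = MulAut.conj g (k' : G) from rfl, MulEquiv.orderOf_eq,
      Subgroup.orderOf_coe]
    exact Subgroup.orderOf_dvd_natCard _ hk'
  exact (QuotientGroup.eq_one_iff c).1 (orderOf_eq_one_iff.1 (Nat.eq_one_of_dvd_coprimes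
    ((Nat.Prime.coprime_iff_not_dvd hp.out).2 hKn) h1 h2))

/-- In a group of order 7920 some 3-element is linked to another prime. -/
theorem linked_three (hord : Nat.card G = 7920) :
    Linked G 3 2 ∨ Linked G 3 5 ∨ Linked G 3 11 := by
  classical
  by_contra hcon
  push Not at hcon
  obtain ⟨hn2, hn5, hn11⟩ := hcon
  haveI : Fact (Nat.Prime 3) := ⟨Nat.prime_three⟩
  haveI : Fintype G := Fintype.ofFinite G
  have hQ9 : ∀ Q : Sylow 3 G, Nat.card (Q : Subgroup G) = 9 := fun Q => by
    simpa using sylow_prime hord 3 2 (by norm_num) (by norm_num) Q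
  have hcomm : ∀ Q : Sylow 3 G, ∀ a ∈ (Q : Subgroup G), ∀ b ∈ (Q : Subgroup G), a * b = b * a := by
    intro Q a ha b hb
    have h := IsPGroup.isMulCommutative_of_card_eq_prime_sq (p := 3) (G := (Q : Subgroup G))
      (by rw [hQ9 Q]; norm_num)
    exact congrArg Subtype.val (h.is_comm.comm ⟨a, ha⟩ ⟨b, hb⟩)
  have hTI : ∀ (Q : Sylow 3 G) (x : G), x ∈ (Q : Subgroup G) → x ≠ 1 →
      Subgroup.centralizer ({x} : Set G) = Q := by
    intro Q x hx hx1
    have hle : (Q : Subgroup G) ≤ Subgroup.centralizer ({x} : Set G) := fun a ha =>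
      Subgroup.mem_centralizer_singleton_iff.2 (hcomm Q a ha x hx)
    refine (Subgroup.eq_of_le_of_card_ge hle ?_).symm
    rw [hQ9]
    have hd : Nat.card (Subgroup.centralizer ({x} : Set G)) ∣ 9 * 880 :=
      (show 9 * 880 = Nat.card G by rw [hord]) ▸ Subgroup.card_subgroup_dvd_card _
    have hx9 := Subgroup.orderOf_dvd_natCard _ hx
    rw [hQ9 Q] at hx9
    obtain ⟨i, -, hi⟩ := (Nat.dvd_prime_pow Nat.prime_three).1 (show orderOf x ∣ 3 ^ 2 from hx9)
    rcases i with _ | i
    · exact absurd (orderOf_eq_one_iff.1 hi) hx1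
    have hx3 : orderOf (x ^ 3 ^ i) = 3 := by
      rw [orderOf_pow_of_dvd (pow_ne_zero _ (by norm_num)) (hi ▸ Nat.pow_dvd_pow 3 (Nat.le_succ i)),
        hi, Nat.pow_div (Nat.le_succ i) (by norm_num), show i + 1 - i = 1 by omega, pow_one]
    have hno : ∀ r, r.Prime → r ∣ 880 → ¬ r ∣ Nat.card (Subgroup.centralizer ({x} : Set G)) := by
      intro r hr hr880 hrC
      haveI : Fact r.Prime := ⟨hr⟩
      obtain ⟨b, hb⟩ := exists_prime_orderOf_dvd_card' r hrC
      have hl : Linked G 3 r := ⟨x ^ 3 ^ i, b, hx3, by rw [Subgroup.orderOf_coe, hb],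
        Commute.pow_left (Subgroup.mem_centralizer_singleton_iff.1 b.2).symm _⟩
      have h3 : ∀ r, r ∣ 880 → r.Prime → r = 2 ∨ r = 5 ∨ r = 11 := by
        intro r h1 h2
        have h : r ∣ 2 ^ 4 * (5 * 11) := h1
        rcases h2.dvd_mul.1 h with h' | h'
        · exact Or.inl ((Nat.prime_dvd_prime_iff_eq h2 Nat.prime_two).1 (h2.dvd_of_dvd_pow h'))
        rcases h2.dvd_mul.1 h' with h'' | h''
        · exact Or.inr (Or.inl ((Nat.prime_dvd_prime_iff_eq h2 Nat.prime_five).1 h''))
        · exact Or.inr (Or.inr ((Nat.prime_dvd_prime_iff_eq h2 (by norm_num)).1 h''))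
      rcases h3 r hr880 hr with rfl | rfl | rfl
      · exact hn2 hl
      · exact hn5 hl
      · exact hn11 hl
    have hcop : (Nat.card (Subgroup.centralizer ({x} : Set G))).Coprime 880 :=
      Nat.coprime_of_dvd fun r hr h1 h2 => hno r hr h2 h1
    exact Nat.le_of_dvd (by norm_num) (hcop.dvd_of_dvd_mul_right hd)
  obtain ⟨P⟩ := (inferInstance : Nonempty (Sylow 3 G))
  set n := Nat.card (Sylow 3 G) with hn
  set N := Subgroup.normalizer ((P : Subgroup G) : Set G) with hNdef
  have hmulN : n * Nat.card N = 7920 := by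
    rw [hn, P.card_eq_index_normalizer, ← hord]; exact Subgroup.index_mul_card _
  -- count the 3-singular elements
  have h3 : ∀ g : G, 3 ∣ orderOf g → ∃ Q : Sylow 3 G, g ∈ (Q : Subgroup G) := by
    intro g hg
    obtain ⟨m, hm⟩ := hg
    have hm0 : 0 < m := by have := orderOf_pos g; omega
    have ha : orderOf (g ^ m) = 3 := by
      rw [orderOf_pow_of_dvd hm0.ne' ⟨3, by omega⟩, hm, Nat.mul_div_cancel _ hm0]
    obtain ⟨Q, hQ⟩ := (IsPGroup.of_card (n := 1) (p := 3)
      (by rw [Nat.card_zpowers, ha, pow_one]) : IsPGroup 3 (Subgroup.zpowers (g ^ m))).exists_le_sylow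
    refine ⟨Q, ?_⟩
    rw [← hTI Q _ (hQ (Subgroup.mem_zpowers _)) fun e => by rw [e, orderOf_one] at ha; norm_num at ha]
    exact Subgroup.mem_centralizer_singleton_iff.2 (Commute.self_pow g m).eq
  have hmem3 : ∀ (Q : Sylow 3 G) (a : G), a ∈ (Q : Subgroup G) → a ≠ 1 → 3 ∣ orderOf a := by
    intro Q a ha ha1
    have ha9 := Subgroup.orderOf_dvd_natCard _ ha
    rw [hQ9 Q] at ha9
    obtain ⟨i, -, hi⟩ := (Nat.dvd_prime_pow Nat.prime_three).1 (show orderOf a ∣ 3 ^ 2 from ha9)
    rcases i with _ | i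
    · exact absurd (orderOf_eq_one_iff.1 hi) ha1
    · exact hi ▸ Dvd.intro_left (3 ^ i) (pow_succ 3 i).symm
  have hcard : Nat.card {g : G // 3 ∣ orderOf g} = n * 8 := by
    let e : (Σ Q : Sylow 3 G, {a : (Q : Subgroup G) // a ≠ 1}) → {g : G // 3 ∣ orderOf g} :=
      fun z => ⟨z.2.1, hmem3 z.1 _ z.2.1.2 fun h => z.2.2 (Subtype.ext h)⟩
    have hbij : Function.Bijective e := by
      constructor
      · rintro ⟨Q, a⟩ ⟨R, b⟩ h
        have h' : (a.1 : G) = b.1 := congrArg Subtype.val h
        have hQR : Q = R := Sylow.ext (by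
          rw [← hTI Q a.1 a.1.2 (fun h0 => a.2 (Subtype.ext h0)),
            ← hTI R b.1 b.1.2 (fun h0 => b.2 (Subtype.ext h0)), h'])
        subst hQR
        exact Sigma.ext rfl (heq_of_eq (Subtype.ext (Subtype.ext h')))
      · rintro ⟨g, hg⟩
        obtain ⟨Q, hQ⟩ := h3 g hg
        exact ⟨⟨Q, ⟨⟨g, hQ⟩, fun e => by
          rw [show g = 1 from congrArg Subtype.val e, orderOf_one] at hg; norm_num at hg⟩⟩, rfl⟩
    rw [← Nat.card_congr (Equiv.ofBijective e hbij)]
    haveI : Fintype (Sylow 3 G) := Fintype.ofFinite _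
    rw [Nat.card_sigma, Finset.sum_const_nat (m := 8) fun Q _ => ?_, Finset.card_univ,
      ← Nat.card_eq_fintype_card]
    haveI : Fintype (Q : Subgroup G) := Fintype.ofFinite _
    rw [Nat.card_eq_fintype_card, Fintype.card_subtype_compl, Fintype.card_subtype_eq,
      ← Nat.card_eq_fintype_card, hQ9]
  -- `P` acts freely on the others
  have hS : Nat.card {g : G // g ≠ 1 ∧ ¬ 3 ∣ orderOf g} + 1 + n * 8 = 7920 := by
    rw [← hcard, Nat.card_eq_fintype_card, Nat.card_eq_fintype_card, Fintype.card_subtype,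
      Fintype.card_subtype]
    have h1 := Finset.card_filter_add_card_filter_not (s := (Finset.univ : Finset G)) (fun g => 3 ∣ orderOf g)
    have h2 : Finset.univ.filter (fun g : G => g ≠ 1 ∧ ¬ 3 ∣ orderOf g) =
        (Finset.univ.filter (fun g : G => ¬ 3 ∣ orderOf g)).erase 1 := by
      ext g; simp
    rw [Finset.card_univ, ← Nat.card_eq_fintype_card, hord] at h1
    rw [h2, Finset.card_erase_of_mem (by simp)]
    have : 0 < (Finset.univ.filter (fun g : G => ¬ 3 ∣ orderOf g)).card :=
      Finset.card_pos.2 ⟨1, by simp⟩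
    omega
  letI : MulAction (P : Subgroup G) {g : G // g ≠ 1 ∧ ¬ 3 ∣ orderOf g} :=
    { smul := fun p g => ⟨(p : G) * g.1 * (p : G)⁻¹, by rw [Ne, conj_eq_one_iff]; exact g.2.1, by
        rw [show (p : G) * g.1 * (p : G)⁻¹ = MulAut.conj (p : G) g.1 from rfl, MulEquiv.orderOf_eq]
        exact g.2.2⟩
      one_smul := fun g => Subtype.ext (show (1 : G) * g.1 * (1 : G)⁻¹ = g.1 by group)
      mul_smul := fun p q g => Subtype.ext
        (show (p : G) * q * g.1 * ((p : G) * q)⁻¹ = p * (q * g.1 * (q : G)⁻¹) * (p : G)⁻¹ by group) }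
  have hst : ∀ g : {g : G // g ≠ 1 ∧ ¬ 3 ∣ orderOf g},
      MulAction.stabilizer (P : Subgroup G) g = ⊥ := by
    intro g
    rw [Subgroup.eq_bot_iff_forall]
    intro p hp
    by_contra hp1
    have h' : (p : G) * g.1 * (p : G)⁻¹ = g.1 := congrArg Subtype.val hp
    have hg : g.1 ∈ Subgroup.centralizer ({(p : G)} : Set G) :=
      Subgroup.mem_centralizer_singleton_iff.2 (mul_inv_eq_iff_eq_mul.1 h').symm
    rw [hTI P p p.2 fun e => hp1 (Subtype.ext e)] at hg
    exact g.2.2 (hmem3 P g.1 hg g.2.1)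
  have h9 := Nat.card_congr (MulAction.selfEquivOrbitsQuotientProd hst)
  rw [Nat.card_prod, hQ9] at h9
  -- `N ⧸ P` acts freely on `P`
  let T := {a : (P : Subgroup G) // a ≠ 1}
  letI : MulAction N T :=
    { smul := fun m q => ⟨⟨(m : G) * q.1 * (m : G)⁻¹, (Subgroup.mem_normalizer_iff.1 m.2 _).1 q.1.2⟩,
        fun e => q.2 (Subtype.ext (conj_eq_one_iff.1 (congrArg Subtype.val e :)))⟩
      one_smul := fun q => Subtype.ext (Subtype.ext (show (1 : G) * q.1 * (1 : G)⁻¹ = q.1 by group))
      mul_smul := fun a b q => Subtype.ext (Subtype.ext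
        (show (a : G) * b * q.1 * ((a : G) * b)⁻¹ = a * (b * q.1 * (b : G)⁻¹) * (a : G)⁻¹ by group)) }
  have hT : Nat.card T = 8 := by
    haveI : Fintype (P : Subgroup G) := Fintype.ofFinite _
    show Nat.card {a : (P : Subgroup G) // a ≠ 1} = 8
    rw [Nat.card_eq_fintype_card, Fintype.card_subtype_compl, Fintype.card_subtype_eq,
      ← Nat.card_eq_fintype_card, hQ9]
  obtain ⟨t⟩ : Nonempty T := Nat.card_pos_iff.1 (by rw [hT]; norm_num) |>.1
  have hstab : Nat.card (MulAction.stabilizer N t) ∣ 9 := by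
    rw [← hQ9 P, ← Subgroup.card_map_of_injective (K := MulAction.stabilizer N t)
      (Subgroup.subtype_injective N)]
    refine Subgroup.card_dvd_of_le ?_
    rintro - ⟨m, hm, rfl⟩
    rw [← hTI P t.1 t.1.2 fun e => t.2 (Subtype.ext e)]
    exact Subgroup.mem_centralizer_singleton_iff.2
      (mul_inv_eq_iff_eq_mul.1 (congrArg (fun q : T => (q.1 : G)) hm))
  have hle : (MulAction.orbit N t).ncard ≤ 8 := hT ▸ Set.ncard_le_card _
  have hmul : (MulAction.orbit N t).ncard * Nat.card (MulAction.stabilizer N t) = Nat.card N := by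
    rw [← MulAction.index_stabilizer]; exact Subgroup.index_mul_card _
  have hN72 : Nat.card N ≤ 72 := hmul ▸ Nat.mul_le_mul hle (Nat.le_of_dvd (by norm_num) hstab)
  have hn110 : 110 ≤ n := by
    by_contra hlt
    have := Nat.mul_le_mul (show n ≤ 109 by omega) hN72
    omega
  have hnd : n ∣ 880 := by
    have h := P.card_dvd_index
    have hi : (P : Subgroup G).index = 880 := by
      have h' := (P : Subgroup G).index_mul_card
      rw [hQ9 P, hord] at h'
      omega
    rwa [hi] at h
  have hn3 : n % 3 = 1 := card_sylow_modEq_one 3 G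
  rw [h9] at hS
  have key : ∀ n ≤ 880, 110 ≤ n → n ∣ 880 → n % 3 = 1 → (n = 220 ∨ n = 880) := by decide +kernel
  rcases key n (Nat.le_of_dvd (by norm_num) hnd) hn110 hnd hn3 with h | h <;> omega

/-- With 144 Sylow 11-subgroups a group of order 7920 is simple. -/
theorem isSimple_of_card_sylow (hord : Nat.card G = 7920)
    (hn : (letI : Fact (Nat.Prime 11) := ⟨by norm_num⟩; Nat.card (Sylow 11 G)) = 144) :
    IsSimpleGroup G := by
  haveI : Fact (Nat.Prime 11) := ⟨by norm_num⟩
  haveI : Fact (Nat.Prime 3) := ⟨Nat.prime_three⟩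
  haveI : Nontrivial G := Finite.one_lt_card_iff_nontrivial.1 (by rw [hord]; norm_num)
  refine ⟨fun M hM => ?_⟩
  by_contra hcon
  push Not at hcon
  obtain ⟨hbot, htop⟩ := hcon
  obtain ⟨P⟩ := (inferInstance : Nonempty (Sylow 11 G))
  have hP : Nat.card (P : Subgroup G) = 11 := by
    simpa using sylow_prime hord 11 1 (by norm_num) (by norm_num) P
  set N := Subgroup.normalizer ((P : Subgroup G) : Set G)
  set C := Subgroup.centralizer ((P : Subgroup G) : Set G)
  have hN : Nat.card N = 55 := by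
    have h : Nat.card (Sylow 11 G) * Nat.card N = 7920 := by
      rw [P.card_eq_index_normalizer, ← hord]; exact Subgroup.index_mul_card _
    rw [hn] at h; omega
  have hC : Nat.card C ∣ 55 := hN ▸ Subgroup.card_dvd_of_le (Subgroup.centralizer_le_normalizer _)
  -- no element of order 2 or 3 centralizes a Sylow 11-subgroup
  have hlink : ∀ q, q.Prime → q ∣ 144 → ¬ Linked G 11 q := by
    rintro q hq hq144 ⟨a, b, ha, hb, hab⟩
    have hp' : IsPGroup 11 (Subgroup.zpowers a) := IsPGroup.of_card (n := 1) (by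
      rw [Nat.card_zpowers, ha, pow_one])
    obtain ⟨Q, hQ⟩ := hp'.exists_le_sylow
    obtain ⟨g, rfl⟩ := MulAction.exists_smul_eq G P Q
    have hQe : Subgroup.zpowers a = ((g • P : Sylow 11 G) : Subgroup G) :=
      Subgroup.eq_of_le_of_card_ge hQ (by
        rw [Nat.card_zpowers, ha]
        have := sylow_prime hord 11 1 (by norm_num) (by norm_num) (g • P)
        rw [this]; norm_num)
    have hbC : g⁻¹ * b * g ∈ C := by
      intro p hp
      have hm : g * p * g⁻¹ ∈ Subgroup.zpowers a := by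
        rw [hQe, Sylow.coe_subgroup_smul, Subgroup.mem_smul_pointwise_iff_exists]
        exact ⟨p, hp, rfl⟩
      obtain ⟨i, hi⟩ := hm
      simp only at hi
      have hc : Commute (a ^ i) b := hab.zpow_left i
      rw [hi] at hc
      calc p * (g⁻¹ * b * g) = g⁻¹ * ((g * p * g⁻¹) * b) * g := by group
        _ = g⁻¹ * b * g * p := by rw [hc.eq]; group
    have := (Subgroup.orderOf_dvd_natCard C hbC).trans hC
    rw [show g⁻¹ * b * g = MulAut.conj g⁻¹ b by simp, MulEquiv.orderOf_eq, hb] at this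
    have h55 := Nat.Coprime.eq_one_of_dvd (Nat.Coprime.coprime_dvd_left hq144
      (by norm_num : Nat.Coprime 144 55)) this
    exact hq.ne_one h55
  have hno11 : ∀ K : Subgroup G, K.Normal → K ≠ ⊥ → 11 ∣ Nat.card K := by
    intro K hK hK1
    by_contra h11
    have hdK : Nat.card K ∣ 720 := by
      have h : Nat.card K ∣ 720 * 11 := (Subgroup.card_subgroup_dvd_card K).trans (dvd_of_eq hord)
      exact ((Nat.Prime.coprime_iff_not_dvd (by norm_num)).2 h11).symm.dvd_of_dvd_mul_right h
    by_cases h2 : 2 ∣ Nat.card K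
    · haveI : Fact (Nat.Prime 2) := ⟨Nat.prime_two⟩
      have h := Nat.ordProj_dvd (Nat.card K) 2
      have h' := Nat.pow_succ_factorization_not_dvd (Nat.card_pos (α := K)).ne' Nat.prime_two
      generalize (Nat.card K).factorization 2 = k at h h'
      refine hlink 2 Nat.prime_two (by norm_num) (linked_of_normal hK (by rw [hord]; norm_num) h11 h h' ?_)
      have hk : k ≤ 4 := by
        by_contra hlt
        exact absurd (((Nat.pow_dvd_pow 2 (by omega : 5 ≤ k))).trans (h.trans hdK)) (by norm_num)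
      have hk0 : k ≠ 0 := by rintro rfl; exact h' (by simpa using h2)
      interval_cases k <;> first | omega | norm_num
    by_cases h3 : 3 ∣ Nat.card K
    · have h := Nat.ordProj_dvd (Nat.card K) 3
      have h' := Nat.pow_succ_factorization_not_dvd (Nat.card_pos (α := K)).ne' Nat.prime_three
      generalize (Nat.card K).factorization 3 = k at h h'
      refine hlink 3 Nat.prime_three (by norm_num) (linked_of_normal hK (by rw [hord]; norm_num) h11 h h' ?_)
      have hk : k ≤ 2 := by
        by_contra hlt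
        exact absurd (((Nat.pow_dvd_pow 3 (by omega : 3 ≤ k))).trans (h.trans hdK)) (by norm_num)
      have hk0 : k ≠ 0 := by rintro rfl; exact h' (by simpa using h3)
      interval_cases k <;> first | omega | norm_num
    have hc : (Nat.card K).Coprime 144 := Nat.Coprime.mul_right (n := 9) (m := 16)
      (Nat.Coprime.pow_right 4 ((Nat.Prime.coprime_iff_not_dvd Nat.prime_two).2 h2).symm)
      (Nat.Coprime.pow_right 2 ((Nat.Prime.coprime_iff_not_dvd Nat.prime_three).2 h3).symm)
    have h5K : Nat.card K ∣ 5 := hc.dvd_of_dvd_mul_right (show Nat.card K ∣ 5 * 144 from hdK)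
    have hK5 : Nat.card K = 5 := ((Nat.dvd_prime Nat.prime_five).1 h5K).resolve_left fun h =>
      hK1 (Subgroup.eq_bot_of_card_eq K h)
    -- `K` of order 5 is normal, so centralized by an element of order 11; then `|C(P)| = 55`
    haveI : Fact (Nat.Prime 5) := ⟨Nat.prime_five⟩
    have hl : Linked G 11 5 := linked_of_normal hK (by rw [hord]; norm_num) h11 (k := 1)
      (by rw [hK5]; norm_num) (by rw [hK5]; norm_num) (by norm_num)
    haveI : Fact (Nat.Prime 2) := ⟨Nat.prime_two⟩
    have hNC : N ≤ C := by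
      obtain ⟨x, hx⟩ := exists_prime_orderOf_dvd_card' (G := (P : Subgroup G)) 11 (dvd_of_eq hP.symm)
      have hx' : orderOf (x : G) = 11 := by rw [Subgroup.orderOf_coe, hx]
      obtain ⟨q, hq, hq1, hxq⟩ := exists_fixed_of_normalizes hx'
        (Q := K) (by rw [Subgroup.normalizer_eq_top_iff.2 hK]; trivial) (by rw [hK5]; norm_num)
      have hqC : q ∈ C := by
        intro p hp
        rw [← zpowers_eq_of_prime hP x.2 (fun e => by rw [e, orderOf_one] at hx'; norm_num at hx')] at hp
        obtain ⟨i, rfl⟩ := hp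
        exact (hxq.zpow_left i).eq
      have h5 : 5 ∣ Nat.card C := by
        rw [← ((Nat.dvd_prime Nat.prime_five).1 (hK5 ▸ Subgroup.orderOf_dvd_natCard K hq)).resolve_left
          (fun e => hq1 (orderOf_eq_one_iff.1 e))]
        exact Subgroup.orderOf_dvd_natCard C hqC
      have h11' : 11 ∣ Nat.card C := hP ▸ Subgroup.card_dvd_of_le (fun a ha b hb => by
        haveI : IsCyclic (P : Subgroup G) := isCyclic_of_prime_card hP
        exact congrArg Subtype.val ((IsCyclic.commGroup (α := (P : Subgroup G))).mul_comm ⟨b, hb⟩ ⟨a, ha⟩))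
      have h55 : Nat.card C = 55 :=
        Nat.dvd_antisymm hC (Nat.Coprime.mul_dvd_of_dvd_of_dvd (by norm_num : Nat.Coprime 5 11) h5 h11')
      exact (Subgroup.eq_of_le_of_card_ge (Subgroup.centralizer_le_normalizer _) (by rw [hN, h55])).ge
    obtain ⟨K', hK', -, hK'c⟩ := exists_complement (M := ⊤) hP le_top
      (by rw [Subgroup.card_top, hord]; norm_num) inferInstance (by rw [top_inf_eq]; exact hNC)
    rw [Subgroup.card_top, hord] at hK'c
    exact hlink 2 Nat.prime_two (by norm_num) (linked_of_normal hK' (by rw [hord]; norm_num)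
      (by rw [show Nat.card K' = 720 by omega]; norm_num) (k := 4)
      (by rw [show Nat.card K' = 720 by omega]; norm_num) (by rw [show Nat.card K' = 720 by omega]; norm_num)
      (by norm_num))
  -- so `11` divides `|M|`
  have h11M := hno11 M hM hbot
  haveI := hM
  obtain ⟨x, hx⟩ := exists_prime_orderOf_dvd_card' 11 h11M
  have hAx : Nat.card (Subgroup.zpowers (x : G)) = 11 := by
    rw [Nat.card_zpowers, Subgroup.orderOf_coe, hx]
  have hM7920 : Nat.card M ∣ 7920 := hord ▸ Subgroup.card_subgroup_dvd_card M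
  obtain ⟨k, hk, hk11⟩ := index_normalizer_mod hAx (Subgroup.zpowers_le.2 x.2)
    (fun h => absurd (h.trans hM7920) (by norm_num))
  set m := Nat.card ↥(M ⊓ Subgroup.normalizer (Subgroup.zpowers (x : G) : Set G)) with hm
  obtain ⟨Q, hQ⟩ := (IsPGroup.of_card (n := 1) (p := 11) (by rw [hAx, pow_one]) :
    IsPGroup 11 (Subgroup.zpowers (x : G))).exists_le_sylow
  have hQe : Subgroup.zpowers (x : G) = Q := Subgroup.eq_of_le_of_card_ge hQ (by
    rw [hAx, sylow_prime hord 11 1 (by norm_num) (by norm_num) Q]; norm_num)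
  have hm55 : m ∣ 55 := by
    have hQN : Nat.card (Subgroup.normalizer ((Q : Subgroup G) : Set G)) = 55 := by
      have h : Nat.card (Sylow 11 G) * Nat.card (Subgroup.normalizer ((Q : Subgroup G) : Set G)) = 7920 := by
        rw [Q.card_eq_index_normalizer, ← hord]; exact Subgroup.index_mul_card _
      rw [hn] at h; omega
    rw [hm, ← hQN, hQe]
    exact Subgroup.card_dvd_of_le inf_le_right
  have h11m : 11 ∣ m := hAx ▸ Subgroup.card_dvd_of_le
    (le_inf (Subgroup.zpowers_le.2 x.2) Subgroup.le_normalizer)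
  -- every Sylow 11-subgroup lies in `M`
  have hk144 : k = 144 := by
    have hsub : ∀ R : Sylow 11 G, (R : Subgroup G) ≤ M := fun R => by
      obtain ⟨g, rfl⟩ := MulAction.exists_smul_eq G Q R
      rw [Sylow.coe_subgroup_smul, ← hQe]
      intro y hy
      obtain ⟨z, hz, rfl⟩ := (Subgroup.mem_smul_pointwise_iff_exists _ _ _).1 hy
      exact hM.conj_mem z (Subgroup.zpowers_le.2 x.2 hz) g
    have hst : MulAction.stabilizer M Q = (Subgroup.normalizer (Subgroup.zpowers (x : G) : Set G)).subgroupOf M := by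
      ext g; rw [hQe]; exact Sylow.smul_eq_iff_mem_normalizer
    have horb : MulAction.orbit M Q = Set.univ := by
      refine Set.eq_univ_of_forall fun R => ?_
      obtain ⟨l, hl⟩ := MulAction.exists_smul_eq M (Q.subtype (hsub Q)) (R.subtype (hsub R))
      refine ⟨l, ?_⟩
      rw [Sylow.smul_subtype] at hl
      exact Sylow.subtype_injective hl
    have hidx := MulAction.index_stabilizer M Q
    rw [horb, Set.ncard_univ, hn, hst] at hidx
    have h := Subgroup.index_mul_card ((Subgroup.normalizer (Subgroup.zpowers (x : G) : Set G)).subgroupOf M)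
    rw [hidx, ← Subgroup.inf_subgroupOf_left, Nat.card_congr (Subgroup.subgroupOfEquivOfLe inf_le_left).toEquiv,
      ← hm] at h
    exact Nat.eq_of_mul_eq_mul_right Nat.card_pos (h.trans hk.symm) |>.symm
  obtain ⟨j, hj⟩ := h11m
  have hj5 : j ∣ 5 := Nat.dvd_of_mul_dvd_mul_left (by norm_num : 0 < 11) (show 11 * j ∣ 11 * 5 from hj ▸ hm55)
  have hM7 : Nat.card M ≠ 7920 := fun e => htop (Subgroup.eq_top_of_card_eq M (by rw [e, hord]))
  rcases (Nat.dvd_prime Nat.prime_five).1 hj5 with rfl | rfl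
  swap
  · rw [hj, hk144] at hk; omega
  -- self-normalizing in `M`: a normal complement of order 144
  have hcent : M ⊓ Subgroup.normalizer (Subgroup.zpowers (x : G) : Set G) ≤
      Subgroup.centralizer (Subgroup.zpowers (x : G) : Set G) := by
    intro g hg
    have he := Subgroup.eq_of_le_of_card_ge
      (le_inf (Subgroup.zpowers_le.2 x.2) Subgroup.le_normalizer :
        Subgroup.zpowers (x : G) ≤ M ⊓ Subgroup.normalizer (Subgroup.zpowers (x : G) : Set G))
      (by rw [hAx, ← hm, hj])
    rw [← he] at hg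
    obtain ⟨i, rfl⟩ := hg
    rintro - ⟨l, rfl⟩
    exact (Commute.zpow_zpow_self (x : G) l i).eq
  obtain ⟨K, hKn, -, hKc⟩ := exists_complement hAx (Subgroup.zpowers_le.2 x.2)
    (fun h => absurd (h.trans hM7920) (by norm_num)) hM hcent
  have hK144 : Nat.card K = 144 := by rw [hj, hk144] at hk; omega
  have := hno11 K hKn fun e => by rw [e, Subgroup.card_bot] at hK144; norm_num at hK144
  rw [hK144] at this
  norm_num at this

end Cfsg.Agent.H69.M11
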