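import Cfsg.Agent.H69.M11.ThirtySixFinal
import Cfsg.Agent.H25.InvolutionTransfer

/-!
Structure of the Sylow 3-normalizer of order 144; the centralizer of an involution has order 48.
-/

set_option autoImplicit false

namespace Cfsg.Agent.H69.M11

open Subgroup MulAction

variable {G : Type*} [Group G] [Finite G]

theorem factorization_eighteen : (18 : ℕ).factorization 2 = 1 := by
  rw [show (18 : ℕ) = 2 ^ 1 * 9 from rfl, Nat.factorization_mul (by norm_num) (by norm_num),
    Finsupp.add_apply, Nat.Prime.factorization_pow Nat.prime_two, Finsupp.single_eq_same,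
    Nat.factorization_eq_zero_of_not_dvd (by norm_num)]

theorem factorization_oneFortyFour : (144 : ℕ).factorization 2 = 4 := by
  rw [show (144 : ℕ) = 2 ^ 4 * 9 from rfl, Nat.factorization_mul (by norm_num) (by norm_num),
    Finsupp.add_apply, Nat.Prime.factorization_pow Nat.prime_two, Finsupp.single_eq_same,
    Nat.factorization_eq_zero_of_not_dvd (by norm_num)]

theorem conj_eq_iff_mem (hG : Cfsg.IsM11 G) (P : Sylow 3 G) {m : G} :
    m ∈ (P : Subgroup G) ↔ ∀ q ∈ (P : Subgroup G), m * q * m⁻¹ = q := by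
  constructor
  · intro hm q hq
    rw [sylow_three_comm hG P m hm q hq, mul_inv_cancel_right]
  · intro h
    rw [← centralizer_three hG P]
    exact fun q hq => (mul_inv_eq_iff_eq_mul.1 (h q hq)).symm

theorem orderOf_three (hG : Cfsg.IsM11 G) (P : Sylow 3 G) {x : G} (hx : x ∈ (P : Subgroup G))
    (hx1 : x ≠ 1) : orderOf x = 3 := by
  classical
  obtain ⟨i, hi, hi'⟩ := (Nat.dvd_prime_pow Nat.prime_three).1
    (show orderOf x ∣ 3 ^ 2 from orderOf_dvd_nine hG P hx)
  interval_cases i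
  · exact absurd (orderOf_eq_one_iff.1 hi') hx1
  · simpa using hi'
  exfalso
  have hgen : Subgroup.zpowers x = P := Subgroup.eq_of_le_of_card_ge (Subgroup.zpowers_le.2 hx)
    (by rw [card_nine hG, Nat.card_zpowers, hi']; norm_num)
  set M := Subgroup.normalizer ((P : Subgroup G) : Set G) with hMdef
  have hmem : ∀ m : M, (m : G) * x * (m : G)⁻¹ ∈ (P : Subgroup G) := fun m =>
    (Subgroup.mem_normalizer_iff.1 m.2 x).1 hx
  have hc : ∀ p : (P : Subgroup G), Nat.card {m : M // (m : G) * x * (m : G)⁻¹ = p} ≤ 9 := by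
    intro p
    rcases isEmpty_or_nonempty {m : M // (m : G) * x * (m : G)⁻¹ = p} with h | h
    · simp
    obtain ⟨m₀⟩ := h
    rw [← card_nine hG P]
    refine Nat.card_le_card_of_injective
      (fun m => ⟨(m₀.1 : G)⁻¹ * (m.1 : G), ?_⟩) fun a b he => Subtype.ext (Subtype.ext ?_)
    · rw [conj_eq_iff_mem hG P]
      intro q hq
      rw [← hgen] at hq
      obtain ⟨j, rfl⟩ := hq
      show (m₀.1 : G)⁻¹ * (m.1 : G) * x ^ j * ((m₀.1 : G)⁻¹ * (m.1 : G))⁻¹ = x ^ j
      have e : (m₀.1 : G)⁻¹ * (m.1 : G) * x * ((m₀.1 : G)⁻¹ * (m.1 : G))⁻¹ = x := by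
        rw [show (m₀.1 : G)⁻¹ * (m.1 : G) * x * ((m₀.1 : G)⁻¹ * (m.1 : G))⁻¹ =
          (m₀.1 : G)⁻¹ * ((m.1 : G) * x * (m.1 : G)⁻¹) * (m₀.1 : G) by group, m.2.trans m₀.2.symm]
        group
      rw [← conj_zpow, e]
    · exact mul_left_cancel (congrArg Subtype.val he :)
  have h144 : Nat.card M = 144 := card_normalizer_three hG P
  have hle : Nat.card M ≤ 81 := by
    haveI : Fintype (P : Subgroup G) := Fintype.ofFinite _
    let e : M ≃ Σ p : (P : Subgroup G), {m : M // (m : G) * x * (m : G)⁻¹ = p} :=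
      { toFun := fun m => ⟨⟨_, hmem m⟩, m, rfl⟩
        invFun := fun z => z.2.1
        left_inv := fun m => rfl
        right_inv := fun ⟨⟨p, hp⟩, m, hm⟩ => by
          simp only at hm
          subst hm
          rfl }
    rw [Nat.card_congr e, Nat.card_sigma]
    refine le_trans (Finset.sum_le_card_nsmul _ _ 9 fun p _ => hc p) ?_
    rw [Finset.card_univ, ← Nat.card_eq_fintype_card, card_nine hG]
    norm_num
  omega

/-- In `N(P)` the elements fixing a nontrivial element of `P` form a subgroup of order 18. -/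
theorem card_fix (hG : Cfsg.IsM11 G) (P : Sylow 3 G) {x : G} (hx : x ∈ (P : Subgroup G))
    (hx1 : x ≠ 1) :
    Nat.card ↥(Subgroup.centralizer ({x} : Set G) ⊓ Subgroup.normalizer ((P : Subgroup G) : Set G)) = 18 ∧
      ∀ q ∈ (P : Subgroup G), q ≠ 1 →
        ∃ m ∈ Subgroup.normalizer ((P : Subgroup G) : Set G), m * x * m⁻¹ = q := by
  classical
  set M := Subgroup.normalizer ((P : Subgroup G) : Set G) with hMdef
  set C := Subgroup.centralizer ({x} : Set G) ⊓ M with hCdef
  have h144 : Nat.card M = 144 := card_normalizer_three hG P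
  have hx3 := orderOf_three hG P hx hx1
  -- orbit of `x`
  set T := {q : (P : Subgroup G) // q ≠ 1}
  have hT : Nat.card T = 8 := by
    haveI : Fintype (P : Subgroup G) := Fintype.ofFinite _
    rw [Nat.card_eq_fintype_card, Fintype.card_subtype_compl, Fintype.card_subtype_eq,
      ← Nat.card_eq_fintype_card, card_nine hG]
  letI : MulAction M T :=
    { smul := fun m q => ⟨⟨(m : G) * q.1 * (m : G)⁻¹, (Subgroup.mem_normalizer_iff.1 m.2 _).1 q.1.2⟩,
        fun e => q.2 (Subtype.ext (conj_eq_one_iff.1 (congrArg Subtype.val e :)))⟩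
      one_smul := fun q => Subtype.ext (Subtype.ext (show (1 : G) * q.1 * (1 : G)⁻¹ = q.1 by group))
      mul_smul := fun a b q => Subtype.ext (Subtype.ext
        (show (a : G) * b * q.1 * ((a : G) * b)⁻¹ = a * (b * q.1 * (b : G)⁻¹) * (a : G)⁻¹ by group)) }
  set x' : T := ⟨⟨x, hx⟩, fun e => hx1 (congrArg Subtype.val e :)⟩
  have hst : MulAction.stabilizer M x' = C.subgroupOf M := by
    ext m
    rw [MulAction.mem_stabilizer_iff, Subgroup.mem_subgroupOf, Subgroup.mem_inf,
      Subgroup.mem_centralizer_singleton_iff, ← mul_inv_eq_iff_eq_mul]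
    exact ⟨fun h => ⟨congrArg (fun q : T => (q.1 : G)) h, m.2⟩, fun h => Subtype.ext (Subtype.ext h.1)⟩
  have hCc : Nat.card (C.subgroupOf M) = Nat.card C :=
    Nat.card_congr (Subgroup.subgroupOfEquivOfLe inf_le_right).toEquiv
  have horb : (MulAction.orbit M x').ncard * Nat.card C = 144 := by
    rw [← hCc, ← hst, ← MulAction.index_stabilizer, ← h144]
    exact Subgroup.index_mul_card _
  have hle8 : (MulAction.orbit M x').ncard ≤ 8 := hT ▸ Set.ncard_le_card _
  have h9 : 9 ∣ Nat.card C := (orbit_centralizer hG P hx hx1).2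
  have hPC : (P : Subgroup G) ≤ C :=
    le_inf (le_centralizer_singleton hG P hx) Subgroup.le_normalizer
  obtain ⟨y, hy, hyx⟩ : ∃ y ∈ (P : Subgroup G), y ∉ Subgroup.zpowers x := by
    by_contra h
    push Not at h
    have := Subgroup.card_dvd_of_le (show (P : Subgroup G) ≤ Subgroup.zpowers x from h)
    rw [card_nine hG, Nat.card_zpowers, hx3] at this
    norm_num at this
  -- at most two cosets of `P` in `C`
  haveI : ((P : Subgroup G).subgroupOf C).Normal := by
    refine ⟨fun n hn g => ?_⟩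
    rw [Subgroup.mem_subgroupOf] at hn ⊢
    exact (Subgroup.mem_normalizer_iff.1 g.2.2 _).1 hn
  have hz : ∀ g ∈ C, y⁻¹ * (g * y * g⁻¹) ∈ Subgroup.zpowers x → g ∈ (P : Subgroup G) := by
    intro g hg hgy
    obtain ⟨i, hi⟩ := hgy
    simp only at hi
    have hgx : g * x * g⁻¹ = x :=
      mul_inv_eq_iff_eq_mul.2 (Subgroup.mem_centralizer_singleton_iff.1 hg.1)
    have hgy' : g * y * g⁻¹ = y * x ^ i := by rw [hi]; group
    have hiter : ∀ n : ℕ, g ^ n * y * (g ^ n)⁻¹ = y * (x ^ i) ^ n := by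
      intro n
      induction n with
      | zero => simp
      | succ n ih =>
        rw [show g ^ (n + 1) * y * (g ^ (n + 1))⁻¹ = g * (g ^ n * y * (g ^ n)⁻¹) * g⁻¹ by
            rw [pow_succ']; group, ih,
          show g * (y * (x ^ i) ^ n) * g⁻¹ = (g * y * g⁻¹) * ((g * x * g⁻¹) ^ i) ^ n by
            rw [conj_zpow, conj_pow]; group, hgy', hgx, mul_assoc, ← pow_succ']
    have h16 : g ^ 16 ∈ (P : Subgroup G) := by
      have hidx : ((P : Subgroup G).subgroupOf M).index = 16 := by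
        have := ((P : Subgroup G).subgroupOf M).index_mul_card
        rw [Nat.card_congr (Subgroup.subgroupOfEquivOfLe Subgroup.le_normalizer).toEquiv,
          card_nine hG, h144] at this
        omega
      have := Subgroup.pow_index_mem ((P : Subgroup G).subgroupOf M) ⟨g, hg.2⟩
      rw [hidx, Subgroup.mem_subgroupOf] at this
      exact this
    have h1 := hiter 16
    rw [sylow_three_comm hG P _ h16 y hy, mul_inv_cancel_right] at h1
    have h2 : (x ^ i) ^ 16 = 1 := mul_eq_left.1 h1.symm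
    have h3 : x ^ i = 1 := by
      refine orderOf_eq_one_iff.1 (Nat.eq_one_of_dvd_coprimes (by norm_num : Nat.Coprime 3 16) ?_
        (orderOf_dvd_of_pow_eq_one h2))
      have := Subgroup.orderOf_dvd_natCard _ (zpow_mem (Subgroup.mem_zpowers x) i)
      rwa [Nat.card_zpowers, hx3] at this
    rw [h3, mul_one] at hgy'
    have hA := eq_of_contains hG P hx1 hyx
      (inf_le_left : (P : Subgroup G) ⊓ Subgroup.centralizer ({g} : Set G) ≤ P)
      ⟨hx, Subgroup.mem_centralizer_singleton_iff.2 (Subgroup.mem_centralizer_singleton_iff.1 hg.1).symm⟩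
      ⟨hy, Subgroup.mem_centralizer_singleton_iff.2 (mul_inv_eq_iff_eq_mul.1 hgy').symm⟩
    have := mem_centralizer_sylow_iff.2 (hA.ge.trans inf_le_right)
    rwa [centralizer_three hG P] at this
  have hle18 : Nat.card C ≤ 18 := by
    have hmem : ∀ g : C, (g : G) * y * (g : G)⁻¹ ∈ (P : Subgroup G) := fun g =>
      (Subgroup.mem_normalizer_iff.1 g.2.2 y).1 hy
    have key : ∀ a b : C, (a : G) ∉ (P : Subgroup G) → (b : G) ∉ (P : Subgroup G) →
        (a : G)⁻¹ * b ∈ (P : Subgroup G) := by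
      intro a b ha hb
      -- images of `y` modulo `x`
      set Z := Subgroup.zpowers x
      have hclass : ∀ g : C, (g : G) ∉ (P : Subgroup G) →
          y * ((g : G) * y * (g : G)⁻¹) ∈ Z := by
        intro g hg
        have hq := hmem g
        by_contra hne
        have hZ : Z ≤ (P : Subgroup G) := Subgroup.zpowers_le.2 hx
        haveI : Fintype (P : Subgroup G) := Fintype.ofFinite _
        set Zs := Z.subgroupOf (P : Subgroup G)
        haveI : Zs.Normal := ⟨fun n hn g => by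
          rw [show g * n * g⁻¹ = n from Subtype.ext (by
            show (g : G) * n * (g : G)⁻¹ = n
            rw [sylow_three_comm hG P _ g.2 _ n.2, mul_inv_cancel_right])]
          exact hn⟩
        have hZc : Nat.card Zs = 3 := by
          rw [Nat.card_congr (Subgroup.subgroupOfEquivOfLe hZ).toEquiv, Nat.card_zpowers, hx3]
        have hQ3 : Nat.card ((P : Subgroup G) ⧸ Zs) = 3 := by
          rw [← Subgroup.index_eq_card]
          have := Zs.index_mul_card
          rw [hZc, card_nine hG] at this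
          omega
        set a₁ : (P : Subgroup G) ⧸ Zs := QuotientGroup.mk ⟨y, hy⟩
        set b₁ : (P : Subgroup G) ⧸ Zs := QuotientGroup.mk ⟨_, hq⟩
        have ha1 : a₁ ≠ 1 := fun e => hyx (Subgroup.mem_subgroupOf.1 ((QuotientGroup.eq_one_iff _).1 e))
        have hb1 : b₁ ≠ 1 := fun e => by
          have h := Subgroup.mem_subgroupOf.1 ((QuotientGroup.eq_one_iff _).1 e)
          apply hyx
          obtain ⟨i, hi⟩ := h
          simp only at hi
          refine ⟨i, ?_⟩
          have hgx : (g : G)⁻¹ * x * (g : G) = x := by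
            have h' := Subgroup.mem_centralizer_singleton_iff.1 g.2.1
            rw [mul_assoc, ← h', inv_mul_cancel_left]
          show x ^ i = y
          calc x ^ i = ((g : G)⁻¹ * x * (g : G)⁻¹⁻¹) ^ i := by rw [inv_inv, hgx]
            _ = (g : G)⁻¹ * x ^ i * (g : G) := by rw [conj_zpow, inv_inv]
            _ = y := by rw [hi]; group
        haveI : Finite ((P : Subgroup G) ⧸ Zs) := inferInstance
        rcases eq_or_eq_inv_of_card_three (A := (⊤ : Subgroup ((P : Subgroup G) ⧸ Zs)))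
          (by rw [Subgroup.card_top, hQ3]) (Subgroup.mem_top a₁) ha1 (Subgroup.mem_top b₁) hb1 with h | h
        · refine hg (hz g g.2 ?_)
          have := Subgroup.mem_subgroupOf.1 (QuotientGroup.eq.1 h.symm)
          simpa using this
        · apply hne
          have h1 : a₁ * b₁ = 1 := by rw [h, mul_inv_cancel]
          exact Subgroup.mem_subgroupOf.1 ((QuotientGroup.eq_one_iff _).1 h1)
      refine hz _ (mul_mem (inv_mem a.2) b.2) ?_
      have hgx : (a : G)⁻¹ * x * (a : G) = x := by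
        have h' := Subgroup.mem_centralizer_singleton_iff.1 a.2.1
        rw [mul_assoc, ← h', inv_mul_cancel_left]
      obtain ⟨i, hi⟩ := hclass a ha
      obtain ⟨j, hj⟩ := hclass b hb
      simp only at hi hj
      -- b y b⁻¹ = y⁻¹ x^j and a⁻¹ (y⁻¹) a = y * x^(-i)
      have e1 : (b : G) * y * (b : G)⁻¹ = y⁻¹ * x ^ j := by rw [hj]; group
      have e2 : (a : G)⁻¹ * y⁻¹ * (a : G) = y * x ^ (-i) := by
        have hh : (a : G) * y * (a : G)⁻¹ = y⁻¹ * x ^ i := by rw [hi]; group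
        have : y = (a : G)⁻¹ * y⁻¹ * (a : G) * x ^ i := by
          calc y = (a : G)⁻¹ * (y⁻¹ * x ^ i) * (a : G) := by rw [← hh]; group
            _ = (a : G)⁻¹ * y⁻¹ * (a : G) * (((a : G)⁻¹ * x * (a : G)⁻¹⁻¹) ^ i) := by
              rw [conj_zpow]; group
            _ = (a : G)⁻¹ * y⁻¹ * (a : G) * x ^ i := by rw [inv_inv, hgx]
        rw [zpow_neg, eq_mul_inv_iff_mul_eq]
        exact this.symm
      refine ⟨-i + j, ?_⟩
      show x ^ (-i + j) = y⁻¹ * ((a : G)⁻¹ * (b : G) * y * ((a : G)⁻¹ * (b : G))⁻¹)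
      rw [show (a : G)⁻¹ * (b : G) * y * ((a : G)⁻¹ * (b : G))⁻¹ =
        (a : G)⁻¹ * ((b : G) * y * (b : G)⁻¹) * (a : G) by group, e1,
        show (a : G)⁻¹ * (y⁻¹ * x ^ j) * (a : G) =
          (a : G)⁻¹ * y⁻¹ * (a : G) * (((a : G)⁻¹ * x * (a : G)⁻¹⁻¹) ^ j) by rw [conj_zpow]; group,
        inv_inv, hgx, e2, zpow_add]
      group
    by_cases hall : ∀ g : C, (g : G) ∈ (P : Subgroup G)
    · have := Subgroup.card_dvd_of_le (show C ≤ (P : Subgroup G) from fun g hg => hall ⟨g, hg⟩)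
      rw [card_nine hG] at this
      exact (Nat.le_of_dvd (by norm_num) this).trans (by norm_num)
    push Not at hall
    obtain ⟨a, ha⟩ := hall
    have hidx : ((P : Subgroup G).subgroupOf C).index = 2 := by
      refine Subgroup.index_eq_two_iff.2 ⟨a⁻¹, fun b => ?_⟩
      simp only [Subgroup.mem_subgroupOf, Subgroup.coe_mul, Subgroup.coe_inv]
      by_cases hb : (b : G) ∈ (P : Subgroup G)
      · refine Or.inr ⟨hb, fun h' => ha ?_⟩
        have := mul_mem (inv_mem hb) h'
        simpa using this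
      · refine Or.inl ⟨?_, hb⟩
        have h := key a b ha hb
        have := (Subgroup.mem_normalizer_iff.1 a.2.2 _).1 h
        simpa [mul_assoc] using this
    have := ((P : Subgroup G).subgroupOf C).index_mul_card
    rw [hidx, Nat.card_congr (Subgroup.subgroupOfEquivOfLe hPC).toEquiv, card_nine hG] at this
    omega
  have hC18 : Nat.card C = 18 := by
    obtain ⟨k, hk⟩ := h9
    rw [hk] at hle18 horb
    have : k ≤ 2 := by omega
    interval_cases k <;> omega
  refine ⟨hC18, fun q hq hq1 => ?_⟩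
  have h8 : (MulAction.orbit M x').ncard = 8 := by rw [hC18] at horb; omega
  have huniv : MulAction.orbit M x' = Set.univ :=
    Set.eq_of_subset_of_ncard_le (Set.subset_univ _) (by rw [Set.ncard_univ, hT, h8])
  obtain ⟨m, hm⟩ := huniv.ge (Set.mem_univ (⟨⟨q, hq⟩, fun e => hq1 (congrArg Subtype.val e :)⟩ : T))
  exact ⟨m, m.2, congrArg (fun q : T => (q.1 : G)) hm⟩

/-- An involution of `N(P)` not inverting `P` fixes a nontrivial element of `P`. -/
theorem exists_fixed (hG : Cfsg.IsM11 G) (P : Sylow 3 G) {s : G}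
    (hs : s ∈ Subgroup.normalizer ((P : Subgroup G) : Set G)) (hs2 : s * s = 1) (hs1 : s ≠ 1)
    (hnot : ∃ q ∈ (P : Subgroup G), s * q * s⁻¹ ≠ q⁻¹) :
    Nat.card ↥((P : Subgroup G) ⊓ Subgroup.centralizer ({s} : Set G)) = 3 := by
  have hss : ∀ q ∈ (P : Subgroup G), s * (s * q * s⁻¹) * s⁻¹ = q := fun q _ => by
    rw [show s * (s * q * s⁻¹) * s⁻¹ = s * s * q * (s * s)⁻¹ by group, hs2, inv_one, one_mul, mul_one]
  have hsP : s ∉ (P : Subgroup G) := fun h => hs1 (eq_one_of_sq hG h hs2)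
  obtain ⟨I, hI⟩ := exists_inverted hG P s
  obtain ⟨q, hq, hq'⟩ := hnot
  exact (card_fixed_inverted hG P hs hss hsP hI ⟨q, hq, fun h => hq' ((hI q).1 h).2⟩).1

/-- `N(P)` contains an involution inverting `P`. -/
theorem exists_inverter' (hG : Cfsg.IsM11 G) (P : Sylow 3 G) :
    ∃ w ∈ Subgroup.normalizer ((P : Subgroup G) : Set G),
      orderOf w = 2 ∧ ∀ q ∈ (P : Subgroup G), w * q * w⁻¹ = q⁻¹ := by
  classical
  set M := Subgroup.normalizer ((P : Subgroup G) : Set G) with hMdef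
  have hPM : (P : Subgroup G) ≤ M := Subgroup.le_normalizer
  set N := (P : Subgroup G).subgroupOf M
  haveI : N.Normal := Subgroup.normal_in_normalizer
  haveI : Fact (Nat.Prime 2) := ⟨Nat.prime_two⟩
  have hQ : Nat.card (M ⧸ N) = 2 ^ 4 := by
    rw [← Subgroup.index_eq_card]
    have := N.index_mul_card
    rw [Nat.card_congr (Subgroup.subgroupOfEquivOfLe hPM).toEquiv, card_nine hG,
      card_normalizer_three hG P] at this
    omega
  haveI : Nontrivial (M ⧸ N) := Finite.one_lt_card_iff_nontrivial.1 (by rw [hQ]; norm_num)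
  haveI := (IsPGroup.of_card hQ).center_nontrivial
  have hdvd : 2 ∣ Nat.card (Subgroup.center (M ⧸ N)) := by
    obtain ⟨i, hi⟩ := ((IsPGroup.of_card hQ).to_subgroup (Subgroup.center (M ⧸ N))).exists_card_eq
    rcases i with _ | i
    · exact absurd hi (Finite.one_lt_card_iff_nontrivial.2 inferInstance).ne'
    · exact hi ▸ Dvd.intro_left (2 ^ i) (pow_succ 2 i).symm
  obtain ⟨c, hc⟩ := exists_prime_orderOf_dvd_card' 2 hdvd
  obtain ⟨z, hz⟩ := QuotientGroup.mk_surjective (c : M ⧸ N)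
  have hzz : (z : G) * z ∈ (P : Subgroup G) := by
    have h : QuotientGroup.mk' N (z * z) = 1 := by
      rw [map_mul]
      show (QuotientGroup.mk z : M ⧸ N) * QuotientGroup.mk z = 1
      rw [hz, ← Subgroup.coe_mul, H26.mul_self_of_orderOf_two hc]; rfl
    exact Subgroup.mem_subgroupOf.1 ((QuotientGroup.eq_one_iff _).1 h)
  have hzP : (z : G) ∉ (P : Subgroup G) := fun h => by
    have h1 : (c : M ⧸ N) = 1 := hz ▸ (QuotientGroup.eq_one_iff _).2 (Subgroup.mem_subgroupOf.2 h)
    rw [show c = 1 from Subtype.ext h1, orderOf_one] at hc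
    norm_num at hc
  have hcomm : ∀ m : M, ∀ q ∈ (P : Subgroup G),
      (z : G) * ((m : G) * q * (m : G)⁻¹) * (z : G)⁻¹ = (m : G) * ((z : G) * q * (z : G)⁻¹) * (m : G)⁻¹ := by
    intro m q hq
    have hk : ((z * m)⁻¹ * (m * z) : M) ∈ N := by
      rw [← QuotientGroup.eq]
      show (QuotientGroup.mk' N) (z * m) = (QuotientGroup.mk' N) (m * z)
      rw [map_mul, map_mul]
      show (QuotientGroup.mk z : M ⧸ N) * _ = _ * (QuotientGroup.mk z : M ⧸ N)
      rw [hz]
      exact (Subgroup.mem_center_iff.1 c.2 _).symm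
    have h := (conj_eq_iff_mem hG P).1 (Subgroup.mem_subgroupOf.1 hk) q hq
    simp only [Subgroup.coe_mul, Subgroup.coe_inv] at h
    calc (z : G) * ((m : G) * q * (m : G)⁻¹) * (z : G)⁻¹
        = (z : G) * (m : G) * (((z : G) * (m : G))⁻¹ * ((m : G) * z) * q *
            (((z : G) * (m : G))⁻¹ * ((m : G) * z))⁻¹) * ((z : G) * (m : G))⁻¹ := by rw [h]; group
      _ = (m : G) * ((z : G) * q * (z : G)⁻¹) * (m : G)⁻¹ := by group
  have hinv : ∀ q ∈ (P : Subgroup G), (z : G) * q * (z : G)⁻¹ = q⁻¹ := by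
    intro q hq
    have hzq := (Subgroup.mem_normalizer_iff.1 z.2 q).1 hq
    have hss : (z : G) * ((z : G) * q * (z : G)⁻¹) * (z : G)⁻¹ = q := by
      rw [show (z : G) * ((z : G) * q * (z : G)⁻¹) * (z : G)⁻¹ = (z : G) * z * q * ((z : G) * z)⁻¹ by group]
      exact (conj_eq_iff_mem hG P).1 hzz q hq
    obtain ⟨h1, -⟩ := mul_conj_fixed hG z.2 hq hss
    by_contra hne
    have hu1 : q * ((z : G) * q * (z : G)⁻¹) ≠ 1 := fun e => hne (eq_inv_of_mul_eq_one_right e)
    apply hzP
    rw [conj_eq_iff_mem hG P]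
    intro p hp
    by_cases hp1 : p = 1
    · rw [hp1]; group
    obtain ⟨m, hm, rfl⟩ := (card_fix hG P (mul_mem hq hzq) hu1).2 p hp hp1
    rw [hcomm ⟨m, hm⟩ _ (mul_mem hq hzq), h1]
  refine ⟨z, z.2, orderOf_eq_prime ?_ fun e => hzP (e ▸ one_mem _), hinv⟩
  have h2 := hinv _ hzz
  rw [show (z : G) * ((z : G) * z) * (z : G)⁻¹ = (z : G) * z by group] at h2
  rw [pow_two]
  exact eq_one_of_sq hG hzz (mul_eq_one_iff_eq_inv.2 h2)

/-- Inverting involutions of `N(P)` are conjugate. -/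
theorem isConj_inverter (hG : Cfsg.IsM11 G) (P : Sylow 3 G) {w s : G}
    (hwinv : ∀ q ∈ (P : Subgroup G), w * q * w⁻¹ = q⁻¹)
    (hsinv : ∀ q ∈ (P : Subgroup G), s * q * s⁻¹ = q⁻¹) :
    ∃ q ∈ (P : Subgroup G), q * w * q⁻¹ = s := by
  have hp : s * w⁻¹ ∈ (P : Subgroup G) := by
    rw [conj_eq_iff_mem hG P]
    intro q hq
    have h1 : w⁻¹ * q * w = q⁻¹ := by
      have := hwinv _ (inv_mem hq)
      rw [inv_inv] at this
      calc w⁻¹ * q * w = w⁻¹ * (w * q⁻¹ * w⁻¹) * w := by rw [this]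
        _ = q⁻¹ := by group
    rw [show s * w⁻¹ * q * (s * w⁻¹)⁻¹ = s * (w⁻¹ * q * w) * s⁻¹ by group, h1, hsinv _ (inv_mem hq),
      inv_inv]
  refine ⟨(s * w⁻¹) ^ 5, pow_mem hp 5, ?_⟩
  calc (s * w⁻¹) ^ 5 * w * ((s * w⁻¹) ^ 5)⁻¹
      = (s * w⁻¹) ^ 5 * (w * ((s * w⁻¹) ^ 5)⁻¹ * w⁻¹) * w := by group
    _ = (s * w⁻¹) ^ 5 * (s * w⁻¹) ^ 5 * w := by rw [hwinv _ (inv_mem (pow_mem hp 5)), inv_inv]
    _ = s := by rw [← pow_add, pow_ten hG hp, inv_mul_cancel_right]

/-- Non-inverting involutions of `N(P)` are conjugate. -/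
theorem isConj_fixing (hG : Cfsg.IsM11 G) (P : Sylow 3 G) {x r s : G}
    (hx : x ∈ (P : Subgroup G)) (hx1 : x ≠ 1)
    (hr : r ∈ Subgroup.centralizer ({x} : Set G) ⊓ Subgroup.normalizer ((P : Subgroup G) : Set G))
    (hro : orderOf r = 2) (hsM : s ∈ Subgroup.normalizer ((P : Subgroup G) : Set G))
    (hso : orderOf s = 2) (hnot : ∃ q ∈ (P : Subgroup G), s * q * s⁻¹ ≠ q⁻¹) : IsConj r s := by
  classical
  have hs1 : s ≠ 1 := fun e => by rw [e, orderOf_one] at hso; norm_num at hso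
  have h3 := exists_fixed hG P hsM (H26.mul_self_of_orderOf_two hso) hs1 hnot
  haveI : Fact (Nat.Prime 3) := ⟨Nat.prime_three⟩
  haveI : Fact (Nat.Prime 2) := ⟨Nat.prime_two⟩
  obtain ⟨f₀, hf₀⟩ := exists_prime_orderOf_dvd_card' 3 (dvd_of_eq h3.symm)
  have hf1 : (f₀ : G) ≠ 1 := fun e => by
    rw [show f₀ = 1 from Subtype.ext e, orderOf_one] at hf₀; norm_num at hf₀
  obtain ⟨m, hm, hmx⟩ := (card_fix hG P hx hx1).2 _ f₀.2.1 hf1
  set K := Subgroup.centralizer ({x} : Set G) ⊓ Subgroup.normalizer ((P : Subgroup G) : Set G)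
  have hsK : m⁻¹ * s * m ∈ K := by
    refine Subgroup.mem_inf.2 ⟨Subgroup.mem_centralizer_singleton_iff.2 ?_, mul_mem (mul_mem (inv_mem hm) hsM) hm⟩
    have h' : s * (f₀ : G) = f₀ * s := (Subgroup.mem_centralizer_singleton_iff.1 f₀.2.2).symm
    rw [← hmx] at h'
    calc m⁻¹ * s * m * x = m⁻¹ * (s * (m * x * m⁻¹)) * m := by group
      _ = x * (m⁻¹ * s * m) := by rw [h']; group
  have hord : orderOf (m⁻¹ * s * m) = 2 := by
    rw [show m⁻¹ * s * m = MulAut.conj m⁻¹ s by simp, MulEquiv.orderOf_eq, hso]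
  have hsyl : ∀ (a : K), orderOf a = 2 → ∃ Q : Sylow 2 K, (Q : Subgroup K) = Subgroup.zpowers a := by
    intro a ha
    refine ⟨Sylow.ofCard (Subgroup.zpowers a) ?_, rfl⟩
    rw [Nat.card_zpowers, ha, (card_fix hG P hx hx1).1, factorization_eighteen, pow_one]
  obtain ⟨Q, hQ⟩ := hsyl ⟨r, hr⟩ (by rw [← Subgroup.orderOf_coe]; exact hro)
  obtain ⟨R, hR⟩ := hsyl ⟨_, hsK⟩ (by rw [← Subgroup.orderOf_coe]; exact hord)
  obtain ⟨k, hk⟩ := MulAction.exists_smul_eq K Q R
  have hmem : k * ⟨r, hr⟩ * k⁻¹ ∈ Subgroup.zpowers (⟨m⁻¹ * s * m, hsK⟩ : K) := by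
    rw [← hR, ← hk, Sylow.coe_subgroup_smul, Subgroup.mem_smul_pointwise_iff_exists]
    exact ⟨⟨r, hr⟩, hQ ▸ Subgroup.mem_zpowers _, rfl⟩
  obtain ⟨j, hj⟩ := (mem_powers_iff_mem_zpowers (x := (⟨m⁻¹ * s * m, hsK⟩ : K))).2 hmem
  simp only at hj
  rw [← pow_mod_orderOf, show orderOf (⟨m⁻¹ * s * m, hsK⟩ : K) = 2 by
    rw [← Subgroup.orderOf_coe]; exact hord] at hj
  rcases Nat.mod_two_eq_zero_or_one j with e | e <;> rw [e] at hj
  · rw [pow_zero, eq_comm, conj_eq_one_iff] at hj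
    rw [show r = 1 from congrArg Subtype.val hj, orderOf_one] at hro
    norm_num at hro
  · rw [pow_one] at hj
    have h : m⁻¹ * s * m = (k : G) * r * (k : G)⁻¹ := congrArg Subtype.val hj
    refine isConj_iff.2 ⟨m * (k : G), ?_⟩
    calc m * (k : G) * r * (m * (k : G))⁻¹ = m * ((k : G) * r * (k : G)⁻¹) * m⁻¹ := by group
      _ = s := by rw [← h]; group

/-- The inverting involution is conjugate to one fixing an element of `P`. -/
theorem exists_fused (hG : Cfsg.IsM11 G) (P : Sylow 3 G) :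
    ∃ x r w : G, x ∈ (P : Subgroup G) ∧ x ≠ 1 ∧
      r ∈ Subgroup.centralizer ({x} : Set G) ⊓ Subgroup.normalizer ((P : Subgroup G) : Set G) ∧
      orderOf r = 2 ∧ w ∈ Subgroup.normalizer ((P : Subgroup G) : Set G) ∧ orderOf w = 2 ∧
      (∀ q ∈ (P : Subgroup G), w * q * w⁻¹ = q⁻¹) ∧ IsConj r w := by
  classical
  obtain ⟨w, hwM, hwo, hwinv⟩ := exists_inverter' hG P
  set M := Subgroup.normalizer ((P : Subgroup G) : Set G) with hMdef
  haveI : Fact (Nat.Prime 3) := ⟨Nat.prime_three⟩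
  haveI : Fact (Nat.Prime 2) := ⟨Nat.prime_two⟩
  obtain ⟨x₀, hx₀⟩ := exists_prime_orderOf_dvd_card' (G := (P : Subgroup G)) 3 (by rw [card_nine hG]; norm_num)
  have hx1 : (x₀ : G) ≠ 1 := fun e => by
    rw [show x₀ = 1 from Subtype.ext e, orderOf_one] at hx₀; norm_num at hx₀
  obtain ⟨r₀, hr₀⟩ := exists_prime_orderOf_dvd_card'
    (G := ↥(Subgroup.centralizer ({(x₀ : G)} : Set G) ⊓ M)) 2 (by rw [(card_fix hG P x₀.2 hx1).1]; norm_num)
  set r : G := (r₀ : G) with hrdef
  have hro : orderOf r = 2 := by rw [hrdef, Subgroup.orderOf_coe, hr₀]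
  have hr2 := H26.mul_self_of_orderOf_two hro
  refine ⟨x₀, r, w, x₀.2, hx1, r₀.2, hro, hwM, hwo, hwinv, ?_⟩
  -- sign of the permutation of `P`
  haveI : Fintype (P : Subgroup G) := Fintype.ofFinite _
  let f : M →* ℤˣ := Equiv.Perm.sign.comp ((MulAut.toPerm (P : Subgroup G)).comp
    (P : Subgroup G).normalizerMonoidHom)
  have hodd : ∀ s (hs : s ∈ M), orderOf s = 2 → (∃ q ∈ (P : Subgroup G), s * q * s⁻¹ ≠ q⁻¹) →
      f ⟨s, hs⟩ ≠ 1 := by
    intro s hs hso hnot h1
    set σ : Equiv.Perm (P : Subgroup G) :=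
      MulAut.toPerm (P : Subgroup G) ((P : Subgroup G).normalizerMonoidHom ⟨s, hs⟩) with hσ
    have hs1 : s ≠ 1 := fun e => by rw [e, orderOf_one] at hso; norm_num at hso
    have hσ2 : σ ^ 2 = 1 := by
      rw [hσ, ← map_pow, ← map_pow, show (⟨s, hs⟩ : M) ^ 2 = 1 from
        Subtype.ext (by simp [pow_two, H26.mul_self_of_orderOf_two hso]), map_one, map_one]
    have h4 := four_dvd_support σ hσ2 h1
    have hsupp : σ.support.card = 6 := by
      have h3 := exists_fixed hG P hs (H26.mul_self_of_orderOf_two hso) hs1 hnot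
      have hfix : (Finset.univ.filter fun q => σ q = q).card = 3 := by
        rw [← Fintype.card_subtype, ← Nat.card_eq_fintype_card]
        refine Eq.trans ?_ h3
        refine Nat.card_congr
          { toFun := fun q => ⟨q.1, q.1.2, Subgroup.mem_centralizer_singleton_iff.2
              (mul_inv_eq_iff_eq_mul.1 (congrArg Subtype.val q.2 :)).symm⟩
            invFun := fun q => ⟨⟨q.1, q.2.1⟩, Subtype.ext (mul_inv_eq_iff_eq_mul.2
              (Subgroup.mem_centralizer_singleton_iff.1 q.2.2).symm)⟩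
            left_inv := fun _ => rfl
            right_inv := fun _ => rfl }
      have h := Finset.card_filter_add_card_filter_not (s := (Finset.univ : Finset (P : Subgroup G)))
        (fun q => σ q = q)
      rw [hfix, Finset.card_univ, ← Nat.card_eq_fintype_card, card_nine hG] at h
      rw [show σ.support = Finset.univ.filter (fun q => ¬ σ q = q) by ext q; simp]
      omega
    rw [hsupp] at h4
    norm_num at h4
  have hrnot : ∃ q ∈ (P : Subgroup G), r * q * r⁻¹ ≠ q⁻¹ := ⟨x₀, x₀.2, fun e => hx1 (by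
    refine eq_one_of_sq hG x₀.2 (mul_eq_one_iff_eq_inv.2 ?_)
    rw [← e]
    exact (mul_inv_eq_iff_eq_mul.2 (Subgroup.mem_centralizer_singleton_iff.1 r₀.2.1)).symm)⟩
  -- Sylow 2-subgroup of `G` inside `M` containing `r`
  obtain ⟨S, hS⟩ := (IsPGroup.of_card (n := 1) (p := 2) (by
      rw [Nat.card_zpowers, ← Subgroup.orderOf_coe, pow_one]; exact hro) :
    IsPGroup 2 (Subgroup.zpowers (⟨r, r₀.2.2⟩ : M))).exists_le_sylow
  have hS16 : Nat.card ((S : Subgroup M).map M.subtype) = 2 ^ 4 := by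
    rw [Subgroup.card_map_of_injective (Subgroup.subtype_injective M)]
    obtain ⟨i, hi⟩ := S.2.exists_card_eq
    have h1 : 2 ^ 4 ∣ Nat.card (S : Subgroup M) := S.pow_dvd_card_of_pow_dvd_card (by
      rw [card_normalizer_three hG P]; norm_num)
    have h2 : Nat.card (S : Subgroup M) ∣ 144 := by
      have := Subgroup.card_subgroup_dvd_card (S : Subgroup M)
      rwa [card_normalizer_three hG P] at this
    rw [hi] at h1 h2 ⊢
    have h3 : 4 ≤ i := (Nat.pow_dvd_pow_iff_le_right (by norm_num)).1 h1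
    have h4 : i ≤ 4 := by
      by_contra hlt
      exact absurd ((Nat.pow_dvd_pow 2 (by omega : 5 ≤ i)).trans h2) (by norm_num)
    rw [le_antisymm h4 h3]
  obtain ⟨S'⟩ := (inferInstance : Nonempty (Sylow 2 G))
  have hS'16 : Nat.card (S' : Subgroup G) = 2 ^ 4 :=
    card_sylow_eq (k := 4) hG (by norm_num) (by norm_num) S'
  let T : Sylow 2 G := Sylow.ofCard ((S : Subgroup M).map M.subtype)
    (hS16.trans (hS'16.symm.trans S'.card_eq_multiplicity))
  have hrT : r ∈ (T : Subgroup G) := ⟨⟨r, r₀.2.2⟩, hS (Subgroup.mem_zpowers _), rfl⟩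
  set Q := ((S : Subgroup M) ⊓ f.ker).map M.subtype
  have hQT : Q ≤ (T : Subgroup G) := Subgroup.map_mono inf_le_left
  have hfr : f ⟨r, r₀.2.2⟩ = -1 := (Int.units_eq_one_or _).resolve_left (hodd r r₀.2.2 hro hrnot)
  have hrQ : r ∉ Q := fun ⟨a, ha, har⟩ => by
    rw [show a = ⟨r, r₀.2.2⟩ from Subtype.ext har] at ha
    exact hodd r r₀.2.2 hro hrnot ha.2
  have hQi : Q.relIndex (T : Subgroup G) = 2 := by
    refine Subgroup.index_eq_two_iff.2 ⟨⟨r, hrT⟩, ?_⟩
    rintro ⟨b, hb⟩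
    obtain ⟨b', hb', rfl⟩ := hb
    simp only [Subgroup.mem_subgroupOf, Subgroup.coe_mul]
    have hbQ : ∀ a : M, a ∈ (S : Subgroup M) → ((a : G) ∈ Q ↔ f a = 1) := fun a ha =>
      ⟨fun ⟨c, hc, hca⟩ => by rw [← show c = a from Subtype.ext hca]; exact hc.2,
        fun h => ⟨a, ⟨ha, h⟩, rfl⟩⟩
    have e : f (b' * ⟨r, r₀.2.2⟩) = f b' * -1 := by rw [map_mul, hfr]
    have hmem := hbQ (b' * ⟨r, r₀.2.2⟩) (mul_mem hb' (hS (Subgroup.mem_zpowers _)))
    rw [e] at hmem
    change Xor ((b' : G) * r ∈ Q) ((b' : G) ∈ Q)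
    rw [show (b' : G) * r = ((b' * ⟨r, r₀.2.2⟩ : M) : G) from rfl, hmem, hbQ b' hb']
    rcases Int.units_eq_one_or (f b') with h | h <;> rw [h] <;> simp [Xor]
  rcases H25.thompson_transfer T Q hQT hQi r hro hrT hrQ with ⟨N, hN, hNi, -⟩ | ⟨g, hg⟩
  · haveI := hG.1
    rcases hN.eq_bot_or_eq_top with h | h
    · rw [h, Subgroup.index_bot, hG.2] at hNi; norm_num at hNi
    · rw [h, Subgroup.index_top] at hNi; norm_num at hNi
  · obtain ⟨a, ha, hag⟩ := hg
    have hao : orderOf (g * r * g⁻¹) = 2 := ((MulAut.conj g).orderOf_eq r).trans hro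
    have hainv : ∀ q ∈ (P : Subgroup G), g * r * g⁻¹ * q * (g * r * g⁻¹)⁻¹ = q⁻¹ := by
      by_contra hn
      push Not at hn
      have h1 : f a = 1 := ha.2
      exact hodd _ (hag ▸ a.2) hao hn (by rw [← h1]; exact congrArg f (Subtype.ext hag.symm))
    obtain ⟨q, -, hq⟩ := isConj_inverter hG P hwinv hainv
    exact (isConj_iff.2 ⟨g, rfl⟩).trans (isConj_iff.2 ⟨q, hq⟩).symm

/-- The centralizer of an involution has order 48. -/
theorem card_centralizer_involution (hG : Cfsg.IsM11 G) {s : G} (hs : orderOf s = 2) :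
    Nat.card (Subgroup.centralizer ({s} : Set G)) = 48 := by
  classical
  obtain ⟨P⟩ := (inferInstance : Nonempty (Sylow 3 G))
  obtain ⟨x, r, w, hx, hx1, hr, hro, hwM, hwo, hwinv, hrw⟩ := exists_fused hG P
  set M := Subgroup.normalizer ((P : Subgroup G) : Set G) with hMdef
  haveI : Fact (Nat.Prime 2) := ⟨Nat.prime_two⟩
  haveI : Fact (Nat.Prime 3) := ⟨Nat.prime_three⟩
  haveI : Fact (Nat.Prime 5) := ⟨Nat.prime_five⟩
  -- `s` is conjugate to `w`
  obtain ⟨S₀⟩ := (inferInstance : Nonempty (Sylow 2 M))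
  have hsw : IsConj w s := by
    obtain ⟨T, hT⟩ := (IsPGroup.of_card (n := 1) (p := 2) (by rw [Nat.card_zpowers, hs, pow_one]) :
      IsPGroup 2 (Subgroup.zpowers s)).exists_le_sylow
    have h16 : Nat.card ((S₀ : Subgroup M).map M.subtype) = Nat.card (T : Subgroup G) := by
      rw [Subgroup.card_map_of_injective (Subgroup.subtype_injective M),
        card_sylow_eq (k := 4) hG (by norm_num) (by norm_num) T, S₀.card_eq_multiplicity,
        card_normalizer_three hG P]
      rw [factorization_oneFortyFour]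
    let T' : Sylow 2 G := Sylow.ofCard ((S₀ : Subgroup M).map M.subtype)
      (h16.trans T.card_eq_multiplicity)
    obtain ⟨g, hg⟩ := MulAction.exists_smul_eq G T T'
    have hmem : g * s * g⁻¹ ∈ (T' : Subgroup G) := by
      rw [← hg, Sylow.coe_subgroup_smul, Subgroup.mem_smul_pointwise_iff_exists]
      exact ⟨s, hT (Subgroup.mem_zpowers s), rfl⟩
    obtain ⟨a, -, hga⟩ := hmem
    have hgM : g * s * g⁻¹ ∈ M := hga ▸ a.2
    have hgo : orderOf (g * s * g⁻¹) = 2 := ((MulAut.conj g).orderOf_eq s).trans hs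
    have hc : IsConj w (g * s * g⁻¹) := by
      by_cases hinv : ∀ q ∈ (P : Subgroup G), g * s * g⁻¹ * q * (g * s * g⁻¹)⁻¹ = q⁻¹
      · obtain ⟨q, -, hq⟩ := isConj_inverter hG P hwinv hinv
        exact isConj_iff.2 ⟨q, hq⟩
      · push Not at hinv
        exact hrw.symm.trans (isConj_fixing hG P hx hx1 hr hro hgM hgo hinv)
    exact hc.trans (isConj_iff.2 ⟨g, rfl⟩).symm
  rw [← card_centralizer_eq hsw]
  set L := Subgroup.centralizer ({w} : Set G)
  have h3 : 3 ∣ Nat.card L := by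
    rw [← card_centralizer_eq hrw, ← orderOf_three hG P hx hx1]
    exact Subgroup.orderOf_dvd_natCard _ (Subgroup.mem_centralizer_singleton_iff.2
      (Subgroup.mem_centralizer_singleton_iff.1 hr.1).symm)
  have hw2 := H26.mul_self_of_orderOf_two hwo
  have h16 : 16 ∣ Nat.card L := by
    set w' : M := ⟨w, hwM⟩
    have hcl := card_centralizer_mul_class w'
    rw [card_normalizer_three hG P] at hcl
    have h9 : Nat.card {g : M // IsConj w' g} = 9 := by
      rw [← card_nine hG P]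
      refine (Nat.card_congr (Equiv.ofBijective (fun q : (P : Subgroup G) =>
        (⟨(⟨q.1, Subgroup.le_normalizer q.2⟩ : M) * w' * (⟨q.1, Subgroup.le_normalizer q.2⟩ : M)⁻¹,
          isConj_iff.2 ⟨_, rfl⟩⟩ : {g : M // IsConj w' g})) ⟨?_, ?_⟩)).symm
      · intro p q he
        have he' : (p : G) * w * (p : G)⁻¹ = (q : G) * w * (q : G)⁻¹ :=
          congrArg (fun g : {g : M // IsConj w' g} => ((g.1 : M) : G)) he
        have hrw' : ∀ q ∈ (P : Subgroup G), q * w * q⁻¹ = q ^ 2 * w := fun q hq => by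
          calc q * w * q⁻¹ = q * (w * q⁻¹ * w⁻¹) * w := by group
            _ = q ^ 2 * w := by rw [hwinv _ (inv_mem hq), inv_inv, pow_two]
        rw [hrw' p p.2, hrw' q q.2] at he'
        have h2 := congrArg (· ^ 5) (mul_right_cancel he')
        simp only [← pow_mul, pow_ten hG p.2, pow_ten hG q.2] at h2
        exact Subtype.ext h2
      · rintro ⟨g, hg⟩
        obtain ⟨m, hm⟩ := isConj_iff.1 hg
        have hinv : ∀ q ∈ (P : Subgroup G), (g : G) * q * (g : G)⁻¹ = q⁻¹ := by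
          intro q hq
          have hq' : (m : G)⁻¹ * q * (m : G) ∈ (P : Subgroup G) :=
            (Subgroup.mem_normalizer_iff.1 m.2 _).2 (by
              rw [show (m : G) * ((m : G)⁻¹ * q * (m : G)) * (m : G)⁻¹ = q by group]; exact hq)
          rw [← hm]
          show (m : G) * w * (m : G)⁻¹ * q * ((m : G) * w * (m : G)⁻¹)⁻¹ = q⁻¹
          rw [show (m : G) * w * (m : G)⁻¹ * q * ((m : G) * w * (m : G)⁻¹)⁻¹ =
            (m : G) * (w * ((m : G)⁻¹ * q * (m : G)) * w⁻¹) * (m : G)⁻¹ by group, hwinv _ hq']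
          group
        obtain ⟨q, hq, hq'⟩ := isConj_inverter hG P hwinv hinv
        exact ⟨⟨q, hq⟩, Subtype.ext (Subtype.ext hq')⟩
    rw [h9] at hcl
    have h : Nat.card (Subgroup.centralizer ({w'} : Set M)) = 16 := by omega
    rw [← h, ← Subgroup.card_map_of_injective (Subgroup.subtype_injective M)]
    refine Subgroup.card_dvd_of_le ?_
    rintro - ⟨a, ha, rfl⟩
    exact Subgroup.mem_centralizer_singleton_iff.2
      (congrArg Subtype.val (Subgroup.mem_centralizer_singleton_iff.1 ha) :)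
  obtain ⟨k, hk⟩ : 48 ∣ Nat.card L := Nat.Coprime.mul_dvd_of_dvd_of_dvd (by norm_num : Nat.Coprime 16 3) h16 h3
  have h9 := not_nine_dvd hG (g := w) (fun e => by rw [e, orderOf_one] at hwo; norm_num at hwo)
    (by rw [hwo]; norm_num)
  have h11 : ¬ 11 ∣ Nat.card L := fun hd => by
    have := orderOf_dvd_eleven hG hd
    rw [hwo] at this; norm_num at this
  have hd : 48 * k ∣ 48 * 165 := by
    rw [← hk, show 48 * 165 = 7920 from rfl, ← hG.2]; exact Subgroup.card_subgroup_dvd_card L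
  have hk165 : k ∣ 165 := Nat.dvd_of_mul_dvd_mul_left (by norm_num : 0 < 48) hd
  have hkc : k.Coprime 33 := Nat.Coprime.mul_right (n := 11) (m := 3)
    ((Nat.Prime.coprime_iff_not_dvd Nat.prime_three).2 fun h => h9 (hk ▸ Nat.mul_dvd_mul (by norm_num : 3 ∣ 48) h)).symm
    ((Nat.Prime.coprime_iff_not_dvd (by norm_num)).2 fun h => h11 (hk ▸ dvd_mul_of_dvd_right h 48)).symm
  have hk5 : k ∣ 5 := hkc.dvd_of_dvd_mul_right (show k ∣ 5 * 33 from hk165)
  rcases (Nat.dvd_prime Nat.prime_five).1 hk5 with rfl | rfl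
  · exact hk
  exfalso
  obtain ⟨t₀, ht₀⟩ := exists_prime_orderOf_dvd_card' (G := L) 5 (by rw [hk]; norm_num)
  have hA : Nat.card (Subgroup.zpowers (t₀ : G)) = 5 := by rw [Nat.card_zpowers, Subgroup.orderOf_coe, ht₀]
  obtain ⟨l, hl, hl5⟩ := index_normalizer_mod hA (Subgroup.zpowers_le.2 t₀.2) (by rw [hk]; norm_num)
  obtain ⟨Q, hQ⟩ := (IsPGroup.of_card (n := 1) (p := 5) (by rw [hA, pow_one]) :
    IsPGroup 5 (Subgroup.zpowers (t₀ : G))).exists_le_sylow
  have hQe : Subgroup.zpowers (t₀ : G) = Q :=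
    Subgroup.eq_of_le_of_card_ge hQ (by rw [card_five hG, hA])
  have h20 : Nat.card ↥(L ⊓ Subgroup.normalizer (Subgroup.zpowers (t₀ : G) : Set G)) ∣ 20 := by
    rw [← card_normalizer_five hG Q, hQe]
    exact Subgroup.card_dvd_of_le inf_le_right
  rw [hk] at hl
  generalize Nat.card ↥(L ⊓ Subgroup.normalizer (Subgroup.zpowers (t₀ : G) : Set G)) = c at hl h20
  have := Nat.le_of_dvd (by norm_num) h20
  interval_cases c <;> omega

end Cfsg.Agent.H69.M11
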