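import Cfsg.Agent.H69.M11.NonSimple
import Cfsg.Agent.H69.M11.Unique

/-!
The numbers of elements of each order in a simple group of order 7920.
-/

set_option autoImplicit false

namespace Cfsg.Agent.H69.M11

open Subgroup

variable {G : Type*} [Group G] [Finite G]

/-- Apart from orders 1, 5 and 11 the number of elements of a given order is a multiple of 55. -/
theorem dvd_card_orderOf (hG : Cfsg.IsM11 G) {n : ℕ} (h1 : n ≠ 1) (h5 : n ≠ 5) (h11 : n ≠ 11) :
    55 ∣ Nat.card {g : G // orderOf g = n} := by
  classical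
  haveI : Fintype G := Fintype.ofFinite G
  rw [Nat.card_eq_fintype_card, Fintype.card_subtype]
  rw [Finset.card_eq_sum_card_image (fun g : G => ConjClasses.mk g)]
  refine Finset.dvd_sum fun c hc => ?_
  obtain ⟨g, hg, rfl⟩ := Finset.mem_image.1 hc
  rw [Finset.mem_filter] at hg
  have hfib : ((Finset.univ.filter fun a : G => orderOf a = n).filter
      fun a => ConjClasses.mk a = ConjClasses.mk g) = Finset.univ.filter fun a => IsConj g a := by
    ext a
    simp only [Finset.mem_filter, Finset.mem_univ, true_and, ConjClasses.mk_eq_mk_iff_isConj]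
    constructor
    · exact fun h => h.2.symm
    · intro h
      obtain ⟨c, rfl⟩ := isConj_iff.1 h
      exact ⟨by rw [show c * g * c⁻¹ = MulAut.conj c g from rfl, MulEquiv.orderOf_eq, hg.2], h.symm⟩
  rw [hfib, ← Fintype.card_subtype, ← Nat.card_eq_fintype_card]
  have hcl := card_centralizer_mul_class g
  rw [hG.2] at hcl
  -- a power of order 2 or 3
  have hg1 : g ≠ 1 := fun e => h1 (by rw [← hg.2, e, orderOf_one])
  have h144 : Nat.card (Subgroup.centralizer ({g} : Set G)) ∣ 144 := by
    obtain ⟨p, hp, hpd⟩ := Nat.exists_prime_and_dvd (fun e => hg1 (orderOf_eq_one_iff.1 e))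
    haveI : Fact p.Prime := ⟨hp⟩
    have hpG : p ∣ 7920 := hG.2 ▸ hpd.trans (orderOf_dvd_natCard g)
    obtain ⟨m, hm⟩ := hpd
    have hm0 : 0 < m := Nat.pos_of_ne_zero fun e => by
      rw [e, mul_zero] at hm; exact (orderOf_pos g).ne' hm
    have hb : orderOf (g ^ m) = p := by
      rw [orderOf_pow_of_dvd hm0.ne' ⟨p, by rw [hm, mul_comm]⟩, hm, Nat.mul_div_cancel _ hm0]
    have hle : Subgroup.centralizer ({g} : Set G) ≤ Subgroup.centralizer ({g ^ m} : Set G) := fun a ha =>
      Subgroup.mem_centralizer_singleton_iff.2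
        (Commute.pow_right (Subgroup.mem_centralizer_singleton_iff.1 ha) m).eq
    refine (Subgroup.card_dvd_of_le hle).trans ?_
    have hp4 : p = 2 ∨ p = 3 ∨ p = 5 ∨ p = 11 := by
      have h : p ∣ 2 ^ 4 * (3 ^ 2 * (5 * 11)) := hpG
      rcases hp.dvd_mul.1 h with h' | h'
      · exact Or.inl ((Nat.prime_dvd_prime_iff_eq hp Nat.prime_two).1 (hp.dvd_of_dvd_pow h'))
      rcases hp.dvd_mul.1 h' with h'' | h''
      · exact Or.inr (Or.inl ((Nat.prime_dvd_prime_iff_eq hp Nat.prime_three).1 (hp.dvd_of_dvd_pow h'')))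
      rcases hp.dvd_mul.1 h'' with h''' | h'''
      · exact Or.inr (Or.inr (Or.inl ((Nat.prime_dvd_prime_iff_eq hp Nat.prime_five).1 h''')))
      · exact Or.inr (Or.inr (Or.inr ((Nat.prime_dvd_prime_iff_eq hp (by norm_num)).1 h''')))
    have hself : Nat.card (Subgroup.centralizer ({g ^ m} : Set G)) = p → False := by
      intro hc
      have := Subgroup.orderOf_dvd_natCard _ (show g ∈ Subgroup.centralizer ({g ^ m} : Set G) from
        Subgroup.mem_centralizer_singleton_iff.2 (Commute.self_pow g m).eq)
      rw [hc, hg.2] at this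
      rcases (Nat.dvd_prime hp).1 this with h | h
      · exact h1 h
      · rcases hp4 with h' | h' | h' | h' <;> subst h'
        · exact absurd hc (by rw [card_centralizer_involution hG hb]; norm_num)
        · obtain ⟨Q, hQ⟩ := (IsPGroup.of_card (n := 1) (p := 3)
            (by rw [Nat.card_zpowers, hb, pow_one]) : IsPGroup 3 (Subgroup.zpowers (g ^ m))).exists_le_sylow
          exact absurd hc (by
            rw [(card_centralizer_three_elem hG Q (hQ (Subgroup.mem_zpowers _))
              (fun e => by rw [e, orderOf_one] at hb; norm_num at hb)).1]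
            norm_num)
        · exact h5 h
        · exact h11 h
    rcases hp4 with rfl | rfl | rfl | rfl
    · rw [card_centralizer_involution hG hb]; norm_num
    · obtain ⟨Q, hQ⟩ := (IsPGroup.of_card (n := 1) (p := 3)
        (by rw [Nat.card_zpowers, hb, pow_one]) : IsPGroup 3 (Subgroup.zpowers (g ^ m))).exists_le_sylow
      rw [(card_centralizer_three_elem hG Q (hQ (Subgroup.mem_zpowers _))
        (fun e => by rw [e, orderOf_one] at hb; norm_num at hb)).1]
      norm_num
    · exact (hself (card_centralizer_five' hG hb)).elim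
    · refine (hself ?_).elim
      obtain ⟨Q, hQ⟩ := (IsPGroup.of_card (n := 1) (p := 11)
        (by rw [Nat.card_zpowers, hb, pow_one]) : IsPGroup 11 (Subgroup.zpowers (g ^ m))).exists_le_sylow
      have hQe : Subgroup.zpowers (g ^ m) = Q :=
        Subgroup.eq_of_le_of_card_ge hQ (by rw [card_eleven hG, Nat.card_zpowers, hb])
      rw [← centralizer_eq_of_zpowers hQe, centralizer_eleven hG Q, card_eleven hG]
  obtain ⟨k, hk⟩ := h144
  refine ⟨k, ?_⟩
  have hpos : 0 < Nat.card (Subgroup.centralizer ({g} : Set G)) := Nat.card_pos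
  apply Nat.eq_of_mul_eq_mul_right hpos
  rw [hcl, mul_assoc, mul_comm k, ← hk]
  norm_num

/-- Each number `10, 120, 450` is not a number of elements of some order. -/
theorem card_orderOf_ne (hG : Cfsg.IsM11 G) (n : ℕ) :
    Nat.card {g : G // orderOf g = n} ∉ ({10, 120, 450} : Finset ℕ) := by
  classical
  haveI : Fintype G := Fintype.ofFinite G
  haveI : Fact (Nat.Prime 5) := ⟨Nat.prime_five⟩
  haveI : Fact (Nat.Prime 11) := ⟨by norm_num⟩
  by_cases h1 : n = 1
  · subst h1
    have : Nat.card {g : G // orderOf g = 1} = 1 := by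
      rw [Nat.card_congr (Equiv.subtypeEquivRight fun g => orderOf_eq_one_iff (x := g)),
        Nat.card_eq_fintype_card, Fintype.card_subtype_eq]
    rw [this]; decide
  by_cases h5 : n = 5
  · subst h5
    rw [card_orderOf_prime (fun Q => card_five hG Q), card_sylow_five hG]; decide
  by_cases h11 : n = 11
  · subst h11
    rw [card_orderOf_prime (fun Q => card_eleven hG Q), card_sylow_eleven hG]; decide
  intro h
  have h55 := dvd_card_orderOf hG h1 h5 h11
  simp only [Finset.mem_insert, Finset.mem_singleton] at h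
  rcases h with h | h | h <;> rw [h] at h55 <;> norm_num at h55

/-- The order and the set of numbers of elements of each order determine the group. -/
theorem isM11_of_nse {H : Type*} [Group H] [Finite H] (hH : Cfsg.IsM11 H)
    (hcard : Nat.card G = 7920)
    (hnse : {c : ℕ | 0 < c ∧ ∃ n : ℕ, c = Nat.card {g : G // orderOf g = n}} =
      {c : ℕ | 0 < c ∧ ∃ n : ℕ, c = Nat.card {g : H // orderOf g = n}}) : Cfsg.IsM11 G := by
  haveI : Fact (Nat.Prime 11) := ⟨by norm_num⟩
  refine ⟨isSimple_of_card_sylow hcard ?_, hcard⟩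
  have hQ : ∀ Q : Sylow 11 G, Nat.card (Q : Subgroup G) = 11 := fun Q => by
    simpa using sylow_prime hcard 11 1 (by norm_num) (by norm_num) Q
  have hcnt := card_orderOf_prime hQ
  obtain ⟨P⟩ := (inferInstance : Nonempty (Sylow 11 G))
  have hd := P.card_dvd_index
  have hi : (P : Subgroup G).index = 720 := by
    have h := (P : Subgroup G).index_mul_card
    rw [hQ P, hcard] at h
    omega
  rw [hi] at hd
  have hmod : Nat.card (Sylow 11 G) % 11 = 1 := card_sylow_modEq_one 11 G
  have key : ∀ n ≤ 720, n ∣ 720 → n % 11 = 1 → n = 1 ∨ n = 12 ∨ n = 45 ∨ n = 144 := by decide +kernel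
  have hmem : Nat.card {g : G // orderOf g = 11} ∈
      {c : ℕ | 0 < c ∧ ∃ n : ℕ, c = Nat.card {g : G // orderOf g = n}} := by
    refine ⟨?_, 11, rfl⟩
    obtain ⟨x, hx⟩ := exists_prime_orderOf_dvd_card' (G := G) 11 (by rw [hcard]; norm_num)
    exact Finite.card_pos_iff.2 ⟨⟨x, hx⟩⟩
  rw [hnse, hcnt] at hmem
  obtain ⟨-, n, hn⟩ := hmem
  have hne := card_orderOf_ne hH n
  rw [← hn] at hne
  rcases key _ (Nat.le_of_dvd (by norm_num) hd) hd hmod with h | h | h | h
  · rw [h] at hne; simp at hne
  · rw [h] at hne; simp at hne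
  · rw [h] at hne; simp at hne
  · exact h

end Cfsg.Agent.H69.M11
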