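import Cfsg.Agent.H69.M11.Invol

/-!
`C(P) = P` for a Sylow 3-subgroup of a simple group of order 7920.
-/

set_option autoImplicit false

namespace Cfsg.Agent.H69.M11

open Subgroup MulAction

variable {G : Type*} [Group G] [Finite G]

theorem card_normalizer_three_eq (hG : Cfsg.IsM11 G) (P : Sylow 3 G) (g : G) :
    Nat.card (Subgroup.normalizer (((g • P : Sylow 3 G) : Subgroup G) : Set G)) =
      Nat.card (Subgroup.normalizer ((P : Subgroup G) : Set G)) := by
  have h1 := card_sylow_mul hG (g • P)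
  have h2 := card_sylow_mul hG P
  exact Nat.eq_of_mul_eq_mul_left Nat.card_pos (h1.trans h2.symm)

/-- If only `C(P)` of index 2 in `N(P)` centralizes `P`, elements outside invert `P`. -/
theorem inverts_of_not_mem (hG : Cfsg.IsM11 G) (P : Sylow 3 G)
    (hM : Nat.card (Subgroup.normalizer ((P : Subgroup G) : Set G)) = 36)
    (hC : Nat.card (Subgroup.centralizer ((P : Subgroup G) : Set G)) = 18) {a : G}
    (ha : a ∈ Subgroup.normalizer ((P : Subgroup G) : Set G))
    (ha' : a ∉ Subgroup.centralizer ((P : Subgroup G) : Set G)) {q : G}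
    (hq : q ∈ (P : Subgroup G)) : a * q * a⁻¹ = q⁻¹ := by
  set M := Subgroup.normalizer ((P : Subgroup G) : Set G)
  set C := Subgroup.centralizer ((P : Subgroup G) : Set G)
  have hCM : C ≤ M := Subgroup.centralizer_le_normalizer _
  have hidx : (C.subgroupOf M).index = 2 := by
    have := (C.subgroupOf M).index_mul_card
    rw [Nat.card_congr (Subgroup.subgroupOfEquivOfLe hCM).toEquiv, hC, hM] at this
    omega
  have hqa : a * q * a⁻¹ ∈ (P : Subgroup G) := (Subgroup.mem_normalizer_iff.1 ha q).1 hq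
  set w := q * (a * q * a⁻¹) with hw
  have hwP : w ∈ (P : Subgroup G) := mul_mem hq hqa
  have ha2 : a * a ∈ C := (Subgroup.mul_self_mem_of_index_two hidx (⟨a, ha⟩ : M) :)
  have hwa : a * w = w * a := by
    have h2 : (a * a) * q = q * (a * a) := (ha2 q hq).symm
    have hcomm := sylow_three_comm hG P q hq _ hqa
    calc a * w = a * q * a⁻¹ * ((a * a) * q) * a⁻¹ := by rw [hw]; group
      _ = a * q * a⁻¹ * (q * (a * a)) * a⁻¹ := by rw [h2]
      _ = (a * q * a⁻¹ * q) * a := by group
      _ = w * a := by rw [hw, ← hcomm]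
  have hle : M ≤ Subgroup.centralizer ({w} : Set G) := by
    intro m hm
    refine Subgroup.mem_centralizer_singleton_iff.2 ?_
    by_cases hmC : m ∈ C
    · exact (hmC w hwP).symm
    · have hmem : a⁻¹ * m ∈ C :=
        (Subgroup.mul_mem_iff_of_index_two hidx (a := (⟨a⁻¹, inv_mem ha⟩ : M)) (b := ⟨m, hm⟩)).2
          (iff_of_false (fun h => ha' (by simpa using inv_mem (Subgroup.mem_subgroupOf.1 h)))
            (fun h => hmC (Subgroup.mem_subgroupOf.1 h)))
      have h1 : (a⁻¹ * m) * w = w * (a⁻¹ * m) := (hmem w hwP).symm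
      calc m * w = a * ((a⁻¹ * m) * w) := by group
        _ = (a * w) * (a⁻¹ * m) := by rw [h1]; group
        _ = w * m := by rw [hwa]; group
  have := eq_one_of_central_normalizer hG P hwP hle
  rw [hw, mul_eq_one_iff_inv_eq] at this
  exact this.symm

theorem false_of_ten (hG : Cfsg.IsM11 G) (P : Sylow 3 G)
    (hM : Nat.card (Subgroup.normalizer ((P : Subgroup G) : Set G)) = 36) {s : G} (hs : orderOf s = 2)
    (hMs : Subgroup.normalizer ((P : Subgroup G) : Set G) ≤ Subgroup.centralizer ({s} : Set G))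
    (hL : Nat.card (Subgroup.centralizer ({s} : Set G)) = 360) : False := by
  classical
  set L := Subgroup.centralizer ({s} : Set G) with hLdef
  obtain ⟨t₀, ht₀⟩ := exists_prime_orderOf_dvd_card' (G := L) 5 (by rw [hL]; norm_num)
  set t : G := (t₀ : G) with htdef
  have ht : orderOf t = 5 := by rw [htdef, Subgroup.orderOf_coe, ht₀]
  obtain ⟨Q⟩ := (inferInstance : Nonempty (Sylow 5 L))
  have hQ5 : Nat.card (Q : Subgroup L) = 5 := by
    obtain ⟨m, hm⟩ := Q.2.exists_card_eq
    have h1 : 5 ∣ Nat.card (Q : Subgroup L) := Q.dvd_card_of_dvd_card (by rw [hL]; norm_num)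
    have h2 : Nat.card (Q : Subgroup L) ∣ 360 := hL ▸ Subgroup.card_subgroup_dvd_card _
    rw [hm] at h1 h2 ⊢
    match m, h1, h2 with
    | 0, h1, _ => norm_num at h1
    | 1, _, _ => norm_num
    | m + 2, _, h2 => exact absurd ((Dvd.intro_left (5 ^ m) (pow_add 5 m 2).symm).trans h2) (by norm_num)
  obtain ⟨q₀, hq₀⟩ := exists_prime_orderOf_dvd_card' (G := (Q : Subgroup L)) 5 (dvd_of_eq hQ5.symm)
  set q : G := ((q₀ : L) : G) with hqdef
  have hq : orderOf q = 5 := by
    rw [hqdef, Subgroup.orderOf_coe, Subgroup.orderOf_coe, hq₀]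
  -- the normalizer of `Q` in `L` centralizes it
  have hQz : (Q : Subgroup L).map L.subtype = Subgroup.zpowers q := by
    refine (Subgroup.eq_of_le_of_card_ge (Subgroup.zpowers_le.2 (Subgroup.mem_map.2 ⟨(q₀ : L), q₀.2, rfl⟩)) ?_).symm
    rw [Subgroup.card_map_of_injective (Subgroup.subtype_injective L), hQ5, Nat.card_zpowers]; exact le_of_eq hq.symm
  set NL := Subgroup.normalizer ((Q : Subgroup L) : Set L) with hNL
  set Cq := Subgroup.centralizer ({q} : Set G)
  have hN20 : Nat.card NL ∣ 20 := by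
    have hp : IsPGroup 5 (Subgroup.zpowers q) := IsPGroup.of_card (n := 1) (by
      rw [Nat.card_zpowers, hq, pow_one])
    obtain ⟨R, hR⟩ := hp.exists_le_sylow
    have heq : Subgroup.zpowers q = R :=
      Subgroup.eq_of_le_of_card_ge hR (by rw [card_five hG R, Nat.card_zpowers, hq])
    rw [← card_normalizer_five hG R, ← Subgroup.card_map_of_injective (K := NL) (Subgroup.subtype_injective L)]
    refine Subgroup.card_dvd_of_le ?_
    rintro - ⟨n, hn, rfl⟩
    rw [← heq, ← hQz]
    refine Subgroup.mem_normalizer_iff.2 fun x => ?_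
    constructor
    · rintro ⟨y, hy, rfl⟩
      exact ⟨n * y * n⁻¹, (Subgroup.mem_normalizer_iff.1 hn y).1 hy, by simp⟩
    · rintro ⟨y, hy, hyx⟩
      refine ⟨n⁻¹ * y * n, (Subgroup.mem_normalizer_iff.1 hn _).2 (by rw [show n * (n⁻¹ * y * n) * n⁻¹ = y by group]; exact hy), ?_⟩
      simp only [map_mul, map_inv]
      rw [show L.subtype y = L.subtype n * x * (L.subtype n)⁻¹ from hyx]
      group
  have hmul : Nat.card (Sylow 5 L) * Nat.card NL = 360 := by
    rw [Q.card_eq_index_normalizer, ← hL]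
    exact Subgroup.index_mul_card _
  have hn5 : Nat.card (Sylow 5 L) = 36 ∧ Nat.card NL = 10 := by
    have hd : Nat.card (Sylow 5 L) ∣ 360 := ⟨_, hmul.symm⟩
    have hmod := card_sylow_modEq_one 5 L
    have h5 : 5 ∣ Nat.card NL := hQ5 ▸ Subgroup.card_dvd_of_le Subgroup.le_normalizer
    have hd72 : Nat.card (Sylow 5 L) ∣ 72 := by
      obtain ⟨m, hm⟩ := h5
      refine ⟨m, ?_⟩
      rw [hm] at hmul
      have : Nat.card (Sylow 5 L) * m * 5 = 72 * 5 := by rw [mul_assoc, mul_comm m]; exact hmul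
      exact (Nat.eq_of_mul_eq_mul_right (by norm_num) this).symm
    have hmem : Nat.card (Sylow 5 L) ∈ (Nat.divisors 72).filter (fun n => n % 5 = 1) := by
      refine Finset.mem_filter.2 ⟨Nat.mem_divisors.2 ⟨hd72, by norm_num⟩, ?_⟩
      rwa [Nat.ModEq] at hmod
    rw [show (Nat.divisors 72).filter (fun n => n % 5 = 1) = {1, 6, 36} by decide +kernel] at hmem
    simp only [Finset.mem_insert, Finset.mem_singleton] at hmem
    have hle := Nat.le_of_dvd (by norm_num) hN20
    rcases hmem with h | h | h <;> rw [h] at hmul <;> omega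
  have hsq : Commute q s := Subgroup.mem_centralizer_singleton_iff.1 (q₀ : L).2
  have hCq : Nat.card Cq = 10 := by
    refine (card_centralizer_five hG hq).resolve_left fun h => ?_
    have := Subgroup.orderOf_dvd_natCard Cq (Subgroup.mem_centralizer_singleton_iff.2 hsq.eq.symm)
    rw [h, hs] at this; norm_num at this
  have hCL : Cq.subgroupOf L ≤ NL := by
    intro n hn
    have hc : Commute (n : G) q := Subgroup.mem_centralizer_singleton_iff.1 (Subgroup.mem_subgroupOf.1 hn)
    refine Subgroup.mem_normalizer_iff.2 fun x => ?_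
    have key : ∀ x ∈ (Q : Subgroup L), n * x * n⁻¹ = x := by
      intro x hx
      have : (x : G) ∈ Subgroup.zpowers q := hQz ▸ ⟨x, hx, rfl⟩
      obtain ⟨k, hk⟩ := this
      apply Subtype.ext
      show (n : G) * x * (n : G)⁻¹ = x
      rw [← hk, (hc.zpow_right k).eq, mul_inv_cancel_right]
    constructor
    · intro hx; rwa [key x hx]
    · intro hx
      have h' := key _ hx
      have h'' : n * x * n⁻¹ = x := by
        have := congrArg (fun z => n⁻¹ * z * n) h'
        simpa [mul_assoc] using this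
      rwa [h''] at hx
  have hle : Cq ≤ L := by
    intro g hg
    -- `C(q)` is cyclic of order 10, generated by `q` and `s`
    have hsC : s ∈ Cq := Subgroup.mem_centralizer_singleton_iff.2 hsq.eq.symm
    have hqs : orderOf (q * s) = 10 := by
      rw [hsq.orderOf_mul_eq_mul_orderOf_of_coprime (by rw [hq, hs]; norm_num), hq, hs]
    have heq : Subgroup.zpowers (q * s) = Cq := Subgroup.eq_of_le_of_card_ge
      (Subgroup.zpowers_le.2 (mul_mem (Subgroup.mem_centralizer_singleton_iff.2 rfl) hsC))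
      (by rw [hCq, Nat.card_zpowers, hqs])
    have hmem : q * s ∈ L := mul_mem (q₀ : L).2 (Subgroup.mem_centralizer_singleton_iff.2 rfl)
    exact Subgroup.zpowers_le.2 hmem (heq.ge hg)
  have hNC : NL ≤ Subgroup.centralizer ((Q : Subgroup L) : Set L) := by
    have heq : Cq.subgroupOf L = NL := Subgroup.eq_of_le_of_card_ge hCL (by
      rw [hn5.2, Nat.card_congr (Subgroup.subgroupOfEquivOfLe hle).toEquiv, hCq])
    intro n hn x hx
    rw [← heq] at hn
    have hc : Commute (n : G) q := Subgroup.mem_centralizer_singleton_iff.1 (Subgroup.mem_subgroupOf.1 hn)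
    obtain ⟨k, hk⟩ : (x : G) ∈ Subgroup.zpowers q := hQz ▸ ⟨x, hx, rfl⟩
    apply Subtype.ext
    show (x : G) * n = n * x
    rw [← hk]
    exact (hc.zpow_right k).eq.symm
  set H := (MonoidHom.transferSylow Q hNC).ker with hH
  have hcomp := MonoidHom.ker_transferSylow_isComplement' Q hNC
  rw [← hH] at hcomp
  have hH72 : Nat.card H = 72 := by
    have := hcomp.card_mul
    rw [hQ5, hL] at this
    omega
  have hHidx : H.index = 5 := hcomp.symm.index_eq_card.trans hQ5
  set Hg := H.map L.subtype with hHg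
  have hHg72 : Nat.card Hg = 72 := by
    rw [hHg, Subgroup.card_map_of_injective (Subgroup.subtype_injective L), hH72]
  have hMH : Subgroup.normalizer ((P : Subgroup G) : Set G) ≤ Hg := by
    intro m hm
    refine ⟨⟨m, hMs hm⟩, ?_, rfl⟩
    haveI : H.Normal := MonoidHom.normal_ker _
    have h5 : orderOf (QuotientGroup.mk' H ⟨m, hMs hm⟩) ∣ 5 := by
      have := orderOf_dvd_natCard (QuotientGroup.mk' H ⟨m, hMs hm⟩)
      rwa [← Subgroup.index_eq_card, hHidx] at this
    have h36 : orderOf (QuotientGroup.mk' H ⟨m, hMs hm⟩) ∣ 36 := by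
      refine (orderOf_map_dvd _ _).trans ?_
      rw [Subgroup.orderOf_mk, ← hM]
      exact Subgroup.orderOf_dvd_natCard _ hm
    exact (QuotientGroup.eq_one_iff _).1 (orderOf_eq_one_iff.1
      (Nat.eq_one_of_dvd_coprimes (by norm_num : Nat.Coprime 5 36) h5 h36))
  obtain ⟨hc1, hc2⟩ := orbit_count P (Subgroup.le_normalizer.trans hMH)
  rw [inf_eq_right.2 hMH, hM, hHg72] at hc1
  omega

theorem false_of_thirtySix (hG : Cfsg.IsM11 G) (P : Sylow 3 G)
    (hM : Nat.card (Subgroup.normalizer ((P : Subgroup G) : Set G)) = 36)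
    (h2 : 2 ∣ Nat.card (Subgroup.centralizer ((P : Subgroup G) : Set G))) : False := by
  classical
  obtain ⟨s, hs, hPs, hMs, hC18, huni⟩ := thirtySix_setup hG P hM h2
  haveI := hG.1
  set L := Subgroup.centralizer ({s} : Set G) with hLdef
  obtain ⟨hmul, hmod⟩ := orbit_count P hPs
  rw [inf_eq_right.2 hMs, hM] at hmul
  set k := (MulAction.orbit L P).ncard with hk
  have hd : k * 36 ∣ 220 * 36 := by
    rw [hmul, show 220 * 36 = Nat.card G by rw [hG.2]]
    exact Subgroup.card_subgroup_dvd_card _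
  have hk220 : k ∣ 220 := Nat.dvd_of_mul_dvd_mul_right (by norm_num) hd
  have h11 : ¬ 11 ∣ k := fun h => by
    have := orderOf_dvd_eleven hG (g := s) (by
      show 11 ∣ Nat.card L
      rw [← hmul]; exact dvd_mul_of_dvd_left h _)
    rw [hs] at this; norm_num at this
  have hk20 : k ∣ 20 := ((Nat.Prime.coprime_iff_not_dvd (by norm_num)).2 h11).symm.dvd_of_dvd_mul_right
    (show k ∣ 20 * 11 from hk220)
  have hcases : k = 1 ∨ k = 4 ∨ k = 10 := by
    have hmem : k ∈ (Nat.divisors 20).filter (fun n => n % 3 = 1) :=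
      Finset.mem_filter.2 ⟨Nat.mem_divisors.2 ⟨hk20, by norm_num⟩, hmod⟩
    rw [show (Nat.divisors 20).filter (fun n => n % 3 = 1) = {1, 4, 10} by decide +kernel] at hmem
    simpa using hmem
  rcases hcases with h | h | h <;> rw [h] at hmul
  · exact false_of_small_centralizer hG hs (by show Nat.card L = 36; omega)
  swap
  · exact false_of_ten hG P hM hs hMs (by show Nat.card L = 360; omega)
  -- the case of a centralizer of order 144
  have hL : Nat.card L = 144 := by omega
  have hpair : ∀ g : G, ((g • P : Sylow 3 G) : Subgroup G) ≤ Subgroup.centralizer ({g * s * g⁻¹} : Set G) :=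
    fun g => conj_le_centralizer hPs g
  have huniq : ∀ (R : Sylow 3 G) (u v : G), orderOf u = 2 → orderOf v = 2 →
      u ∈ Subgroup.centralizer ((R : Subgroup G) : Set G) →
      v ∈ Subgroup.centralizer ((R : Subgroup G) : Set G) → u = v := by
    intro R u v hu hv huR hvR
    obtain ⟨g, rfl⟩ := MulAction.exists_smul_eq G P R
    have key : ∀ u : G, orderOf u = 2 →
        u ∈ Subgroup.centralizer (((g • P : Sylow 3 G) : Subgroup G) : Set G) → u = g * s * g⁻¹ := by
      intro u hu huR
      have h1 : g⁻¹ * u * g ∈ Subgroup.centralizer ((P : Subgroup G) : Set G) := by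
        have := conj_le_centralizer (mem_centralizer_sylow_iff.1 huR) g⁻¹
        rw [inv_inv, inv_smul_smul] at this
        exact mem_centralizer_sylow_iff.2 this
      have := huni _ h1 (by rw [← hu]; simpa using H26.orderOf_conj_eq g⁻¹ u)
      rw [← this]; group
    rw [key u hu huR, key v hv hvR]
  have hso : ∀ u, IsConj s u → orderOf u = 2 := fun u hu => by rw [← H26.isConj_orderOf hu, hs]
  have hU : ∀ u v : G, IsConj s u → IsConj s v → ∀ Q R : Sylow 3 G,
      (Q : Subgroup G) ≤ Subgroup.centralizer ({u} : Set G) →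
      (R : Subgroup G) ≤ Subgroup.centralizer ({v} : Set G) →
      ∀ x ∈ (Q : Subgroup G), x ∈ (R : Subgroup G) → x ≠ 1 → u = v := by
    intro u v hu hv Q R hQ hR x hxQ hxR hx1
    exact huniq R u v (hso u hu) (hso v hv)
      (mem_centralizer_of_meet hG (hso u hu) Q R (mem_centralizer_sylow_iff.2 hQ) hxQ hxR hx1)
      (mem_centralizer_sylow_iff.2 hR)
  refine false_of_class hG hs hL hU fun u hu => ?_
  obtain ⟨g, rfl⟩ := isConj_iff.1 hu
  -- four Sylow 3-subgroups of `C(u)` with a common subgroup of order 3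
  set u := g * s * g⁻¹ with hudef
  set Pu := g • P with hPu
  set Lu := Subgroup.centralizer ({u} : Set G) with hLu
  have hPuL : (Pu : Subgroup G) ≤ Lu := hpair g
  have hMu : Nat.card (Subgroup.normalizer ((Pu : Subgroup G) : Set G)) = 36 := by
    rw [hPu, card_normalizer_three_eq hG, hM]
  have hLu144 : Nat.card Lu = 144 := by
    have h1 := card_centralizer_mul_class u
    have h2 := card_centralizer_mul_class s
    rw [show Nat.card {z : G // IsConj u z} = Nat.card {z : G // IsConj s z} from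
      Nat.card_congr (Equiv.subtypeEquivRight fun z => ⟨hu.trans, hu.symm.trans⟩), ← h2] at h1
    rw [← hL]
    exact Nat.eq_of_mul_eq_mul_left (Nat.pos_of_ne_zero fun h => by
      rw [h, zero_mul, hG.2] at h2; omega) h1
  obtain ⟨hmulu, -⟩ := orbit_count Pu hPuL
  set O := MulAction.orbit Lu Pu with hO
  have hO4 : O.ncard = 4 := by
    have hd : Nat.card ↥(Lu ⊓ Subgroup.normalizer ((Pu : Subgroup G) : Set G)) ≤ 36 :=
      hMu ▸ Nat.le_of_dvd Nat.card_pos (Subgroup.card_dvd_of_le inf_le_right)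
    have hle : Subgroup.normalizer ((Pu : Subgroup G) : Set G) ≤ Lu := by
      intro m hm
      have hm' : g⁻¹ * m * g ∈ Subgroup.normalizer ((P : Subgroup G) : Set G) := by
        refine Sylow.smul_eq_iff_mem_normalizer.1 ?_
        rw [mul_smul, mul_smul, ← hPu, Sylow.smul_eq_iff_mem_normalizer.2 hm, hPu, inv_smul_smul]
      have := (commute_conj_iff g _ _).2 (Subgroup.mem_centralizer_singleton_iff.1 (hMs hm') :
        Commute (g⁻¹ * m * g) s)
      refine Subgroup.mem_centralizer_singleton_iff.2 ?_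
      simpa [mul_assoc, hudef] using this.eq
    rw [inf_eq_right.2 hle, hMu, hLu144] at hmulu
    omega
  have hOle : ∀ R ∈ O, (R : Subgroup G) ≤ Lu := by
    rintro R ⟨⟨l, hl⟩, rfl⟩
    show ((l • Pu : Sylow 3 G) : Subgroup G) ≤ Lu
    have h := conj_le_centralizer hPuL l
    rwa [show l * u * l⁻¹ = u from mul_inv_eq_iff_eq_mul.2 (Subgroup.mem_centralizer_singleton_iff.1 hl)] at h
  obtain ⟨R, hRO, hRne⟩ : ∃ R ∈ O, R ≠ Pu := by
    by_contra hcon
    push Not at hcon
    have : O ⊆ {Pu} := fun R hR => hcon R hR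
    have := Set.ncard_le_ncard this
    rw [hO4, Set.ncard_singleton] at this
    omega
  -- the orbit of `R` under `Pu`
  set T := MulAction.orbit (Pu : Subgroup G) R with hT
  have hTsub : T ⊆ O \ {Pu} := by
    rintro - ⟨⟨q, hq⟩, rfl⟩
    obtain ⟨l, rfl⟩ := hRO
    refine ⟨⟨⟨q, hPuL hq⟩ * l, mul_smul q (l : G) Pu⟩, fun h => hRne ?_⟩
    show l • Pu = Pu
    rw [Set.mem_singleton_iff] at h
    change q • (l • Pu) = Pu at h
    exact smul_left_cancel q
      (h.trans (Sylow.smul_eq_iff_mem_normalizer.2 (Subgroup.le_normalizer hq)).symm)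
  have hT3 : (O \ {Pu}).ncard = 3 := by
    rw [Set.ncard_sdiff_singleton_of_mem (MulAction.mem_orbit_self Pu), hO4]
  set Y := (Pu : Subgroup G) ⊓ (R : Subgroup G) with hY
  have hstab : Nat.card (MulAction.stabilizer (Pu : Subgroup G) R) = Nat.card Y := by
    rw [← Subgroup.card_map_of_injective (Subgroup.subtype_injective (Pu : Subgroup G))]
    refine congrArg (fun H : Subgroup G => Nat.card H) ?_
    ext x
    simp only [Subgroup.mem_map, hY, Subgroup.mem_inf, MulAction.mem_stabilizer_iff]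
    constructor
    · rintro ⟨q, hq, rfl⟩
      exact ⟨q.2, mem_sylow_of_smul_eq (k := 2) (by
        simpa using orderOf_dvd_iff_pow_eq_one.1 (orderOf_dvd_nine hG Pu q.2)) R hq⟩
    · rintro ⟨h1, h2⟩
      exact ⟨⟨x, h1⟩, Sylow.smul_eq_iff_mem_normalizer.2 (Subgroup.le_normalizer h2), rfl⟩
  have hTY : T.ncard * Nat.card Y = 9 := by
    rw [← hstab, hT, ← MulAction.index_stabilizer, Subgroup.index_mul_card, card_nine hG]
  have hY3 : Nat.card Y = 3 := by
    have h1 : Nat.card Y ∣ 3 ^ 2 := ⟨T.ncard, by rw [mul_comm]; exact hTY.symm⟩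
    obtain ⟨i, hi, hi'⟩ := (Nat.dvd_prime_pow Nat.prime_three).1 h1
    have hle := Set.ncard_le_ncard hTsub
    rw [hT3] at hle
    rw [hi'] at hTY ⊢
    interval_cases i
    · exfalso; simp at hTY; omega
    · rfl
    · exfalso
      have hY9 : Y = (Pu : Subgroup G) := Subgroup.eq_of_le_of_card_ge inf_le_left (by
        rw [card_nine hG, hi']; norm_num)
      exact hRne (Sylow.ext (Subgroup.eq_of_le_of_card_ge (hY9 ▸ inf_le_right)
        (by rw [card_nine hG, card_nine hG])).symm)
  have hTeq : T = O \ {Pu} := Set.eq_of_subset_of_ncard_le hTsub (by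
    rw [hY3] at hTY; rw [hT3]; omega)
  obtain ⟨y₀, hy₀⟩ := exists_prime_orderOf_dvd_card' (G := Y) 3 (dvd_of_eq hY3.symm)
  set y : G := (y₀ : G) with hydef
  have hy : orderOf y = 3 := by rw [hydef, Subgroup.orderOf_coe, hy₀]
  have hy1 : y ≠ 1 := fun h => by rw [h, orderOf_one] at hy; omega
  have hyall : ∀ Q ∈ O, y ∈ (Q : Subgroup G) := by
    intro Q hQ
    by_cases h : Q = Pu
    · exact h ▸ y₀.2.1
    · have hQT : Q ∈ T := hTeq.ge ⟨hQ, h⟩
      obtain ⟨⟨q, hq⟩, rfl⟩ := hQT
      show y ∈ ((q • R : Sylow 3 G) : Subgroup G)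
      rw [Sylow.coe_subgroup_smul, Subgroup.mem_smul_pointwise_iff_exists]
      refine ⟨y, y₀.2.2, ?_⟩
      show q * y * q⁻¹ = y
      rw [sylow_three_comm hG Pu q hq y y₀.2.1, mul_inv_cancel_right]
  refine ⟨Pu, hPuL, y, y₀.2.1, hy, fun a ha hne hc => ?_⟩
  have haa : a * a = 1 := H26.mul_self_of_orderOf_two (hso a ha)
  have hai : a⁻¹ = a := inv_eq_of_mul_eq_one_right haa
  have haL : a ∈ Lu := Subgroup.mem_centralizer_singleton_iff.2 hc.eq
  have hmem : ∀ Q ∈ O, a * y * a ∈ (Q : Subgroup G) := by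
    intro Q hQ
    have hQ' : a • Q ∈ O := by
      obtain ⟨l, rfl⟩ := hQ
      exact ⟨⟨a, haL⟩ * l, mul_smul a (l : G) Pu⟩
    have := hyall _ hQ'
    rw [Sylow.coe_subgroup_smul, Subgroup.mem_smul_pointwise_iff_exists] at this
    obtain ⟨z, hz, hzy⟩ := this
    have hz' : a * z * a⁻¹ = y := hzy
    rw [← hz', hai]
    simp only [← mul_assoc, haa, one_mul]
    rwa [mul_assoc, haa, mul_one]
  rw [zpowers_eq_of_prime hY3 y₀.2 hy1]
  exact ⟨hmem Pu (MulAction.mem_orbit_self Pu), hmem R hRO⟩

/-- The Sylow 3-subgroups are self-centralizing. -/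
theorem centralizer_three (hG : Cfsg.IsM11 G) (P : Sylow 3 G) :
    Subgroup.centralizer ((P : Subgroup G) : Set G) = P := by
  have hle := le_centralizer_three hG P
  set C := Subgroup.centralizer ((P : Subgroup G) : Set G) with hC
  have hmul := card_sylow_mul hG P
  have hdvd : Nat.card C ∣ Nat.card (Subgroup.normalizer ((P : Subgroup G) : Set G)) :=
    Subgroup.card_dvd_of_le (Subgroup.centralizer_le_normalizer _)
  by_contra hne
  have h9 := Subgroup.card_dvd_of_le hle
  rw [card_nine hG P] at h9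
  have hne9 : Nat.card C ≠ 9 := fun h =>
    hne (Subgroup.eq_of_le_of_card_ge hle (by rw [h, card_nine hG P])).symm
  obtain ⟨m, hm⟩ := h9
  have h2 : ∀ N, Nat.card (Subgroup.normalizer ((P : Subgroup G) : Set G)) = 9 * N → N ∣ 16 → 2 ∣ Nat.card C := by
    intro N hN hN16
    rw [hN, hm] at hdvd
    have hm16 : m ∣ 2 ^ 4 := (Nat.dvd_of_mul_dvd_mul_left (by norm_num : 0 < 9) hdvd).trans hN16
    obtain ⟨i, hi, rfl⟩ := (Nat.dvd_prime_pow Nat.prime_two).1 hm16
    cases i with
    | zero => exact absurd (by rw [hm]; norm_num) hne9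
    | succ i => exact ⟨9 * 2 ^ i, by rw [hm]; ring⟩
  rcases card_sylow_three_or hG with h | h <;> rw [h] at hmul
  · exact false_of_fiftyFive hG P (by omega) (h2 16 (by omega) dvd_rfl)
  · exact false_of_thirtySix hG P (by omega) (h2 4 (by omega) (by norm_num))

end Cfsg.Agent.H69.M11
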