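import Cfsg.Prelude.Def_Sporadic
import Cfsg.Agent.H69.M11.Tools
import Mathlib.Tactic

/-!
Sylow numbers and normalizers in a simple group of order 7920.
-/

set_option autoImplicit false

namespace Cfsg.Agent.H69.M11

open Subgroup MulAction

instance factEleven : Fact (Nat.Prime 11) := ⟨by norm_num⟩

variable {G : Type*} [Group G] [Finite G]

theorem not_comm (hG : Cfsg.IsM11 G) : ¬ IsMulCommutative G := by
  intro h
  haveI := hG.1
  letI : CommGroup G := { (inferInstance : Group G) with mul_comm := h.is_comm.comm }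
  haveI : IsSimpleGroup G := hG.1
  have := IsSimpleGroup.prime_card (α := G)
  rw [hG.2] at this
  norm_num at this

theorem card_sylow_eq {p k : ℕ} [hp : Fact p.Prime] (hG : Cfsg.IsM11 G) (hk : p ^ k ∣ 7920)
    (hk' : ¬ p ^ (k + 1) ∣ 7920) (P : Sylow p G) : Nat.card (P : Subgroup G) = p ^ k := by
  obtain ⟨m, hm⟩ := P.2.exists_card_eq
  have h1 : p ^ m ∣ 7920 := by rw [← hm, ← hG.2]; exact Subgroup.card_subgroup_dvd_card _
  have h2 : p ^ k ∣ Nat.card (P : Subgroup G) := P.pow_dvd_card_of_pow_dvd_card (by rw [hG.2]; exact hk)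
  rw [hm] at h2
  have h3 : k ≤ m := (Nat.pow_dvd_pow_iff_le_right hp.out.one_lt).1 h2
  have h4 : m ≤ k := by
    by_contra hc
    exact hk' ((Nat.pow_dvd_pow p (by omega)).trans h1)
  rw [hm, le_antisymm h4 h3]

theorem card_sylow_mul {p : ℕ} [Fact p.Prime] (hG : Cfsg.IsM11 G) (P : Sylow p G) :
    Nat.card (Sylow p G) * Nat.card (Subgroup.normalizer ((P : Subgroup G) : Set G)) = 7920 := by
  rw [P.card_eq_index_normalizer, ← hG.2]
  exact Subgroup.index_mul_card _

theorem card_sylow_mem {p k : ℕ} [hp : Fact p.Prime] (hG : Cfsg.IsM11 G) (hk : p ^ k ∣ 7920)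
    (hk' : ¬ p ^ (k + 1) ∣ 7920) :
    Nat.card (Sylow p G) ∈ (Nat.divisors (7920 / p ^ k)).filter (fun n => n % p = 1) := by
  obtain ⟨P⟩ := (inferInstance : Nonempty (Sylow p G))
  have hP := card_sylow_eq hG hk hk' P
  have hd := P.card_dvd_index
  have hi : (P : Subgroup G).index = 7920 / p ^ k := by
    have h := (P : Subgroup G).index_mul_card
    rw [hG.2, hP] at h
    rw [← h, Nat.mul_div_cancel _ (pow_pos hp.out.pos k)]
  rw [hi] at hd
  refine Finset.mem_filter.2 ⟨Nat.mem_divisors.2 ⟨hd, ?_⟩, ?_⟩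
  · exact (Nat.div_pos (Nat.le_of_dvd (by norm_num) hk) (pow_pos hp.out.pos k)).ne'
  · have := card_sylow_modEq_one p G
    rwa [Nat.ModEq, Nat.mod_eq_of_lt hp.out.one_lt] at this

theorem one_lt_card_sylow {p : ℕ} [hp : Fact p.Prime] (hG : Cfsg.IsM11 G) (hd : p ∣ 7920) :
    1 < Nat.card (Sylow p G) := by
  haveI := hG.1
  obtain ⟨P⟩ := (inferInstance : Nonempty (Sylow p G))
  rcases Nat.lt_or_ge 1 (Nat.card (Sylow p G)) with h | h
  · exact h
  exfalso
  have hc : Nat.card (Sylow p G) = 1 := le_antisymm h Nat.card_pos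
  have hn := card_sylow_mul hG P
  rw [hc, one_mul] at hn
  have htop : Subgroup.normalizer ((P : Subgroup G) : Set G) = ⊤ :=
    Subgroup.eq_top_of_card_eq _ (by rw [hn, hG.2])
  have hN : (P : Subgroup G).Normal := Subgroup.normalizer_eq_top_iff.1 htop
  rcases hN.eq_bot_or_eq_top with h' | h'
  · exact P.ne_bot_of_dvd_card (by rw [hG.2]; exact hd) h'
  · have hP : IsPGroup p G := by
      have := P.2
      rw [h'] at this
      exact this.of_equiv Subgroup.topEquiv
    obtain ⟨n, hn'⟩ := hP.exists_card_eq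
    rw [hG.2] at hn'
    have h2 := (Nat.prime_dvd_prime_iff_eq (Nat.prime_two) hp.out).1
      ((Nat.prime_two).dvd_of_dvd_pow (hn' ▸ (by norm_num : 2 ∣ 7920)))
    have h3 := (Nat.prime_dvd_prime_iff_eq (Nat.prime_three) hp.out).1
      ((Nat.prime_three).dvd_of_dvd_pow (hn' ▸ (by norm_num : 3 ∣ 7920)))
    omega

theorem card_eleven (hG : Cfsg.IsM11 G) (P : Sylow 11 G) : Nat.card (P : Subgroup G) = 11 := by
  simpa using card_sylow_eq (k := 1) hG (by norm_num) (by norm_num) P

theorem orbit_eleven_injOn {x : G} (hx : orderOf x = 11) {Q : Sylow 11 G}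
    (hQ : x ∉ (Q : Subgroup G)) : Function.Injective fun i : Fin 11 => x ^ (i : ℕ) • Q := by
  intro i j h
  simp only at h
  have key : ∀ a b : ℕ, a ≤ b → b < 11 → x ^ a • Q = x ^ b • Q → a = b := by
    intro a b hab hb h
    by_contra hne
    have h1 : x ^ (b - a) • Q = Q := by
      have : x ^ b = x ^ a * x ^ (b - a) := by rw [← pow_add]; congr 1; omega
      rw [this, mul_smul] at h
      exact (smul_left_cancel _ h).symm
    refine hQ (mem_sylow_of_smul_eq (k := 1) (by rw [pow_one, ← hx, pow_orderOf_eq_one]) Q ?_)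
    have hcop : Nat.Coprime (b - a) (orderOf x) := by
      rw [hx]
      exact ((Nat.Prime.coprime_iff_not_dvd (by norm_num)).2 (fun hd => by
        have := Nat.le_of_dvd (by omega) hd
        omega)).symm
    obtain ⟨m, hm⟩ := exists_pow_eq_self_of_coprime hcop
    have hmem : x ^ (b - a) ∈ MulAction.stabilizer G Q := h1
    have := (MulAction.stabilizer G Q).pow_mem hmem m
    rwa [hm] at this
  rcases le_total (i : ℕ) j with hij | hij
  · exact Fin.ext (key _ _ hij j.2 h)
  · exact Fin.ext (key _ _ hij i.2 h.symm).symm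

/-- The number of Sylow 11-subgroups is not 12. -/
theorem card_sylow_eleven_ne_twelve (hG : Cfsg.IsM11 G) : Nat.card (Sylow 11 G) ≠ 12 := by
  classical
  intro hn
  haveI := hG.1
  haveI := Fintype.ofFinite (Sylow 11 G)
  obtain ⟨P⟩ := (inferInstance : Nonempty (Sylow 11 G))
  have hN : Nat.card (Subgroup.normalizer ((P : Subgroup G) : Set G)) = 660 := by
    have := card_sylow_mul hG P; rw [hn] at this; omega
  have hdvd := card_normalizer_dvd (P : Subgroup G) (card_eleven hG P)
  rw [hN] at hdvd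
  have h3 : 3 ∣ Nat.card (Subgroup.centralizer ((P : Subgroup G) : Set G)) := by
    refine (Nat.Coprime.dvd_mul_right (by norm_num : Nat.Coprime 3 (11 - 1))).1 ?_
    exact (by norm_num : 3 ∣ 660).trans hdvd
  haveI : Fact (Nat.Prime 3) := ⟨Nat.prime_three⟩
  obtain ⟨y, hy⟩ := exists_prime_orderOf_dvd_card' 3 h3
  have hy' : orderOf (y : G) = 3 := by rw [Subgroup.orderOf_coe, hy]
  obtain ⟨x, hx⟩ := exists_prime_orderOf_dvd_card' 11 (dvd_of_eq (card_eleven hG P).symm)
  have hx' : orderOf (x : G) = 11 := by rw [Subgroup.orderOf_coe, hx]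
  have hxP : Subgroup.zpowers (x : G) = P := zpowers_eq_of_prime (card_eleven hG P) x.2
    (fun h => by rw [h, orderOf_one] at hx'; omega)
  have hxy : Commute (y : G) (x : G) := (y.2 (x : G) x.2).symm
  have hyP : (y : G) • P = P := by
    rw [Sylow.smul_eq_iff_mem_normalizer]
    exact Subgroup.centralizer_le_normalizer _ y.2
  have horb : ∀ Q : Sylow 11 G, Q ≠ P → (x : G) ∉ (Q : Subgroup G) := fun Q hQ h => hQ <| by
    apply Sylow.ext
    rw [← hxP]
    exact (zpowers_eq_of_prime (card_eleven hG Q) h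
      (fun h => by rw [h, orderOf_one] at hx'; omega)).symm
  obtain ⟨Q, hQ⟩ : ∃ Q : Sylow 11 G, Q ≠ P :=
    Fintype.exists_ne_of_one_lt_card (by rw [← Nat.card_eq_fintype_card, hn]; norm_num) P
  have himg : (Finset.univ.image fun i : Fin 11 => (x : G) ^ (i : ℕ) • Q) = Finset.univ.erase P := by
    refine Finset.eq_of_subset_of_card_le ?_ ?_
    · intro R hR
      obtain ⟨i, -, rfl⟩ := Finset.mem_image.1 hR
      refine Finset.mem_erase.2 ⟨fun h => hQ ?_, Finset.mem_univ _⟩
      have hxfix : ((x : G) ^ (i : ℕ))⁻¹ • P = P := by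
        rw [Sylow.smul_eq_iff_mem_normalizer]
        exact Subgroup.le_normalizer (inv_mem (pow_mem x.2 _))
      rw [← inv_smul_smul ((x : G) ^ (i : ℕ)) Q, h, hxfix]
    · rw [Finset.card_image_of_injective _ (orbit_eleven_injOn hx' (horb Q hQ)),
        Finset.card_erase_of_mem (Finset.mem_univ _), Finset.card_univ, Finset.card_univ,
        ← Nat.card_eq_fintype_card, hn, Fintype.card_fin]
  have hyQ : (y : G) • Q ∈ Finset.univ.erase P := by
    refine Finset.mem_erase.2 ⟨fun h => hQ ?_, Finset.mem_univ _⟩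
    rw [← inv_smul_smul (y : G) Q, h, inv_smul_eq_iff, hyP]
  rw [← himg] at hyQ
  obtain ⟨k, -, hk⟩ := Finset.mem_image.1 hyQ
  set z : G := ((x : G) ^ (k : ℕ))⁻¹ * y with hz
  have hzfix : ∀ R : Sylow 11 G, z • R = R := by
    intro R
    by_cases hR : R = P
    · subst hR
      rw [hz, mul_smul, hyP, Sylow.smul_eq_iff_mem_normalizer]
      exact Subgroup.le_normalizer (inv_mem (pow_mem x.2 _))
    · have hR' : R ∈ Finset.univ.erase P := Finset.mem_erase.2 ⟨hR, Finset.mem_univ _⟩
      rw [← himg] at hR'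
      obtain ⟨i, -, rfl⟩ := Finset.mem_image.1 hR'
      have hc : Commute z ((x : G) ^ (i : ℕ)) :=
        (((Commute.refl (x : G)).pow_pow _ _).inv_left).mul_left (hxy.pow_right _)
      rw [← mul_smul, hc.eq, mul_smul, hz, mul_smul, ← hk, inv_smul_smul]
  have hz1 : z = 1 := by
    by_contra hz1
    by_cases hf : MulAction.toPermHom G (Sylow 11 G) (x : G) = 1
    · have h1 := Equiv.Perm.ext_iff.1 hf Q
      refine horb Q hQ (mem_sylow_of_smul_eq (k := 1) ?_ Q h1)
      exact orderOf_dvd_iff_pow_eq_one.1 (by simp [hx'])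
    · exact hz1 ((injective_of_ne_one _ hf) (by
        rw [map_one]; exact Equiv.ext fun R => hzfix R))
  have hyx : (y : G) = (x : G) ^ (k : ℕ) := by
    rw [hz, inv_mul_eq_one] at hz1
    exact hz1.symm
  have := orderOf_pow_dvd (x := (x : G)) (k : ℕ)
  rw [← hyx, hy', hx'] at this
  norm_num at this

/-- The number of Sylow 11-subgroups is not 45. -/
theorem card_sylow_eleven_ne_fortyfive (hG : Cfsg.IsM11 G) : Nat.card (Sylow 11 G) ≠ 45 := by
  classical
  intro hn
  haveI := hG.1
  haveI : Fact (Nat.Prime 2) := ⟨Nat.prime_two⟩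
  haveI := Fintype.ofFinite (Sylow 11 G)
  obtain ⟨P⟩ := (inferInstance : Nonempty (Sylow 11 G))
  have hN : Nat.card (Subgroup.normalizer ((P : Subgroup G) : Set G)) = 176 := by
    have := card_sylow_mul hG P; rw [hn] at this; omega
  have hdvd := card_normalizer_dvd (P : Subgroup G) (card_eleven hG P)
  rw [hN] at hdvd
  have h8 : 2 ^ 3 ∣ Nat.card (Subgroup.centralizer ((P : Subgroup G) : Set G)) := by
    have h := (by norm_num : 16 ∣ 176).trans hdvd
    omega
  obtain ⟨T, hT⟩ := Sylow.exists_subgroup_card_pow_prime 2 h8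
  obtain ⟨x, hx⟩ := exists_prime_orderOf_dvd_card' 11 (dvd_of_eq (card_eleven hG P).symm)
  have hx' : orderOf (x : G) = 11 := by rw [Subgroup.orderOf_coe, hx]
  have hx1 : (x : G) ≠ 1 := fun h => by rw [h, orderOf_one] at hx'; omega
  have hxP : Subgroup.zpowers (x : G) = P := zpowers_eq_of_prime (card_eleven hG P) x.2 hx1
  have horb : ∀ Q : Sylow 11 G, Q ≠ P → ∀ g ∈ (P : Subgroup G), g • Q = Q → g = 1 := by
    intro Q hQ g hg hfix
    by_contra hg1
    apply hQ
    apply Sylow.ext
    have hmem := mem_sylow_of_smul_eq (k := 1) (by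
      rw [pow_one, ← card_eleven hG P, ← orderOf_dvd_iff_pow_eq_one]
      exact Subgroup.orderOf_dvd_natCard _ hg) Q hfix
    rw [← zpowers_eq_of_prime (card_eleven hG Q) hmem hg1, zpowers_eq_of_prime (card_eleven hG P) hg hg1]
  let T' : Subgroup G := T.map (Subgroup.centralizer ((P : Subgroup G) : Set G)).subtype
  have hT' : Nat.card T' = 2 ^ 3 := by
    rw [Subgroup.card_map_of_injective (Subgroup.subtype_injective _), hT]
  have hT'C : ∀ g ∈ T', g ∈ Subgroup.centralizer ((P : Subgroup G) : Set G) := by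
    rintro g ⟨c, -, rfl⟩; exact c.2
  have hT'P : ∀ g ∈ T', g • P = P := fun g hg =>
    Sylow.smul_eq_iff_mem_normalizer.2 (Subgroup.centralizer_le_normalizer _ (hT'C g hg))
  let S : Set (Sylow 11 G) := {Q | Q ≠ P}
  have hS : Nat.card S = 44 := by
    rw [Nat.card_coe_set_eq, show S = ({P} : Set (Sylow 11 G))ᶜ from rfl, Set.ncard_compl,
      Set.ncard_singleton, hn]
  have hfree : ∀ g ∈ T', ∀ Q ∈ S, g • Q = Q → g = 1 := by
    intro g hg Q hQ hgQ
    by_contra hg1
    -- replace `g` by the involution in the group it generates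
    obtain ⟨s, hsT, hs2, hsQ⟩ : ∃ s ∈ T', orderOf s = 2 ∧ s • Q = Q := by
      have h1 : orderOf g ∣ 2 ^ 3 := hT' ▸ Subgroup.orderOf_dvd_natCard _ hg
      obtain ⟨j, hj, hgo⟩ := (Nat.dvd_prime_pow Nat.prime_two).1 h1
      cases j with
      | zero => exact absurd (orderOf_eq_one_iff.1 (by simpa using hgo)) hg1
      | succ j =>
        refine ⟨g ^ 2 ^ j, pow_mem hg _, ?_, (MulAction.stabilizer G Q).pow_mem hgQ _⟩
        rw [orderOf_pow, hgo, Nat.gcd_eq_right (pow_dvd_pow 2 (Nat.le_succ j)),
          Nat.pow_div (Nat.le_succ j) (by norm_num)]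
        simp
    set σ : Equiv.Perm (Sylow 11 G) := MulAction.toPerm s with hσ
    have hσ2 : σ ^ 2 = 1 := by
      ext R
      rw [pow_two, Equiv.Perm.mul_apply, hσ, MulAction.toPerm_apply, MulAction.toPerm_apply,
        ← mul_smul, ← pow_two, ← hs2, pow_orderOf_eq_one, one_smul, Equiv.Perm.one_apply]
    have h4 := four_dvd_support σ hσ2 (sign_toPerm (not_comm hG) s)
    have hmem : ∀ R, R ∈ σ.support ↔ s • R ≠ R := fun R => by simp [hσ, Equiv.Perm.mem_support]
    have h11 : 11 ∣ σ.support.card := by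
      have h := dvd_card_of_free (P : Subgroup G) {R | s • R ≠ R} (fun p hp R hR => ?_)
        (fun p hp R hR hfix => horb R ?_ p hp hfix)
      · rw [card_eleven hG P] at h
        convert h using 1
        rw [Nat.card_coe_set_eq, ← Set.ncard_coe_finset]
        congr 1
        ext R; simp [hmem]
      · have hc : p * s = s * p := hT'C s hsT p hp
        intro he
        apply hR
        rw [← mul_smul, ← hc, mul_smul] at he
        exact smul_left_cancel p he
      · intro he
        exact hR (he ▸ hT'P s hsT)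
    have hle : σ.support.card ≤ 43 := by
      have hsub : σ.support ⊆ (Finset.univ.erase P).erase Q := by
        intro R hR
        rw [hmem] at hR
        refine Finset.mem_erase.2 ⟨fun h => hR (h ▸ hsQ), Finset.mem_erase.2
          ⟨fun h => hR (h ▸ hT'P s hsT), Finset.mem_univ _⟩⟩
      have := Finset.card_le_card hsub
      rw [Finset.card_erase_of_mem (Finset.mem_erase.2 ⟨hQ, Finset.mem_univ _⟩),
        Finset.card_erase_of_mem (Finset.mem_univ _), Finset.card_univ, ← Nat.card_eq_fintype_card,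
        hn] at this
      omega
    have h0 : σ.support.card ≠ 0 := by
      intro h
      rw [Finset.card_eq_zero, Equiv.Perm.support_eq_empty_iff] at h
      refine Sylow.ne_bot_of_dvd_card P (by rw [hG.2]; norm_num) ?_
      exfalso
      by_cases hf : MulAction.toPermHom G (Sylow 11 G) (x : G) = 1
      · exact hx1 (horb Q hQ _ x.2 (Equiv.Perm.ext_iff.1 hf Q))
      · have hs1 : s = 1 := injective_of_ne_one _ hf (by rw [map_one]; exact h)
        rw [hs1, orderOf_one] at hs2
        omega
    omega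
  have := dvd_card_of_free T' S (fun g hg Q hQ h => hQ (by
    rw [← hT'P g hg] at h; exact smul_left_cancel g h)) hfree
  rw [hT', hS] at this
  norm_num at this

/-- There are 144 Sylow 11-subgroups. -/
theorem card_sylow_eleven (hG : Cfsg.IsM11 G) : Nat.card (Sylow 11 G) = 144 := by
  have h := card_sylow_mem (p := 11) (k := 1) hG (by norm_num) (by norm_num)
  have h1 := one_lt_card_sylow (p := 11) hG (by norm_num)
  have h2 := card_sylow_eleven_ne_twelve hG
  have h3 := card_sylow_eleven_ne_fortyfive hG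
  rw [show (Nat.divisors (7920 / 11 ^ 1)).filter (fun n => n % 11 = 1) = {1, 12, 45, 144} by decide +kernel] at h
  simp only [Finset.mem_insert, Finset.mem_singleton] at h
  omega

theorem card_normalizer_eleven (hG : Cfsg.IsM11 G) (P : Sylow 11 G) :
    Nat.card (Subgroup.normalizer ((P : Subgroup G) : Set G)) = 55 := by
  have := card_sylow_mul hG P
  rw [card_sylow_eleven hG] at this
  omega

/-- The Sylow 11-subgroups are self-centralizing. -/
theorem centralizer_eleven (hG : Cfsg.IsM11 G) (P : Sylow 11 G) :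
    Subgroup.centralizer ((P : Subgroup G) : Set G) = P := by
  haveI := hG.1
  haveI : IsCyclic (P : Subgroup G) := isCyclic_of_prime_card (card_eleven hG P)
  have hle : (P : Subgroup G) ≤ Subgroup.centralizer ((P : Subgroup G) : Set G) := by
    intro g hg h hh
    have := (IsCyclic.commGroup (α := (P : Subgroup G))).mul_comm ⟨h, hh⟩ ⟨g, hg⟩
    exact congrArg Subtype.val this
  have hC : Subgroup.centralizer ((P : Subgroup G) : Set G) ≤ Subgroup.normalizer ((P : Subgroup G) : Set G) :=
    Subgroup.centralizer_le_normalizer _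
  have h1 := Subgroup.card_dvd_of_le hC
  have h2 := Subgroup.card_dvd_of_le hle
  rw [card_normalizer_eleven hG P] at h1
  rw [card_eleven hG P] at h2
  have hne : Nat.card (Subgroup.centralizer ((P : Subgroup G) : Set G)) ≠ 55 := fun he =>
    not_normalizer_le_centralizer (not_comm hG) (by rw [hG.2]; norm_num) P
      (Subgroup.eq_of_le_of_card_ge hC (by rw [he, card_normalizer_eleven hG P])).ge
  refine (Subgroup.eq_of_le_of_card_ge hle ?_).symm
  rw [card_eleven hG P]
  obtain ⟨m, hm⟩ := h2
  rw [hm] at h1 hne ⊢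
  have : m ∣ 5 := Nat.dvd_of_mul_dvd_mul_left (by norm_num : 0 < 11) (show 11 * m ∣ 11 * 5 from h1)
  rcases (Nat.dvd_prime (by norm_num)).1 this with rfl | rfl
  · norm_num
  · exact absurd rfl hne

end Cfsg.Agent.H69.M11
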