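import Cfsg.Agent.H69.M11.Four
import Cfsg.Agent.H69.M11.Count

/-!
The normalizer of a Sylow 3-subgroup, if it had order 36.
-/

set_option autoImplicit false

namespace Cfsg.Agent.H69.M11

open Subgroup MulAction

variable {G : Type*} [Group G] [Finite G]

/-- Conjugation by elements of a normalizer of order 36 commutes on `P`. -/
theorem conj_comm (hG : Cfsg.IsM11 G) (P : Sylow 3 G)
    (hM : Nat.card (Subgroup.normalizer ((P : Subgroup G) : Set G)) = 36) {a b q : G}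
    (ha : a ∈ Subgroup.normalizer ((P : Subgroup G) : Set G))
    (hb : b ∈ Subgroup.normalizer ((P : Subgroup G) : Set G)) (hq : q ∈ (P : Subgroup G)) :
    a * (b * q * b⁻¹) * a⁻¹ = b * (a * q * a⁻¹) * b⁻¹ := by
  set M := Subgroup.normalizer ((P : Subgroup G) : Set G)
  set ψ := (P : Subgroup G).normalizerMonoidHom
  have hk : ψ.ker = (P : Subgroup G).subgroupOf M := by
    rw [Subgroup.normalizerMonoidHom_ker, centralizer_three hG P]
  have hr : Nat.card ψ.range = 2 ^ 2 := by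
    rw [← Subgroup.index_ker, hk]
    have := ((P : Subgroup G).subgroupOf M).index_mul_card
    rw [Nat.card_congr (Subgroup.subgroupOfEquivOfLe (Subgroup.le_normalizer
      (H := (P : Subgroup G)))).toEquiv, card_nine hG, hM] at this
    omega
  haveI : Fact (Nat.Prime 2) := ⟨Nat.prime_two⟩
  have hc := IsPGroup.isMulCommutative_of_card_eq_prime_sq (p := 2) (G := ψ.range) hr
  have h : ψ ⟨a, ha⟩ * ψ ⟨b, hb⟩ = ψ ⟨b, hb⟩ * ψ ⟨a, ha⟩ :=
    congrArg Subtype.val (hc.is_comm.comm ⟨ψ ⟨a, ha⟩, ⟨_, rfl⟩⟩ ⟨ψ ⟨b, hb⟩, ⟨_, rfl⟩⟩)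
  exact congrArg Subtype.val (MulEquiv.congr_fun h ⟨q, hq⟩)

theorem exists_inverted (hG : Cfsg.IsM11 G) (P : Sylow 3 G) (s : G) :
    ∃ I : Subgroup G, ∀ q, q ∈ I ↔ q ∈ (P : Subgroup G) ∧ s * q * s⁻¹ = q⁻¹ :=
  ⟨{ carrier := {q | q ∈ (P : Subgroup G) ∧ s * q * s⁻¹ = q⁻¹}
     one_mem' := ⟨one_mem _, by group⟩
     mul_mem' := fun {a b} ha hb => ⟨mul_mem ha.1 hb.1, by
      rw [show s * (a * b) * s⁻¹ = (s * a * s⁻¹) * (s * b * s⁻¹) by group, ha.2, hb.2, mul_inv_rev]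
      exact sylow_three_comm hG P _ (inv_mem ha.1) _ (inv_mem hb.1)⟩
     inv_mem' := fun {a} ha => ⟨inv_mem ha.1, by
      rw [show s * a⁻¹ * s⁻¹ = (s * a * s⁻¹)⁻¹ by group, ha.2]⟩ }, fun _ => Iff.rfl⟩

theorem pow_ten {P : Sylow 3 G} (hG : Cfsg.IsM11 G) {q : G} (hq : q ∈ (P : Subgroup G)) :
    q ^ 10 = q := by
  rw [show 10 = 9 + 1 from rfl, pow_succ, orderOf_dvd_iff_pow_eq_one.1 (orderOf_dvd_nine hG P hq),
    one_mul]

/-- A subgroup of `P` other than `⊥` and `P` has order 3. -/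
theorem card_three_of_le (hG : Cfsg.IsM11 G) (P : Sylow 3 G) {A : Subgroup G}
    (hle : A ≤ (P : Subgroup G)) {a : G} (ha : a ∈ A) (ha1 : a ≠ 1) {b : G}
    (hb : b ∈ (P : Subgroup G)) (hbA : b ∉ A) : Nat.card A = 3 := by
  have h := Subgroup.card_dvd_of_le hle
  rw [card_nine hG] at h
  obtain ⟨i, hi, hi'⟩ := (Nat.dvd_prime_pow Nat.prime_three).1 (show Nat.card A ∣ 3 ^ 2 from h)
  interval_cases i
  · exact absurd (by simpa [(Subgroup.card_eq_one (H := A)).1 (by simpa using hi')] using ha) ha1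
  · simpa using hi'
  · exact absurd (Subgroup.eq_of_le_of_card_ge hle (by rw [card_nine hG, hi']; norm_num) ▸ hb) hbA

theorem mul_conj_fixed {P : Sylow 3 G} (hG : Cfsg.IsM11 G) {s q : G}
    (hs : s ∈ Subgroup.normalizer ((P : Subgroup G) : Set G)) (hq : q ∈ (P : Subgroup G))
    (hss : s * (s * q * s⁻¹) * s⁻¹ = q) :
    s * (q * (s * q * s⁻¹)) * s⁻¹ = q * (s * q * s⁻¹) ∧
      s * (q * (s * q * s⁻¹)⁻¹) * s⁻¹ = (q * (s * q * s⁻¹)⁻¹)⁻¹ := by
  have hsq := (Subgroup.mem_normalizer_iff.1 hs q).1 hq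
  constructor
  · rw [show s * (q * (s * q * s⁻¹)) * s⁻¹ = (s * q * s⁻¹) * (s * (s * q * s⁻¹) * s⁻¹) by group, hss]
    exact sylow_three_comm hG P _ hsq _ hq
  · rw [show s * (q * (s * q * s⁻¹)⁻¹) * s⁻¹ = (s * q * s⁻¹) * (s * (s * q * s⁻¹) * s⁻¹)⁻¹ by group,
      hss, mul_inv_rev, inv_inv]

/-- An element of `N(P)` of order two on `P` which does not invert `P` fixes exactly 3 elements
and inverts exactly 3. -/
theorem card_fixed_inverted (hG : Cfsg.IsM11 G) (P : Sylow 3 G) {s : G}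
    (hs : s ∈ Subgroup.normalizer ((P : Subgroup G) : Set G))
    (hss : ∀ q ∈ (P : Subgroup G), s * (s * q * s⁻¹) * s⁻¹ = q) (hsP : s ∉ (P : Subgroup G))
    {I : Subgroup G} (hI : ∀ q, q ∈ I ↔ q ∈ (P : Subgroup G) ∧ s * q * s⁻¹ = q⁻¹)
    (hnot : ∃ q ∈ (P : Subgroup G), q ∉ I) :
    Nat.card ↥((P : Subgroup G) ⊓ Subgroup.centralizer ({s} : Set G)) = 3 ∧ Nat.card I = 3 := by
  set F := (P : Subgroup G) ⊓ Subgroup.centralizer ({s} : Set G)
  have hF : ∀ q, q ∈ F ↔ q ∈ (P : Subgroup G) ∧ s * q * s⁻¹ = q := fun q => by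
    rw [Subgroup.mem_inf, Subgroup.mem_centralizer_singleton_iff, mul_inv_eq_iff_eq_mul, eq_comm (a := s * q)]
  obtain ⟨a, ha, hsa⟩ : ∃ a ∈ (P : Subgroup G), s * a * s⁻¹ ≠ a := by
    by_contra h
    push Not at h
    apply hsP
    rw [← centralizer_three hG P]
    intro q hq
    exact (mul_inv_eq_iff_eq_mul.1 (h q hq)).symm
  have hna : a * (s * a * s⁻¹)⁻¹ ≠ 1 := fun h => hsa (mul_inv_eq_one.1 h).symm
  have hsm : ∀ {q}, q ∈ (P : Subgroup G) → s * q * s⁻¹ ∈ (P : Subgroup G) := fun hq =>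
    (Subgroup.mem_normalizer_iff.1 hs _).1 hq
  have haI : a * (s * a * s⁻¹)⁻¹ ∈ I :=
    (hI _).2 ⟨mul_mem ha (inv_mem (hsm ha)), (mul_conj_fixed hG hs ha (hss a ha)).2⟩
  obtain ⟨b, hb, hbI⟩ := hnot
  refine ⟨card_three_of_le hG P inf_le_left (a := b * (s * b * s⁻¹))
    ((hF _).2 ⟨mul_mem hb (hsm hb), (mul_conj_fixed hG hs hb (hss b hb)).1⟩) (fun h => hbI ((hI b).2 ⟨hb, ?_⟩))
    ha (fun h => hsa ((hF a).1 h).2), card_three_of_le hG P (fun q hq => ((hI q).1 hq).1) haI hna hb hbI⟩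
  exact eq_inv_of_mul_eq_one_right h

/-- A Sylow 3-normalizer of order 36 contains an involution inverting `P`. -/
theorem exists_inverter (hG : Cfsg.IsM11 G) (P : Sylow 3 G)
    (hM : Nat.card (Subgroup.normalizer ((P : Subgroup G) : Set G)) = 36) :
    ∃ w ∈ Subgroup.normalizer ((P : Subgroup G) : Set G),
      w * w = 1 ∧ ∀ q ∈ (P : Subgroup G), w * q * w⁻¹ = q⁻¹ := by
  classical
  set M := Subgroup.normalizer ((P : Subgroup G) : Set G) with hMdef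
  suffices h : ∃ w ∈ M, ∀ q ∈ (P : Subgroup G), w * q * w⁻¹ = q⁻¹ by
    obtain ⟨w, hw, hinv⟩ := h
    refine ⟨w, hw, ?_, hinv⟩
    have hww : w * w ∈ (P : Subgroup G) := by
      rw [← centralizer_three hG P]
      intro q hq
      have h1 : w * w * q * (w * w)⁻¹ = q := by
        rw [show w * w * q * (w * w)⁻¹ = w * (w * q * w⁻¹) * w⁻¹ by group, hinv q hq,
          hinv _ (inv_mem hq), inv_inv]
      exact (mul_inv_eq_iff_eq_mul.1 h1).symm
    have h2 := hinv _ hww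
    rw [show w * (w * w) * w⁻¹ = w * w by group] at h2
    have h3 : (w * w) ^ 2 = 1 := by rw [pow_two]; exact mul_eq_one_iff_eq_inv.2 h2
    have h9 : (w * w) ^ 9 = 1 := orderOf_dvd_iff_pow_eq_one.1 (orderOf_dvd_nine hG P hww)
    have h10 := pow_ten hG hww
    rw [show 10 = 2 * 5 from rfl, pow_mul, h3, one_pow] at h10
    exact h10.symm
  haveI : Fact (Nat.Prime 2) := ⟨Nat.prime_two⟩
  obtain ⟨s₀, hs₀⟩ := exists_prime_orderOf_dvd_card' (G := M) 2 (by rw [hM]; norm_num)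
  set s : G := (s₀ : G) with hsdef
  have hso : orderOf s = 2 := by rw [hsdef, Subgroup.orderOf_coe, hs₀]
  have hsM : s ∈ M := s₀.2
  have hs2 : s * s = 1 := H26.mul_self_of_orderOf_two hso
  have hsP : s ∉ (P : Subgroup G) := fun h => by
    have := orderOf_dvd_nine hG P h
    rw [hso] at this; norm_num at this
  have hss : ∀ q ∈ (P : Subgroup G), s * (s * q * s⁻¹) * s⁻¹ = q := fun q _ => by
    rw [show s * (s * q * s⁻¹) * s⁻¹ = s * s * q * (s * s)⁻¹ by group, hs2, inv_one, one_mul, mul_one]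
  obtain ⟨I, hI⟩ := exists_inverted hG P s
  by_cases hall : ∀ q ∈ (P : Subgroup G), q ∈ I
  · exact ⟨s, hsM, fun q hq => ((hI q).1 (hall q hq)).2⟩
  push Not at hall
  obtain ⟨hF3, hI3⟩ := card_fixed_inverted hG P hsM hss hsP hI hall
  set F := (P : Subgroup G) ⊓ Subgroup.centralizer ({s} : Set G)
  have hFs : ∀ q ∈ F, s * q * s⁻¹ = q := fun q hq => by
    rw [← Subgroup.mem_centralizer_singleton_iff.1 hq.2, mul_inv_cancel_right]
  haveI : Fact (Nat.Prime 3) := ⟨Nat.prime_three⟩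
  obtain ⟨f₀, hf₀⟩ := exists_prime_orderOf_dvd_card' (G := F) 3 (dvd_of_eq hF3.symm)
  obtain ⟨e₀, he₀⟩ := exists_prime_orderOf_dvd_card' (G := I) 3 (dvd_of_eq hI3.symm)
  set f : G := (f₀ : G) with hfdef
  set e : G := (e₀ : G) with hedef
  have hf1 : f ≠ 1 := fun h => by
    rw [show f₀ = 1 from Subtype.ext h, orderOf_one] at hf₀; norm_num at hf₀
  have he1 : e ≠ 1 := fun h => by
    rw [show e₀ = 1 from Subtype.ext h, orderOf_one] at he₀; norm_num at he₀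
  -- some element of the normalizer inverts `f`
  obtain ⟨b, hbM, hbf⟩ : ∃ b ∈ M, b * f * b⁻¹ = f⁻¹ := by
    by_contra h
    push Not at h
    apply hf1
    refine eq_one_of_central_normalizer hG P f₀.2.1 fun b hb => Subgroup.mem_centralizer_singleton_iff.2 ?_
    have hmem : b * f * b⁻¹ ∈ F := by
      refine ⟨(Subgroup.mem_normalizer_iff.1 hb f).1 f₀.2.1, Subgroup.mem_centralizer_singleton_iff.2 ?_⟩
      exact (mul_inv_eq_iff_eq_mul.1 (by rw [conj_comm hG P hM hsM hb f₀.2.1, hFs f f₀.2])).symm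
    rcases eq_or_eq_inv_of_card_three hF3 f₀.2 hf1 hmem (by rw [Ne, conj_eq_one_iff]; exact hf1) with h' | h'
    · exact mul_inv_eq_iff_eq_mul.1 h'
    · exact absurd h' (h b hb)
  have hmemI : b * e * b⁻¹ ∈ I := by
    refine (hI _).2 ⟨(Subgroup.mem_normalizer_iff.1 hbM e).1 ((hI e).1 e₀.2).1, ?_⟩
    rw [conj_comm hG P hM hsM hbM ((hI e).1 e₀.2).1, ((hI e).1 e₀.2).2]
    group
  obtain ⟨w, hwM, hwf, hwe⟩ : ∃ w ∈ M, w * f * w⁻¹ = f⁻¹ ∧ w * e * w⁻¹ = e⁻¹ := by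
    rcases eq_or_eq_inv_of_card_three hI3 e₀.2 he1 hmemI (by rw [Ne, conj_eq_one_iff]; exact he1) with h | h
    · refine ⟨s * b, mul_mem hsM hbM, ?_, ?_⟩
      · rw [show s * b * f * (s * b)⁻¹ = s * (b * f * b⁻¹) * s⁻¹ by group, hbf,
          hFs _ (inv_mem f₀.2)]
      · rw [show s * b * e * (s * b)⁻¹ = s * (b * e * b⁻¹) * s⁻¹ by group, h, ((hI e).1 e₀.2).2]
    · exact ⟨b, hbM, hbf, h⟩
  refine ⟨w, hwM, fun q hq => ?_⟩
  obtain ⟨J, hJ⟩ := exists_inverted hG P w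
  have hFJ : F ≤ J := by
    rw [← zpowers_eq_of_prime hF3 f₀.2 hf1, Subgroup.zpowers_le]
    exact (hJ f).2 ⟨f₀.2.1, hwf⟩
  have hIJ : I ≤ J := by
    rw [← zpowers_eq_of_prime hI3 e₀.2 he1, Subgroup.zpowers_le]
    exact (hJ e).2 ⟨((hI e).1 e₀.2).1, hwe⟩
  have hsq := (Subgroup.mem_normalizer_iff.1 hsM q).1 hq
  obtain ⟨h1, h2⟩ := mul_conj_fixed hG hsM hq (hss q hq)
  have hu : q * (s * q * s⁻¹) ∈ J := hFJ
    ⟨mul_mem hq hsq, Subgroup.mem_centralizer_singleton_iff.2 (mul_inv_eq_iff_eq_mul.1 h1).symm⟩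
  have hv : q * (s * q * s⁻¹)⁻¹ ∈ J := hIJ ((hI _).2 ⟨mul_mem hq (inv_mem hsq), h2⟩)
  have hqq : q * q = (q * (s * q * s⁻¹)) * (q * (s * q * s⁻¹)⁻¹) := by
    have hc := sylow_three_comm hG P q hq _ hsq
    generalize s * q * s⁻¹ = t at hc ⊢
    calc q * q = q * (q * t) * t⁻¹ := by group
      _ = q * (t * q) * t⁻¹ := by rw [hc]
      _ = q * t * (q * t⁻¹) := by group
  have : q * q ∈ J := hqq ▸ mul_mem hu hv
  have h5 := pow_mem this 5
  rw [← pow_two, ← pow_mul, pow_ten hG hq] at h5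
  exact ((hJ q).1 h5).2

end Cfsg.Agent.H69.M11
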