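import Cfsg.Agent.H69.M11.ThirtySixPair

/-!
Centralizers of 3-elements when the Sylow 3-normalizer has order 36.
-/

set_option autoImplicit false

namespace Cfsg.Agent.H69.M11

open Subgroup MulAction

variable {G : Type*} [Group G] [Finite G]

theorem perm_four_comm : ∀ σ τ : Equiv.Perm (Fin 4), σ ^ 2 = 1 → τ ^ 2 = 1 →
    Equiv.Perm.sign σ = 1 → Equiv.Perm.sign τ = 1 → σ * τ = τ * σ := by decide +kernel

theorem card_perm_four_pow : Nat.card {σ : Equiv.Perm (Fin 4) // σ ^ 8 = 1} = 16 := by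
  rw [Nat.card_eq_fintype_card]; decide +kernel

theorem eq_one_of_sq (hG : Cfsg.IsM11 G) {P : Sylow 3 G} {q : G} (hq : q ∈ (P : Subgroup G))
    (h : q * q = 1) : q = 1 := by
  rw [← pow_ten hG hq, show 10 = 2 * 5 from rfl, pow_mul, pow_two, h, one_pow]

/-- With four Sylow 3-subgroups through `x`, the kernel of the action on them is `⟨x⟩`. -/
theorem exists_four_action (hG : Cfsg.IsM11 G) (P : Sylow 3 G)
    (hM : Nat.card (Subgroup.normalizer ((P : Subgroup G) : Set G)) = 36) {x : G}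
    (hx : x ∈ (P : Subgroup G)) (hx1 : x ≠ 1)
    (h4 : (MulAction.orbit (Subgroup.centralizer ({x} : Set G)) P).ncard = 4) :
    ∃ π : Subgroup.centralizer ({x} : Set G) →* Equiv.Perm (Fin 4),
      orderOf x = 3 ∧ (∀ c, π c = 1 ↔ (c : G) ∈ Subgroup.zpowers x) ∧
      Nat.card π.range * 3 = Nat.card (Subgroup.centralizer ({x} : Set G)) ∧
      (∀ c, π c = 1 ↔
        ∀ Q ∈ MulAction.orbit (Subgroup.centralizer ({x} : Set G)) P, (c : G) • Q = Q) := by
  classical
  set C := Subgroup.centralizer ({x} : Set G)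
  set M := Subgroup.normalizer ((P : Subgroup G) : Set G)
  obtain ⟨R, hR, hRO, hx3, hPR, hcases⟩ := four_setup hG P hx hx1 h4
  obtain ⟨π, hπ⟩ := exists_hom_four P h4
  have hker : ∀ c, π c = 1 ↔ (c : G) ∈ Subgroup.zpowers x := by
    intro c
    rw [hπ]
    constructor
    · intro hfix
      have hcM : (c : G) ∈ M :=
        Sylow.smul_eq_iff_mem_normalizer.1 (hfix P (MulAction.mem_orbit_self P))
      have hcR := hfix R hRO
      by_cases hcP : (c : G) ∈ (P : Subgroup G)
      · rw [← hPR]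
        exact ⟨hcP, mem_sylow_of_smul_eq (k := 2) (by
          simpa using orderOf_dvd_iff_pow_eq_one.1 (orderOf_dvd_nine hG P hcP)) R hcR⟩
      exfalso
      set k : G := (c : G) with hk
      have hkC : k ∈ C := c.2
      have hkk : k * k ∈ (P : Subgroup G) := by
        rcases card_centralizer_inf hG P hM hx hx1 with h | h
        · exact absurd (h.2 ▸ (⟨hkC, hcM⟩ : k ∈ C ⊓ M)) hcP
        · have hle : (P : Subgroup G) ≤ C ⊓ M :=
            le_inf (le_centralizer_singleton hG P hx) Subgroup.le_normalizer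
          have hidx : ((P : Subgroup G).subgroupOf (C ⊓ M)).index = 2 := by
            have := ((P : Subgroup G).subgroupOf (C ⊓ M)).index_mul_card
            rw [Nat.card_congr (Subgroup.subgroupOfEquivOfLe hle).toEquiv, card_nine hG, h] at this
            omega
          exact (Subgroup.mul_self_mem_of_index_two hidx ⟨k, ⟨hkC, hcM⟩⟩ :)
      obtain ⟨y, hy, hyR⟩ : ∃ y ∈ (P : Subgroup G), y ∉ (R : Subgroup G) := by
        by_contra h
        push Not at h
        exact hR (Sylow.ext (Subgroup.eq_of_le_of_card_ge h (by rw [card_nine hG, card_nine hG])).symm)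
      have hky := (Subgroup.mem_normalizer_iff.1 hcM y).1 hy
      have hyP : ∀ z : G, z ∈ (P : Subgroup G) → z • R ∈ MulAction.orbit C P := fun z hz => by
        obtain ⟨l, hl⟩ := hRO
        exact ⟨⟨z, le_centralizer_singleton hG P hx hz⟩ * l, by
          show (z * (l : G)) • P = z • R
          rw [mul_smul]; exact congrArg (z • ·) hl⟩
      have hz : y⁻¹ * (k * y * k⁻¹) ∈ Subgroup.zpowers x := by
        rw [← hPR]
        refine Subgroup.mem_inf.2 ⟨mul_mem (inv_mem hy) hky, mem_sylow_of_smul_eq (k := 2) ?_ R ?_⟩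
        · simpa using orderOf_dvd_iff_pow_eq_one.1 (orderOf_dvd_nine hG P (mul_mem (inv_mem hy) hky))
        · have e1 : k⁻¹ • R = R := by rw [inv_smul_eq_iff, hcR]
          rw [mul_smul, mul_smul, e1, mul_smul, hfix _ (hyP y hy), inv_smul_smul]
      have hzP : y⁻¹ * (k * y * k⁻¹) ∈ (P : Subgroup G) := mul_mem (inv_mem hy) hky
      have hkz : k * (y⁻¹ * (k * y * k⁻¹)) * k⁻¹ = y⁻¹ * (k * y * k⁻¹) := by
        obtain ⟨i, hi⟩ := hz
        simp only at hi
        rw [← hi, ← (Commute.zpow_left (Subgroup.mem_centralizer_singleton_iff.1 hkC).symm i).eq,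
          mul_inv_cancel_right]
      have hk2 : k * (k * y * k⁻¹) * k⁻¹ = y := by
        rw [show k * (k * y * k⁻¹) * k⁻¹ = k * k * y * (k * k)⁻¹ by group,
          sylow_three_comm hG P _ hkk y hy, mul_inv_cancel_right]
      have hz1 : y⁻¹ * (k * y * k⁻¹) = 1 := by
        refine eq_one_of_sq hG hzP ?_
        conv_lhs => arg 1; rw [← hkz]
        rw [show k * (y⁻¹ * (k * y * k⁻¹)) * k⁻¹ = (k * y * k⁻¹)⁻¹ * (k * (k * y * k⁻¹) * k⁻¹) by group,
          hk2]
        group
      apply hcP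
      have hyx : y ∉ Subgroup.zpowers x := fun h => hyR (hPR.ge h).2
      have hA := eq_of_contains hG P hx1 hyx
        (inf_le_left : (P : Subgroup G) ⊓ Subgroup.centralizer ({k} : Set G) ≤ P)
        ⟨hx, Subgroup.mem_centralizer_singleton_iff.2 (Subgroup.mem_centralizer_singleton_iff.1 hkC).symm⟩
        ⟨hy, Subgroup.mem_centralizer_singleton_iff.2
          (mul_inv_eq_iff_eq_mul.1 (inv_mul_eq_one.1 hz1).symm).symm⟩
      have := mem_centralizer_sylow_iff.2 (hA.ge.trans inf_le_right)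
      rwa [centralizer_three hG P] at this
    · rintro hc - ⟨l, rfl⟩
      obtain ⟨i, hi⟩ := hc
      simp only at hi
      refine Sylow.smul_eq_iff_mem_normalizer.2 (Subgroup.le_normalizer ?_)
      show (c : G) ∈ ((l : G) • P : Sylow 3 G).toSubgroup
      rw [Sylow.coe_subgroup_smul, Subgroup.mem_smul_pointwise_iff_exists]
      refine ⟨(c : G), hi ▸ zpow_mem hx i, ?_⟩
      show (l : G) * (c : G) * (l : G)⁻¹ = c
      rw [← hi, (Commute.zpow_right (show Commute (l : G) x from
        Subgroup.mem_centralizer_singleton_iff.1 l.2) i).eq, mul_inv_cancel_right]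
  refine ⟨π, hx3, hker, ?_, hπ⟩
  have hk : π.ker = (Subgroup.zpowers x).subgroupOf C := by
    ext c; rw [MonoidHom.mem_ker, Subgroup.mem_subgroupOf, hker]
  have hle : Subgroup.zpowers x ≤ C :=
    Subgroup.zpowers_le.2 (Subgroup.mem_centralizer_singleton_iff.2 rfl)
  have := π.ker.index_mul_card
  rw [Subgroup.index_ker, hk, Nat.card_congr (Subgroup.subgroupOfEquivOfLe hle).toEquiv,
    Nat.card_zpowers, hx3] at this
  exact this

/-- A 2-element of `C(x)` is determined by its permutation of the four. -/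
theorem eq_of_action {x : G} (hx3 : orderOf x = 3)
    {π : Subgroup.centralizer ({x} : Set G) →* Equiv.Perm (Fin 4)}
    (hker : ∀ c, π c = 1 ↔ (c : G) ∈ Subgroup.zpowers x) {a b : G}
    (ha : a ∈ Subgroup.centralizer ({x} : Set G)) (hb : b ∈ Subgroup.centralizer ({x} : Set G))
    (ha2 : a ^ 16 = 1) (hb2 : b ^ 16 = 1) (he : π ⟨a, ha⟩ = π ⟨b, hb⟩) : a = b := by
  have h1 : π (⟨b, hb⟩⁻¹ * ⟨a, ha⟩) = 1 := by rw [map_mul, map_inv, he, inv_mul_cancel]
  have h2 : b⁻¹ * a ∈ Subgroup.zpowers x := (hker _).1 h1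
  have hcomm : Commute (b⁻¹ * a) b := by
    obtain ⟨i, hi⟩ := h2
    simp only at hi
    rw [← hi]
    exact Commute.zpow_left (Subgroup.mem_centralizer_singleton_iff.1 hb).symm i
  have h3 : (b * (b⁻¹ * a)) ^ 16 = b ^ 16 * (b⁻¹ * a) ^ 16 := hcomm.symm.mul_pow 16
  rw [mul_inv_cancel_left, ha2, hb2, one_mul] at h3
  have h4 : orderOf (b⁻¹ * a) ∣ 3 := by
    have := Subgroup.orderOf_dvd_natCard _ h2
    rwa [Nat.card_zpowers, hx3] at this
  have h5 := Nat.eq_one_of_dvd_coprimes (by norm_num : Nat.Coprime 16 3)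
    (orderOf_dvd_of_pow_eq_one h3.symm) h4
  exact (inv_mul_eq_one.1 (orderOf_eq_one_iff.1 h5)).symm

/-- If only `P` centralizes `x` in `N(P)`, the centralizer of `x` does not have order 36. -/
theorem centralizer_ne_thirtySix (hG : Cfsg.IsM11 G) (P : Sylow 3 G)
    (hM : Nat.card (Subgroup.normalizer ((P : Subgroup G) : Set G)) = 36) {x : G}
    (hx : x ∈ (P : Subgroup G)) (hx1 : x ≠ 1)
    (hK : Nat.card ↥(Subgroup.centralizer ({x} : Set G) ⊓ Subgroup.normalizer ((P : Subgroup G) : Set G)) = 9) :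
    Nat.card (Subgroup.centralizer ({x} : Set G)) ≠ 36 := by
  classical
  intro h36
  set C := Subgroup.centralizer ({x} : Set G) with hC
  have h4 : (MulAction.orbit C P).ncard = 4 := by
    have : (MulAction.orbit C P).ncard *
        Nat.card ↥(C ⊓ Subgroup.normalizer ((P : Subgroup G) : Set G)) = Nat.card C :=
      (orbit_count P (le_centralizer_singleton hG P hx)).1
    rw [hK, h36] at this
    omega
  obtain ⟨π, hx3, hker, hcard, -⟩ := exists_four_action hG P hM hx hx1 h4
  rw [h36] at hcard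
  have heven : ∀ c, Equiv.Perm.sign (π c) = 1 := by
    intro c
    have hidx : π.range.index = 2 := by
      have := π.range.index_mul_card
      rw [Nat.card_eq_fintype_card (α := Equiv.Perm (Fin 4)), Fintype.card_perm, Fintype.card_fin,
        show Nat.card π.range = 12 by omega] at this
      simp [Nat.factorial] at this
      omega
    rw [← Equiv.Perm.mem_alternatingGroup, ← Equiv.Perm.eq_alternatingGroup_of_index_eq_two hidx]
    exact ⟨c, rfl⟩
  have hcomm : ∀ a ∈ C, ∀ b ∈ C, a * a = 1 → b * b = 1 → a * b = b * a := by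
    intro a ha b hb ha2 hb2
    have e : π ⟨a, ha⟩ * π ⟨b, hb⟩ = π ⟨b, hb⟩ * π ⟨a, ha⟩ := perm_four_comm _ _
      (by rw [← map_pow, show (⟨a, ha⟩ : C) ^ 2 = 1 from Subtype.ext (by simp [pow_two, ha2]), map_one])
      (by rw [← map_pow, show (⟨b, hb⟩ : C) ^ 2 = 1 from Subtype.ext (by simp [pow_two, hb2]), map_one])
      (heven _) (heven _)
    have hc : π (⟨a, ha⟩ * ⟨b, hb⟩ * ⟨a, ha⟩⁻¹ * ⟨b, hb⟩⁻¹) = 1 := by
      simp only [map_mul, map_inv]; rw [e]; group
    have hcx : a * b * a⁻¹ * b⁻¹ ∈ Subgroup.zpowers x := (hker _).1 hc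
    obtain ⟨i, hi⟩ := hcx
    simp only at hi
    have ha' : a⁻¹ = a := inv_eq_of_mul_eq_one_right ha2
    have hb' : b⁻¹ = b := inv_eq_of_mul_eq_one_right hb2
    have h1 : a * (x ^ i) * a⁻¹ = x ^ i := by
      rw [(Commute.zpow_right (show Commute a x from Subgroup.mem_centralizer_singleton_iff.1 ha) i).eq,
        mul_inv_cancel_right]
    have h2 : a * (x ^ i) * a⁻¹ = (x ^ i)⁻¹ := by
      rw [hi]; simp only [mul_inv_rev, inv_inv]; rw [ha', hb']
      calc a * (a * b * a * b) * a = a * a * (b * a * b) * a := by simp only [mul_assoc]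
        _ = b * a * b * a := by rw [ha2, one_mul]
        _ = b * (a * (b * a)) := by simp only [mul_assoc]
    have hxP : x ^ i ∈ (P : Subgroup G) := zpow_mem hx i
    have h3 : x ^ i * x ^ i = 1 := mul_eq_one_iff_eq_inv.2 (h1.symm.trans h2)
    have h4 := eq_one_of_sq hG hxP h3
    rw [h4] at hi
    exact mul_inv_eq_one.1 (by rw [mul_inv_rev, ← mul_assoc, ← hi])
  obtain ⟨w, hw, hw2, hinv⟩ := exists_inverter hG P hM
  have hw' : w⁻¹ = w := inv_eq_of_mul_eq_one_right hw2
  haveI : Fact (Nat.Prime 2) := ⟨Nat.prime_two⟩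
  haveI : Fact (Nat.Prime 3) := ⟨Nat.prime_three⟩
  haveI : Fact (Nat.Prime 5) := ⟨Nat.prime_five⟩
  have hwC : ∀ c ∈ C, w * c * w⁻¹ ∈ C := by
    intro c hc
    have h1 : c * x⁻¹ = x⁻¹ * c :=
      (Commute.inv_right (show Commute c x from Subgroup.mem_centralizer_singleton_iff.1 hc)).eq
    have h2 : w * x⁻¹ * w⁻¹ = x := by rw [hinv _ (inv_mem hx), inv_inv]
    refine Subgroup.mem_centralizer_singleton_iff.2 ?_
    calc w * c * w⁻¹ * x = w * c * w⁻¹ * (w * x⁻¹ * w⁻¹) := by rw [h2]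
      _ = w * (c * x⁻¹) * w⁻¹ := by group
      _ = w * (x⁻¹ * c) * w⁻¹ := by rw [h1]
      _ = (w * x⁻¹ * w⁻¹) * (w * c * w⁻¹) := by group
      _ = x * (w * c * w⁻¹) := by rw [h2]
  -- some involution of `C(x)` is moved by `w`
  obtain ⟨v, hvC, hv2, hvne, hwv⟩ : ∃ v ∈ C, v * v = 1 ∧ v ≠ 1 ∧ w * v * w⁻¹ ≠ v := by
    by_contra hcon
    push Not at hcon
    obtain ⟨v₀, hv₀⟩ := exists_prime_orderOf_dvd_card' (G := C) 2 (by rw [h36]; norm_num)
    set v : G := (v₀ : G)
    have hvo : orderOf v = 2 := by rw [Subgroup.orderOf_coe, hv₀]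
    have hv2 := H26.mul_self_of_orderOf_two hvo
    have hv1 : v ≠ 1 := fun e => by rw [e, orderOf_one] at hvo; norm_num at hvo
    obtain ⟨y, hy, hyx⟩ : ∃ y ∈ (P : Subgroup G), y ∉ Subgroup.zpowers x := by
      by_contra h
      push Not at h
      have := Subgroup.card_dvd_of_le (show (P : Subgroup G) ≤ Subgroup.zpowers x from h)
      rw [card_nine hG, Nat.card_zpowers, hx3] at this
      norm_num at this
    have hyC : y ∈ C := le_centralizer_singleton hG P hx hy
    have e1 := hcon _ (mul_mem (mul_mem hyC v₀.2) (inv_mem hyC))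
      (by rw [show y * v * y⁻¹ * (y * v * y⁻¹) = y * (v * v) * y⁻¹ by group, hv2]; group)
      (by rwa [Ne, conj_eq_one_iff])
    have e2 := hcon v v₀.2 hv2 hv1
    rw [show w * (y * v * y⁻¹) * w⁻¹ = (w * y * w⁻¹) * (w * v * w⁻¹) * (w * y * w⁻¹)⁻¹ by group,
      hinv y hy, e2] at e1
    have hyy : y * y * v = v * (y * y) := by
      calc y * y * v = y * (y * v * y⁻¹) * y := by group
        _ = y * (y⁻¹ * v * y⁻¹⁻¹) * y := by rw [← e1]
        _ = v * (y * y) := by group
    have hyv : Commute v y := by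
      have := Commute.pow_right (show Commute v (y * y) from hyy.symm) 5
      rwa [← pow_two, ← pow_mul, pow_ten hG hy] at this
    have hA := eq_of_contains hG P hx1 hyx
      (inf_le_left : (P : Subgroup G) ⊓ Subgroup.centralizer ({v} : Set G) ≤ P)
      ⟨hx, Subgroup.mem_centralizer_singleton_iff.2 (Subgroup.mem_centralizer_singleton_iff.1 v₀.2).symm⟩
      ⟨hy, Subgroup.mem_centralizer_singleton_iff.2 hyv.eq.symm⟩
    have := mem_centralizer_sylow_iff.2 (hA.ge.trans inf_le_right)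
    rw [centralizer_three hG P] at this
    exact hv1 (eq_one_of_sq hG this hv2)
  set v' := w * v * w⁻¹ with hv'
  have hv'C : v' ∈ C := hwC v hvC
  have hv'2 : v' * v' = 1 := by
    rw [show v' * v' = w * (v * v) * w⁻¹ by rw [hv']; group, hv2]; group
  have hvv := hcomm v hvC v' hv'C hv2 hv'2
  obtain ⟨v₀, hv₀⟩ : ∃ a, a = v * v' := ⟨_, rfl⟩
  obtain ⟨h, hh⟩ : ∃ a, a = w * v := ⟨_, rfl⟩
  have hv₀2 : v₀ * v₀ = 1 := by
    calc v₀ * v₀ = v * (v' * v) * v' := by simp only [hv₀, mul_assoc]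
      _ = v * v * (v' * v') := by rw [← hvv]; simp only [mul_assoc]
      _ = 1 := by rw [hv2, hv'2, one_mul]
  have hv₀1 : v₀ ≠ 1 := fun e => hwv
    ((eq_inv_of_mul_eq_one_right (hv₀ ▸ e)).trans (inv_eq_of_mul_eq_one_right hv2))
  have hh2 : h * h = v₀ := by
    rw [hh, hv₀, hvv, hv', hw']; simp only [mul_assoc]
  have hho : orderOf h = 4 := orderOf_eq_prime_pow (p := 2) (n := 1)
    (by rw [pow_one, pow_two, hh2]; exact hv₀1) (by
      rw [show 2 ^ (1 + 1) = 2 * 2 from rfl, pow_mul, pow_two h, hh2, pow_two, hv₀2])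
  set L := Subgroup.centralizer ({v₀} : Set G) with hL
  have hxL : x ∈ L := Subgroup.mem_centralizer_singleton_iff.2
    (Subgroup.mem_centralizer_singleton_iff.1 (hv₀ ▸ mul_mem hvC hv'C : v₀ ∈ C)).symm
  have hvL : v ∈ L := Subgroup.mem_centralizer_singleton_iff.2 (by
    calc v * v₀ = v * (v * v') := by rw [hv₀]
      _ = v * (v' * v) := by rw [hvv]
      _ = v₀ * v := by simp only [hv₀, mul_assoc])
  have hv'L : v' ∈ L := Subgroup.mem_centralizer_singleton_iff.2 (by
    calc v' * v₀ = v' * v * v' := by simp only [hv₀, mul_assoc]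
      _ = v₀ * v' := by rw [← hvv, ← hv₀])
  have hhL : h ∈ L := Subgroup.mem_centralizer_singleton_iff.2 (by rw [← hh2]; simp only [mul_assoc])
  have hwL : w ∈ L := by
    have := mul_mem hhL (inv_mem hvL)
    rwa [hh, mul_inv_cancel_right] at this
  have hLx : 12 ∣ Nat.card ↥(L ⊓ C) := by
    refine Nat.Coprime.mul_dvd_of_dvd_of_dvd (by norm_num : Nat.Coprime 3 4) ?_ ?_
    · rw [← hx3]
      exact Subgroup.orderOf_dvd_natCard _ ⟨hxL, Subgroup.mem_centralizer_singleton_iff.2 rfl⟩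
    · have hvo : ∀ {a : G}, a * a = 1 → a ≠ 1 → IsPGroup 2 (Subgroup.zpowers a) := fun {a} h2 h1 =>
        IsPGroup.of_card (n := 1) (by
          rw [Nat.card_zpowers, pow_one]; exact orderOf_eq_prime (by rw [pow_two, h2]) h1)
      have hv'1 : v' ≠ 1 := by rw [hv']; rw [Ne, conj_eq_one_iff]; exact hvne
      have hp := IsPGroup.to_sup_of_normal_right' (hvo hv2 hvne) (hvo hv'2 hv'1) (by
        rw [Subgroup.zpowers_le]
        exact mem_normalizer_zpowers (Or.inl (mul_inv_eq_iff_eq_mul.2 hvv)))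
      obtain ⟨i, hi⟩ := hp.exists_card_eq
      have hle : Subgroup.zpowers v ⊔ Subgroup.zpowers v' ≤ L ⊓ C :=
        sup_le (Subgroup.zpowers_le.2 ⟨hvL, hvC⟩) (Subgroup.zpowers_le.2 ⟨hv'L, hv'C⟩)
      have hi2 : 2 ≤ i := by
        by_contra hlt
        have hle1 : Nat.card ↥(Subgroup.zpowers v ⊔ Subgroup.zpowers v') ≤ 2 :=
          hi ▸ le_of_le_of_eq (Nat.pow_le_pow_right (by norm_num) (by omega : i ≤ 1)) (pow_one 2)
        have he := Subgroup.eq_of_le_of_card_ge
          (le_sup_left : Subgroup.zpowers v ≤ Subgroup.zpowers v ⊔ Subgroup.zpowers v') (by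
            rw [Nat.card_zpowers, orderOf_eq_prime (by rw [pow_two, hv2]) hvne]; exact hle1)
        have hmem : v' ∈ Subgroup.zpowers v := by
          rw [he]; exact Subgroup.mem_sup_right (Subgroup.mem_zpowers v')
        obtain ⟨j, hj⟩ := (mem_powers_iff_mem_zpowers (x := v)).2 hmem
        simp only at hj
        rw [← pow_mod_orderOf, orderOf_eq_prime (p := 2) (by rw [pow_two, hv2]) hvne] at hj
        rcases Nat.mod_two_eq_zero_or_one j with e | e <;> rw [e] at hj
        · exact hv'1 (hj.symm.trans (pow_zero v))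
        · exact hwv (hj.symm.trans (pow_one v))
      exact ((Nat.pow_dvd_pow 2 hi2).trans (dvd_of_eq hi.symm)).trans (Subgroup.card_dvd_of_le hle)
  have hN := card_inverted hx3 hwL (hinv x hx)
  set NL := L ⊓ Subgroup.normalizer (Subgroup.zpowers x : Set G)
  obtain ⟨j, hj⟩ : 24 ∣ Nat.card NL := by
    rw [hN]; exact Nat.mul_dvd_mul_left 2 hLx
  have h9 : ¬ 9 ∣ Nat.card L := not_nine_dvd hG hv₀1 (by
    rw [orderOf_eq_prime (by rw [pow_two, hv₀2]) hv₀1]; norm_num)
  have h11 : ¬ 11 ∣ Nat.card L := fun hd => by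
    have := orderOf_dvd_eleven hG hd
    rw [orderOf_eq_prime (by rw [pow_two, hv₀2]) hv₀1] at this; norm_num at this
  obtain ⟨m, hm⟩ : 24 ∣ Nat.card L := (Dvd.intro j hj.symm).trans (Subgroup.card_dvd_of_le inf_le_left)
  have hm' : m ∣ 10 := by
    have h1 : 24 * m ∣ 7920 := hm ▸ hG.2 ▸ Subgroup.card_subgroup_dvd_card L
    have h2 : m ∣ 330 := Nat.dvd_of_mul_dvd_mul_left (by norm_num : 0 < 24) (show 24 * m ∣ 24 * 330 from h1)
    have h3 : ¬ 3 ∣ m := fun h => h9 (hm ▸ (Nat.mul_dvd_mul (by norm_num : 3 ∣ 24) h))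
    have h4 : ¬ 11 ∣ m := fun h => h11 (hm ▸ dvd_mul_of_dvd_right h 24)
    have h5 : m.Coprime 33 := Nat.Coprime.mul_right (n := 11) (m := 3)
      ((Nat.Prime.coprime_iff_not_dvd Nat.prime_three).2 h3).symm
      ((Nat.Prime.coprime_iff_not_dvd (by norm_num)).2 h4).symm
    exact h5.dvd_of_dvd_mul_right (show m ∣ 10 * 33 from h2)
  have hj1 : j = 1 := by
    have h1 : Nat.card NL ∣ 36 * (3 - 1) := by
      refine (Subgroup.card_dvd_of_le inf_le_right).trans ?_
      have := card_normalizer_dvd (q := 3) (Subgroup.zpowers x) (by rw [Nat.card_zpowers, hx3])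
      rwa [centralizer_eq_of_zpowers rfl, h36] at this
    have h2 : Nat.card NL ∣ 24 * m := hm ▸ Subgroup.card_dvd_of_le inf_le_left
    rw [hj] at h1 h2
    exact Nat.eq_one_of_dvd_coprimes (by norm_num : Nat.Coprime 3 10)
      (Nat.dvd_of_mul_dvd_mul_left (by norm_num : 0 < 24) (show 24 * j ∣ 24 * 3 from h1))
      ((Nat.dvd_of_mul_dvd_mul_left (by norm_num : 0 < 24) h2).trans hm')
  obtain ⟨k, hk, hk3⟩ := index_normalizer_mod (A := Subgroup.zpowers x) (q := 3)
    (by rw [Nat.card_zpowers, hx3]) (Subgroup.zpowers_le.2 hxL) (by norm_num; exact h9)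
  rw [hj, hj1, hm] at hk
  have hmk : m = 1 ∨ m = 10 := by
    have := Nat.le_of_dvd (by norm_num) hm'
    interval_cases m <;> omega
  rcases hmk with rfl | rfl
  · obtain ⟨D, hD⟩ := (IsPGroup.of_card (n := 2) (p := 2)
      (by rw [Nat.card_zpowers, ← Subgroup.orderOf_coe, hho]; norm_num) :
        IsPGroup 2 (Subgroup.zpowers (⟨h, hhL⟩ : L))).exists_le_sylow
    have hD8 : Nat.card ((D : Subgroup L).map L.subtype) = 2 ^ 3 := by
      rw [Subgroup.card_map_of_injective (Subgroup.subtype_injective L)]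
      obtain ⟨i, hi⟩ := D.2.exists_card_eq
      have h1 : 2 ^ 3 ∣ Nat.card (D : Subgroup L) := D.pow_dvd_card_of_pow_dvd_card (by rw [hm]; norm_num)
      have h2 : Nat.card (D : Subgroup L) ∣ 24 := by
        have := Subgroup.card_subgroup_dvd_card (D : Subgroup L); rwa [hm] at this
      rw [hi] at h1 h2 ⊢
      have h3 : 3 ≤ i := (Nat.pow_dvd_pow_iff_le_right (by norm_num)).1 h1
      have h4 : i ≤ 3 := by
        by_contra hlt
        exact absurd ((Nat.pow_dvd_pow 2 (by omega : 4 ≤ i)).trans h2) (by norm_num)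
      rw [le_antisymm h4 h3]
    obtain ⟨E, hE, hDE⟩ := Sylow.exists_subgroup_card_pow_succ (n := 3) (p := 2)
      (by rw [hG.2]; norm_num) hD8
    have hhD : h ∈ (D : Subgroup L).map L.subtype := ⟨⟨h, hhL⟩, hD (Subgroup.mem_zpowers _), rfl⟩
    have hidx : (((D : Subgroup L).map L.subtype).subgroupOf E).index = 2 := by
      have := (((D : Subgroup L).map L.subtype).subgroupOf E).index_mul_card
      rw [Nat.card_congr (Subgroup.subgroupOfEquivOfLe hDE).toEquiv, hD8, hE] at this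
      omega
    have hEL : E ≤ L := by
      intro s hs
      have hn := (Subgroup.normal_of_index_eq_two hidx).conj_mem
        (⟨h, hDE hhD⟩ : E) (Subgroup.mem_subgroupOf.2 hhD) ⟨s, hs⟩
      rw [Subgroup.mem_subgroupOf] at hn
      have := sq_eq_sq_of_card_eight (H := ↥((D : Subgroup L).map L.subtype)) (by rw [hD8]; norm_num)
        (g := ⟨s * h * s⁻¹, hn⟩) (h := ⟨h, hhD⟩)
        (by rw [← Subgroup.orderOf_coe]; exact ((MulAut.conj s).orderOf_eq h).trans hho)
        (by rw [← Subgroup.orderOf_coe]; exact hho)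
      have h' : s * h * s⁻¹ * (s * h * s⁻¹) = h * h := congrArg Subtype.val this
      rw [show s * h * s⁻¹ * (s * h * s⁻¹) = s * (h * h) * s⁻¹ by group, hh2] at h'
      exact Subgroup.mem_centralizer_singleton_iff.2 (mul_inv_eq_iff_eq_mul.1 h')
    have := Subgroup.card_dvd_of_le hEL
    rw [hE, hm] at this
    norm_num at this
  · obtain ⟨t₀, ht₀⟩ := exists_prime_orderOf_dvd_card' (G := L) 5 (by rw [hm]; norm_num)
    have ht : orderOf (t₀ : G) = 5 := by rw [Subgroup.orderOf_coe, ht₀]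
    have hA : Nat.card (Subgroup.zpowers (t₀ : G)) = 5 := by rw [Nat.card_zpowers, ht]
    obtain ⟨l, hl, hl5⟩ := index_normalizer_mod hA (Subgroup.zpowers_le.2 t₀.2) (by rw [hm]; norm_num)
    obtain ⟨Q, hQ⟩ := (IsPGroup.of_card (n := 1) (p := 5) (by rw [hA, pow_one]) :
      IsPGroup 5 (Subgroup.zpowers (t₀ : G))).exists_le_sylow
    have hQe : Subgroup.zpowers (t₀ : G) = Q :=
      Subgroup.eq_of_le_of_card_ge hQ (by rw [card_five hG, hA])
    have h20 : Nat.card ↥(L ⊓ Subgroup.normalizer (Subgroup.zpowers (t₀ : G) : Set G)) ∣ 20 := by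
      rw [← card_normalizer_five hG Q, hQe]
      exact Subgroup.card_dvd_of_le inf_le_right
    rw [hm] at hl
    generalize Nat.card ↥(L ⊓ Subgroup.normalizer (Subgroup.zpowers (t₀ : G) : Set G)) = c at hl h20
    have := Nat.le_of_dvd (by norm_num) h20
    interval_cases c <;> omega

end Cfsg.Agent.H69.M11
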