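import Cfsg.Agent.H69.M11.ThirtySixCentralizer

/-!
A simple group of order 7920 has 55 Sylow 3-subgroups.
-/

set_option autoImplicit false

namespace Cfsg.Agent.H69.M11

open Subgroup MulAction

variable {G : Type*} [Group G] [Finite G]

theorem perm_four_centralizer : ∀ σ : Equiv.Perm (Fin 4), σ ^ 4 = 1 → σ ^ 2 ≠ 1 →
    (Finset.univ.filter fun τ : Equiv.Perm (Fin 4) => τ * σ = σ * τ).card ≤ 4 := by decide +kernel

theorem card_add_le {p q : G → Prop} (h : ∀ g, p g → q g → False) :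
    Nat.card {g : G // p g} + Nat.card {g : G // q g} ≤ Nat.card {g : G // p g ∨ q g} := by
  rw [← Nat.card_sum]
  refine Nat.card_le_card_of_injective
    (Sum.elim (fun g => ⟨g.1, Or.inl g.2⟩) fun g => ⟨g.1, Or.inr g.2⟩) ?_
  rintro (⟨a, ha⟩ | ⟨a, ha⟩) (⟨b, hb⟩ | ⟨b, hb⟩) he <;>
    have he' := congrArg Subtype.val he <;> simp only [Sum.elim_inl, Sum.elim_inr] at he' <;>
    subst he'
  · rfl
  · exact (h _ ha hb).elim
  · exact (h _ hb ha).elim
  · rfl

theorem card_mono {p q : G → Prop} (h : ∀ g, p g → q g) :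
    Nat.card {g : G // p g} ≤ Nat.card {g : G // q g} :=
  Nat.card_le_card_of_injective (fun g => (⟨g.1, h g.1 g.2⟩ : {g : G // q g}))
    fun a b he => Subtype.ext (congrArg Subtype.val he :)

theorem card_class_eq {a b : G} (h : IsConj a b) :
    Nat.card {g : G // IsConj a g} = Nat.card {g : G // IsConj b g} :=
  Nat.card_congr (Equiv.subtypeEquivRight fun _ => ⟨fun h' => h.symm.trans h', fun h' => h.trans h'⟩)

theorem card_centralizer_eq {a b : G} (h : IsConj a b) :
    Nat.card (Subgroup.centralizer ({a} : Set G)) = Nat.card (Subgroup.centralizer ({b} : Set G)) := by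
  have h1 := card_centralizer_mul_class a
  have h2 := card_centralizer_mul_class b
  rw [card_class_eq h] at h1
  haveI : Nonempty {g : G // IsConj b g} := ⟨⟨b, IsConj.refl b⟩⟩
  exact Nat.eq_of_mul_eq_mul_left Nat.card_pos (h1.trans h2.symm)

/-- The possible centralizers of 3-elements. -/
theorem centralizer_cases (hG : Cfsg.IsM11 G) (P : Sylow 3 G)
    (hM : Nat.card (Subgroup.normalizer ((P : Subgroup G) : Set G)) = 36) {x : G}
    (hx : x ∈ (P : Subgroup G)) (hx1 : x ≠ 1) :
    (Nat.card ↥(Subgroup.centralizer ({x} : Set G) ⊓ Subgroup.normalizer ((P : Subgroup G) : Set G)) = 9 ∧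
      Subgroup.centralizer ({x} : Set G) = P) ∨
    (Nat.card ↥(Subgroup.centralizer ({x} : Set G) ⊓ Subgroup.normalizer ((P : Subgroup G) : Set G)) = 18 ∧
      (Nat.card (Subgroup.centralizer ({x} : Set G)) = 18 ∨
        (Nat.card (Subgroup.centralizer ({x} : Set G)) = 72 ∧
          (MulAction.orbit (Subgroup.centralizer ({x} : Set G)) P).ncard = 4))) := by
  obtain ⟨hn, -⟩ := orbit_centralizer hG P hx hx1
  obtain ⟨hmul, -⟩ := orbit_count P (le_centralizer_singleton hG P hx)
  obtain ⟨w, -, -, hinv⟩ := exists_inverter hG P hM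
  have h16 : ¬ 16 ∣ Nat.card (Subgroup.centralizer ({x} : Set G)) := fun h => by
    have h2 := even_class_of_real (x := x) (fun e => hx1 (eq_one_of_sq hG hx e)) (hinv x hx)
    have h32 := Nat.mul_dvd_mul h2 h
    rw [card_centralizer_mul_class, hG.2] at h32
    norm_num at h32
  set C := Subgroup.centralizer ({x} : Set G)
  set M := Subgroup.normalizer ((P : Subgroup G) : Set G)
  set n := (MulAction.orbit C P).ncard
  simp only [Finset.mem_insert, Finset.mem_singleton] at hn
  have hmul' : n * Nat.card ↥(C ⊓ M) = Nat.card C := hmul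
  rcases card_centralizer_inf hG P hM hx hx1 with ⟨hK, hKP⟩ | hK
  · rw [hK] at hmul'
    refine Or.inl ⟨hK, ?_⟩
    rcases hn with h | h | h <;> rw [h] at hmul'
    · exact (Subgroup.eq_of_le_of_card_ge (le_centralizer_singleton hG P hx)
        (by rw [card_nine hG, ← hmul'])).symm
    · exact absurd hmul'.symm (centralizer_ne_thirtySix hG P hM hx hx1 hK)
    · exact absurd ⟨9, hmul'.symm⟩ h16
  · rw [hK] at hmul'
    refine Or.inr ⟨hK, ?_⟩
    rcases hn with h | h | h
    · rw [h] at hmul'; exact Or.inl hmul'.symm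
    · rw [h] at hmul'; exact Or.inr ⟨hmul'.symm, h⟩
    · rw [h] at hmul'; exact absurd ⟨18, hmul'.symm⟩ h16

/-- The elements with 3-part conjugate to `x`, if `x` is centralized outside `P` in `N(P)`. -/
theorem part_three_bound (hG : Cfsg.IsM11 G) (P : Sylow 3 G)
    (hM : Nat.card (Subgroup.normalizer ((P : Subgroup G) : Set G)) = 36) {x y r r' : G}
    (hx : x ∈ (P : Subgroup G)) (hp : Pair P x y r r') :
    1760 ≤ Nat.card {g : G // g ^ 144 = 1 ∧ IsConj x (g ^ 64)} := by
  classical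
  have hx1 : x ≠ 1 := fun e => by have := hp.hox; rw [e, orderOf_one] at this; norm_num at this
  have h9 : x ^ 9 = 1 := orderOf_dvd_iff_pow_eq_one.1 (orderOf_dvd_nine hG P hx)
  refine le_trans ?_ (card_class_mul_le h9)
  have hcl := card_centralizer_mul_class x
  rw [hG.2] at hcl
  rcases centralizer_cases hG P hM hx hx1 with ⟨hK, -⟩ | ⟨-, hC | ⟨hC, h4⟩⟩
  · rw [hp.cx] at hK; norm_num at hK
  · rw [hC] at hcl
    have h440 : Nat.card {a : G // IsConj x a} = 440 := by omega
    rw [h440]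
    have hf : 4 ≤ Nat.card {b : G // Commute b x ∧ b ^ 16 = 1} := by
      have h4 : Nat.card (Option (Subgroup.zpowers y)) = 4 := by
        rw [Finite.card_option, Nat.card_zpowers, hp.hoy]
      rw [← h4]
      have hinv : ∀ e : Subgroup.zpowers y, r * (e : G) * r⁻¹ = (e : G)⁻¹ := by
        rintro ⟨-, i, rfl⟩
        show r * y ^ i * r⁻¹ = (y ^ i)⁻¹
        rw [← conj_zpow, hp.hry, inv_zpow]
      let f : Option (Subgroup.zpowers y) → {b : G // Commute b x ∧ b ^ 16 = 1} := fun o =>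
        match o with
        | none => ⟨1, Commute.one_left x, one_pow _⟩
        | some e => ⟨r * (e : G), by
            refine ⟨(show Commute r x from mul_inv_eq_iff_eq_mul.1 hp.hrx).mul_left ?_, ?_⟩
            · exact sylow_three_comm hG P _ (Subgroup.zpowers_le.2 hp.hy e.2) x hx
            · rw [show 16 = 2 * 8 from rfl, pow_mul, pow_two]
              have : r * (e : G) * (r * (e : G)) = 1 := by
                calc r * (e : G) * (r * (e : G)) = (r * (e : G) * r⁻¹) * (r * r) * (e : G) := by group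
                  _ = 1 := by rw [hinv, hp.hr2, mul_one, inv_mul_cancel]
              rw [this, one_pow]⟩
      refine Nat.card_le_card_of_injective f ?_
      rintro (_ | a) (_ | b) he
      · rfl
      · exfalso
        apply hp.hrP
        have h' : 1 = r * (b : G) := congrArg Subtype.val he
        rw [eq_inv_of_mul_eq_one_left h'.symm]
        exact inv_mem (Subgroup.zpowers_le.2 hp.hy b.2)
      · exfalso
        apply hp.hrP
        have h' : r * (a : G) = 1 := congrArg Subtype.val he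
        rw [eq_inv_of_mul_eq_one_left h']
        exact inv_mem (Subgroup.zpowers_le.2 hp.hy a.2)
      · exact congrArg some (Subtype.ext (mul_left_cancel (congrArg Subtype.val he :)))
    omega
  · rw [hC] at hcl
    have h110 : Nat.card {a : G // IsConj x a} = 110 := by omega
    rw [h110]
    obtain ⟨π, -, -, hcard, -⟩ := exists_four_action hG P hM hx hx1 h4
    rw [hC] at hcard
    have htop : π.range = ⊤ := Subgroup.eq_top_of_card_eq _ (by
      rw [Nat.card_eq_fintype_card (α := Equiv.Perm (Fin 4)), Fintype.card_perm, Fintype.card_fin,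
        show Nat.card π.range = 24 by omega]
      rfl)
    have hlift : ∀ σ : {σ : Equiv.Perm (Fin 4) // σ ^ 8 = 1}, ∃ c, π c = σ.1 := fun σ =>
      MonoidHom.mem_range.1 (htop ▸ Subgroup.mem_top σ.1)
    choose c hc using hlift
    have hf : 16 ≤ Nat.card {b : G // Commute b x ∧ b ^ 16 = 1} := by
      refine le_trans (ge_of_eq card_perm_four_pow) ?_
      refine Nat.card_le_card_of_injective (fun σ => ⟨((c σ : G)) ^ 9,
        Commute.pow_left (Subgroup.mem_centralizer_singleton_iff.1 (c σ).2) 9, ?_⟩) fun σ τ he => ?_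
      · have h1 : orderOf (c σ : G) ∣ 72 := hC ▸ Subgroup.orderOf_dvd_natCard _ (c σ).2
        rw [← pow_mul, ← orderOf_dvd_iff_pow_eq_one]
        exact h1.trans ⟨2, rfl⟩
      · have h1 : (c σ) ^ 9 = (c τ) ^ 9 := Subtype.ext (by simpa using congrArg Subtype.val he)
        have h2 := congrArg π h1
        rw [map_pow, map_pow, hc, hc, pow_succ σ.1 8, pow_succ τ.1 8, σ.2, τ.2, one_mul, one_mul] at h2
        exact Subtype.ext h2
    omega

/-- Some 3-element is centralized outside `P` in `N(P)`. -/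
theorem exists_not_nine (hG : Cfsg.IsM11 G) (P : Sylow 3 G)
    (hM : Nat.card (Subgroup.normalizer ((P : Subgroup G) : Set G)) = 36) :
    ∃ x ∈ (P : Subgroup G), x ≠ 1 ∧
      Nat.card ↥(Subgroup.centralizer ({x} : Set G) ⊓ Subgroup.normalizer ((P : Subgroup G) : Set G)) ≠ 9 := by
  classical
  by_contra hcon
  push Not at hcon
  have hC : ∀ x ∈ (P : Subgroup G), x ≠ 1 → Subgroup.centralizer ({x} : Set G) = P := by
    intro x hx hx1
    rcases centralizer_cases hG P hM hx hx1 with ⟨-, h⟩ | ⟨h, -⟩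
    · exact h
    · have := hcon x hx hx1; rw [h] at this; norm_num at this
  haveI : Fact (Nat.Prime 3) := ⟨Nat.prime_three⟩
  have hTI : ∀ (Q : Sylow 3 G) (a : G), a ∈ (Q : Subgroup G) → a ≠ 1 →
      ∀ g : G, Commute g a → g ∈ (Q : Subgroup G) := by
    intro Q a ha ha1 g hga
    obtain ⟨c, rfl⟩ := MulAction.exists_smul_eq G P Q
    rw [Sylow.coe_subgroup_smul, Subgroup.mem_smul_pointwise_iff_exists] at ha ⊢
    obtain ⟨x, hx, rfl⟩ := ha
    have hx1 : x ≠ 1 := fun e => ha1 (by rw [e, smul_one])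
    refine ⟨c⁻¹ * g * c, ?_, by show c * (c⁻¹ * g * c) * c⁻¹ = g; group⟩
    rw [← hC x hx hx1]
    refine Subgroup.mem_centralizer_singleton_iff.2 ?_
    have h' : g * (c * x * c⁻¹) = c * x * c⁻¹ * g := hga
    calc c⁻¹ * g * c * x = c⁻¹ * (g * (c * x * c⁻¹)) * c := by group
      _ = x * (c⁻¹ * g * c) := by rw [h']; group
  have h3 : ∀ g : G, 3 ∣ orderOf g → ∃ Q : Sylow 3 G, g ∈ (Q : Subgroup G) := by
    intro g hg
    obtain ⟨m, hm⟩ := hg
    have hm0 : 0 < m := by have := orderOf_pos g; omega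
    have ha : orderOf (g ^ m) = 3 := by
      rw [orderOf_pow_of_dvd hm0.ne' ⟨3, by omega⟩, hm, Nat.mul_div_cancel _ hm0]
    obtain ⟨Q, hQ⟩ := (IsPGroup.of_card (n := 1) (p := 3)
      (by rw [Nat.card_zpowers, ha, pow_one]) : IsPGroup 3 (Subgroup.zpowers (g ^ m))).exists_le_sylow
    exact ⟨Q, hTI Q _ (hQ (Subgroup.mem_zpowers _))
      (fun e => by rw [e, orderOf_one] at ha; norm_num at ha) g (Commute.self_pow g m)⟩
  have hmem3 : ∀ (Q : Sylow 3 G) (a : G), a ∈ (Q : Subgroup G) → a ≠ 1 → 3 ∣ orderOf a := by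
    intro Q a ha ha1
    obtain ⟨i, -, hi⟩ := (Nat.dvd_prime_pow Nat.prime_three).1
      (show orderOf a ∣ 3 ^ 2 from orderOf_dvd_nine hG Q ha)
    rcases i with _ | i
    · exact absurd (orderOf_eq_one_iff.1 hi) ha1
    · exact hi ▸ Dvd.intro_left (3 ^ i) (pow_succ 3 i).symm
  have hcard : Nat.card {g : G // 3 ∣ orderOf g} = 1760 := by
    let e : (Σ Q : Sylow 3 G, {a : (Q : Subgroup G) // a ≠ 1}) → {g : G // 3 ∣ orderOf g} :=
      fun z => ⟨z.2.1, hmem3 z.1 _ z.2.1.2 fun h => z.2.2 (Subtype.ext h)⟩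
    have hbij : Function.Bijective e := by
      constructor
      · rintro ⟨Q, a⟩ ⟨R, b⟩ h
        have h' : (a.1 : G) = b.1 := congrArg Subtype.val h
        have hQR : Q = R := by
          refine (Sylow.ext (Subgroup.eq_of_le_of_card_ge (fun g hg => ?_) ?_)).symm
          · exact hTI Q a.1 a.1.2 (fun h0 => a.2 (Subtype.ext h0)) g
              (h' ▸ sylow_three_comm hG R g hg _ b.1.2)
          · rw [card_nine hG, card_nine hG]
        subst hQR
        exact Sigma.ext rfl (heq_of_eq (Subtype.ext (Subtype.ext h')))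
      · rintro ⟨g, hg⟩
        obtain ⟨Q, hQ⟩ := h3 g hg
        exact ⟨⟨Q, ⟨⟨g, hQ⟩, fun e => by
          rw [show g = 1 from congrArg Subtype.val e, orderOf_one] at hg; norm_num at hg⟩⟩, rfl⟩
    rw [← Nat.card_congr (Equiv.ofBijective e hbij)]
    haveI : Fintype (Sylow 3 G) := Fintype.ofFinite _
    rw [Nat.card_sigma, Finset.sum_const_nat (m := 8) fun Q _ => ?_, Finset.card_univ,
      ← Nat.card_eq_fintype_card]
    · have := card_sylow_mul hG P; rw [hM] at this; omega
    · haveI : Fintype (Q : Subgroup G) := Fintype.ofFinite _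
      rw [Nat.card_eq_fintype_card, Fintype.card_subtype_compl, Fintype.card_subtype_eq,
        ← Nat.card_eq_fintype_card, card_nine hG]
  haveI := Fintype.ofFinite G
  have hS : Nat.card {g : G // g ≠ 1 ∧ ¬ 3 ∣ orderOf g} = 6159 := by
    rw [Nat.card_eq_fintype_card, Fintype.card_subtype] at hcard ⊢
    have h1 := Finset.card_filter_add_card_filter_not (s := (Finset.univ : Finset G)) (fun g => 3 ∣ orderOf g)
    have h2 : Finset.univ.filter (fun g : G => g ≠ 1 ∧ ¬ 3 ∣ orderOf g) =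
        (Finset.univ.filter (fun g : G => ¬ 3 ∣ orderOf g)).erase 1 := by
      ext g; simp
    rw [h2, Finset.card_erase_of_mem (by simp)]
    rw [Finset.card_univ, ← Nat.card_eq_fintype_card, hG.2] at h1
    omega
  letI : MulAction (P : Subgroup G) {g : G // g ≠ 1 ∧ ¬ 3 ∣ orderOf g} :=
    { smul := fun p g => ⟨(p : G) * g.1 * (p : G)⁻¹, by rw [Ne, conj_eq_one_iff]; exact g.2.1, by
        rw [show (p : G) * g.1 * (p : G)⁻¹ = MulAut.conj (p : G) g.1 from rfl, MulEquiv.orderOf_eq]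
        exact g.2.2⟩
      one_smul := fun g => Subtype.ext (show (1 : G) * g.1 * (1 : G)⁻¹ = g.1 by group)
      mul_smul := fun p q g => Subtype.ext
        (show (p : G) * q * g.1 * ((p : G) * q)⁻¹ = p * (q * g.1 * (q : G)⁻¹) * (p : G)⁻¹ by group) }
  have hst : ∀ g : {g : G // g ≠ 1 ∧ ¬ 3 ∣ orderOf g},
      MulAction.stabilizer (P : Subgroup G) g = ⊥ := by
    intro g
    rw [Subgroup.eq_bot_iff_forall]
    intro p hp
    by_contra hp1
    have h' : (p : G) * g.1 * (p : G)⁻¹ = g.1 := congrArg Subtype.val hp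
    have hg := hTI P p p.2 (fun e => hp1 (Subtype.ext e)) g.1 (mul_inv_eq_iff_eq_mul.1 h').symm
    exact g.2.2 (hmem3 P g.1 hg g.2.1)
  have h9 := Nat.card_congr (MulAction.selfEquivOrbitsQuotientProd hst)
  rw [Nat.card_prod, hS, card_nine hG] at h9
  omega

/-- The centralizers of elements of order 5, and the number of 2-elements, in the configuration. -/
theorem five_and_two (hG : Cfsg.IsM11 G) (P : Sylow 3 G)
    (hM : Nat.card (Subgroup.normalizer ((P : Subgroup G) : Set G)) = 36) :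
    (∀ t : G, orderOf t = 5 → ∀ s : G, orderOf s = 2 → ¬ Commute t s) ∧
      Nat.card {g : G // g ^ 16 = 1 ∧ g ≠ 1} ≤ 495 := by
  classical
  obtain ⟨x, hx, hx1, hne⟩ := exists_not_nine hG P hM
  obtain ⟨y, r, r', hp⟩ := exists_pair hG P hM hx hx1 hne
  have hy1 : y ≠ 1 := fun e => by have := hp.hoy; rw [e, orderOf_one] at this; norm_num at this
  obtain ⟨x', r₁, r₁', hp'⟩ := exists_pair hG P hM hp.hy hy1 (by rw [hp.cy]; norm_num)
  have hq1 : x * y ≠ 1 := fun e => hp.hyx
    (by rw [eq_inv_of_mul_eq_one_right e]; exact inv_mem (Subgroup.mem_zpowers x))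
  have hqP : x * y ∈ (P : Subgroup G) := mul_mem hx hp.hy
  have hCq : Subgroup.centralizer ({x * y} : Set G) = P := by
    rcases centralizer_cases hG P hM hqP hq1 with ⟨-, h⟩ | ⟨h, -⟩
    · exact h
    · rw [hp.mixed hG hx, card_nine hG] at h; norm_num at h
  have hT1 := part_three_bound hG P hM hx hp
  have hT2 := part_three_bound hG P hM hp.hy hp'
  have hT3 : 880 ≤ Nat.card {g : G // g ^ 144 = 1 ∧ IsConj (x * y) (g ^ 64)} := by
    refine le_trans ?_ (card_class_mul_le
      (orderOf_dvd_iff_pow_eq_one.1 (orderOf_dvd_nine hG P hqP)))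
    have hcl := card_centralizer_mul_class (x * y)
    rw [hG.2, hCq, card_nine hG] at hcl
    rw [show Nat.card {a : G // IsConj (x * y) a} = 880 by omega]
    haveI : Nonempty {b : G // Commute b (x * y) ∧ b ^ 16 = 1} := ⟨⟨1, Commute.one_left _, one_pow _⟩⟩
    exact Nat.le_mul_of_pos_right _ Nat.card_pos
  have hxy : ¬ IsConj x y := by
    intro h
    obtain ⟨c, hc⟩ := isConj_iff.1 h
    haveI : IsMulCommutative P :=
      ⟨⟨fun a b => Subtype.ext (sylow_three_comm hG P a a.2 b b.2)⟩⟩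
    obtain ⟨n, hn, hn'⟩ := Sylow.conj_eq_normalizer_conj_of_mem P x c⁻¹ hx
      (by rw [inv_inv, hc]; exact hp.hy)
    rw [inv_inv, hc] at hn'
    apply hp.hyx
    rw [hn']
    simpa using hp.hmx n⁻¹ (inv_mem hn)
  have hxq : ¬ IsConj x (x * y) := by
    intro h
    have := card_centralizer_eq h
    rw [hCq, card_nine hG] at this
    rcases centralizer_cases hG P hM hx hx1 with ⟨h', -⟩ | ⟨-, h' | ⟨h', -⟩⟩
    · exact hne h'
    · rw [h'] at this; norm_num at this
    · rw [h'] at this; norm_num at this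
  have hyq : ¬ IsConj y (x * y) := by
    intro h
    have := card_centralizer_eq h
    rw [hCq, card_nine hG] at this
    rcases centralizer_cases hG P hM hp.hy hy1 with ⟨h', -⟩ | ⟨-, h' | ⟨h', -⟩⟩
    · rw [hp.cy] at h'; norm_num at h'
    · rw [h'] at this; norm_num at this
    · rw [h'] at this; norm_num at this
  haveI : Fact (Nat.Prime 5) := ⟨Nat.prime_five⟩
  haveI : Fact (Nat.Prime 11) := ⟨by norm_num⟩
  have h5 : Nat.card {g : G // orderOf g = 5} = 1584 := by
    rw [card_orderOf_prime (fun Q => card_five hG Q), card_sylow_five hG]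
  have h11 : Nat.card {g : G // orderOf g = 11} = 1440 := by
    rw [card_orderOf_prime (fun Q => card_eleven hG Q), card_sylow_eleven hG]
  have h1 : Nat.card {g : G // g = 1} = 1 := by
    rw [Nat.card_eq_fintype_card, Fintype.card_subtype_eq]
  have h144 : ∀ (g : G) (n : ℕ), orderOf g = n → g ^ 144 = 1 → ¬ n ∣ 144 → False :=
    fun g n hn hg hnd => hnd (hn ▸ orderOf_dvd_of_pow_eq_one hg)
  have h16 : ∀ g : G, g ^ 16 = 1 → g ^ 144 = 1 ∧ g ^ 64 = 1 := fun g hg =>
    ⟨by rw [show 144 = 16 * 9 from rfl, pow_mul, hg, one_pow],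
     by rw [show 64 = 16 * 4 from rfl, pow_mul, hg, one_pow]⟩
  have hnc : ∀ {a g : G}, a ≠ 1 → IsConj a g → g ≠ 1 := fun ha h hg =>
    ha (isConj_one_left.1 (hg ▸ h))
  have key : 1 + Nat.card {g : G // g ^ 16 = 1 ∧ g ≠ 1} + 1760 + 1760 + 880 + 1584 +
      Nat.card {g : G // orderOf g = 10} + 1440 ≤ 7920 := by
    have e1 := card_add_le (p := fun g : G => g = 1) (q := fun g => g ^ 16 = 1 ∧ g ≠ 1)
      (fun g a b => b.2 a)
    have e2 := card_add_le (p := fun g : G => g = 1 ∨ g ^ 16 = 1 ∧ g ≠ 1)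
      (q := fun g => g ^ 144 = 1 ∧ IsConj x (g ^ 64)) (fun g a b => by
        rcases a with a | a
        · exact hnc hx1 b.2 (by rw [a, one_pow])
        · exact hnc hx1 b.2 (h16 g a.1).2)
    have e3 := card_add_le (p := fun g : G => (g = 1 ∨ g ^ 16 = 1 ∧ g ≠ 1) ∨
        g ^ 144 = 1 ∧ IsConj x (g ^ 64))
      (q := fun g => g ^ 144 = 1 ∧ IsConj y (g ^ 64)) (fun g a b => by
        rcases a with (a | a) | a
        · exact hnc hy1 b.2 (by rw [a, one_pow])
        · exact hnc hy1 b.2 (h16 g a.1).2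
        · exact hxy (a.2.trans b.2.symm))
    have e4 := card_add_le (p := fun g : G => ((g = 1 ∨ g ^ 16 = 1 ∧ g ≠ 1) ∨
        g ^ 144 = 1 ∧ IsConj x (g ^ 64)) ∨ g ^ 144 = 1 ∧ IsConj y (g ^ 64))
      (q := fun g => g ^ 144 = 1 ∧ IsConj (x * y) (g ^ 64)) (fun g a b => by
        rcases a with ((a | a) | a) | a
        · exact hnc hq1 b.2 (by rw [a, one_pow])
        · exact hnc hq1 b.2 (h16 g a.1).2
        · exact hxq (a.2.trans b.2.symm)
        · exact hyq (a.2.trans b.2.symm))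
    have hA : ∀ g : G, ((((g = 1 ∨ g ^ 16 = 1 ∧ g ≠ 1) ∨ g ^ 144 = 1 ∧ IsConj x (g ^ 64)) ∨
        g ^ 144 = 1 ∧ IsConj y (g ^ 64)) ∨ g ^ 144 = 1 ∧ IsConj (x * y) (g ^ 64)) → g ^ 144 = 1 := by
      rintro g ((((a | a) | a) | a) | a)
      · rw [a, one_pow]
      · exact (h16 g a.1).1
      all_goals exact a.1
    have e5 := card_add_le (p := fun g : G => g ^ 144 = 1) (q := fun g => orderOf g = 5)
      (fun g a b => h144 g 5 b a (by norm_num))
    have e6 := card_add_le (p := fun g : G => g ^ 144 = 1 ∨ orderOf g = 5)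
      (q := fun g => orderOf g = 10) (fun g a b => by
        rcases a with a | a
        · exact h144 g 10 b a (by norm_num)
        · omega)
    have e7 := card_add_le (p := fun g : G => (g ^ 144 = 1 ∨ orderOf g = 5) ∨ orderOf g = 10)
      (q := fun g => orderOf g = 11) (fun g a b => by
        rcases a with (a | a) | a
        · exact h144 g 11 b a (by norm_num)
        · omega
        · omega)
    have hle : ∀ {p : G → Prop}, Nat.card {g : G // p g} ≤ 7920 := fun {p} =>
      hG.2 ▸ Nat.card_le_card_of_injective _ Subtype.val_injective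
    have hmono := card_mono hA
    have hlast : Nat.card {g : G // ((g ^ 144 = 1 ∨ orderOf g = 5) ∨ orderOf g = 10) ∨ orderOf g = 11} ≤ 7920 :=
      hle
    omega
  have hno : ∀ t : G, orderOf t = 5 → ∀ s : G, orderOf s = 2 → ¬ Commute t s := by
    intro t ht s hs hts
    have hex : ∀ t' : G, orderOf t' = 5 → ∃ s', orderOf s' = 2 ∧ Commute t' s' := by
      intro t' ht'
      have hsyl : ∀ a : G, orderOf a = 5 → ∃ Q : Sylow 5 G, Subgroup.zpowers a = Q := fun a ha => by
        obtain ⟨Q, hQ⟩ := (IsPGroup.of_card (n := 1) (p := 5)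
          (by rw [Nat.card_zpowers, ha, pow_one]) : IsPGroup 5 (Subgroup.zpowers a)).exists_le_sylow
        exact ⟨Q, Subgroup.eq_of_le_of_card_ge hQ (by rw [card_five hG, Nat.card_zpowers, ha])⟩
      obtain ⟨Q, hQ⟩ := hsyl t ht
      obtain ⟨Q', hQ'⟩ := hsyl t' ht'
      obtain ⟨c, hc⟩ := MulAction.exists_smul_eq G Q Q'
      have hm : t' ∈ ((c • Q : Sylow 5 G) : Subgroup G) := by
        rw [hc, ← hQ']; exact Subgroup.mem_zpowers t'
      rw [Sylow.coe_subgroup_smul, ← hQ, Subgroup.mem_smul_pointwise_iff_exists] at hm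
      obtain ⟨a, ⟨i, rfl⟩, ha⟩ := hm
      refine ⟨c * s * c⁻¹, ?_, ?_⟩
      · rw [show c * s * c⁻¹ = MulAut.conj c s from rfl, MulEquiv.orderOf_eq, hs]
      · rw [← ha]
        exact (commute_conj_iff c _ _).2 (hts.zpow_left i)
    have := card_five_le_card_ten hex
    omega
  exact ⟨hno, by omega⟩

theorem eq_commute_conj {a b c : G} (h : Commute a b) : Commute (c * a * c⁻¹) (c * b * c⁻¹) :=
  (commute_conj_iff c a b).2 h

/-- A nontrivial 2-element has centralizer of order dividing 48, in the configuration. -/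
theorem card_centralizer_two (hG : Cfsg.IsM11 G)
    (hno : ∀ t : G, orderOf t = 5 → ∀ s : G, orderOf s = 2 → ¬ Commute t s) {g : G}
    (hg16 : g ^ 16 = 1) (hg1 : g ≠ 1) :
    Nat.card (Subgroup.centralizer ({g} : Set G)) ∣ 48 := by
  obtain ⟨i, hi, ho⟩ := (Nat.dvd_prime_pow Nat.prime_two).1
    (show orderOf g ∣ 2 ^ 4 from orderOf_dvd_of_pow_eq_one hg16)
  have h11 : ¬ 11 ∣ Nat.card (Subgroup.centralizer ({g} : Set G)) := fun h => by
    have := orderOf_dvd_eleven hG h
    rw [ho] at this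
    interval_cases i <;> norm_num at this
    exact hg1 (orderOf_eq_one_iff.1 (by rw [ho]; rfl))
  have h9 := not_nine_dvd hG hg1 (by rw [ho]; exact Nat.Coprime.pow_left _ (by norm_num))
  have h5 : ¬ 5 ∣ Nat.card (Subgroup.centralizer ({g} : Set G)) := fun h => by
    haveI : Fact (Nat.Prime 5) := ⟨Nat.prime_five⟩
    obtain ⟨t₀, ht₀⟩ := exists_prime_orderOf_dvd_card' 5 h
    have hi0 : i ≠ 0 := fun e => hg1 (orderOf_eq_one_iff.1 (by rw [ho, e]; rfl))
    have hs : orderOf (g ^ 2 ^ (i - 1)) = 2 := by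
      rw [orderOf_pow_of_dvd (pow_ne_zero _ (by norm_num)) (ho ▸ Nat.pow_dvd_pow 2 (by omega)), ho,
        Nat.pow_div (by omega) (by norm_num), show i - (i - 1) = 1 by omega, pow_one]
    exact hno (t₀ : G) (by rw [Subgroup.orderOf_coe, ht₀]) _ hs
      (Commute.pow_right (Subgroup.mem_centralizer_singleton_iff.1 t₀.2) _)
  have hd : Nat.card (Subgroup.centralizer ({g} : Set G)) ∣ 144 * 55 := by
    rw [show 144 * 55 = 7920 from rfl, ← hG.2]; exact Subgroup.card_subgroup_dvd_card _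
  generalize Nat.card (Subgroup.centralizer ({g} : Set G)) = c at hd h9 h5 h11 ⊢
  have hc : c.Coprime 55 := Nat.Coprime.mul_right (n := 11) (m := 5)
    ((Nat.Prime.coprime_iff_not_dvd Nat.prime_five).2 h5).symm
    ((Nat.Prime.coprime_iff_not_dvd (by norm_num)).2 h11).symm
  have h144 := hc.dvd_of_dvd_mul_right hd
  have := Nat.le_of_dvd (by norm_num) h144
  have key : ∀ c ≤ 144, c ∣ 144 → ¬ 9 ∣ c → c ∣ 48 := by decide +kernel
  exact key c this h144 h9

/-- The normalizer of an element of order 5 contains an element of order 4. -/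
theorem exists_order_four (hG : Cfsg.IsM11 G)
    (hno : ∀ t : G, orderOf t = 5 → ∀ s : G, orderOf s = 2 → ¬ Commute t s) :
    ∃ u : G, orderOf u = 4 := by
  classical
  haveI : Fact (Nat.Prime 5) := ⟨Nat.prime_five⟩
  haveI : Fact (Nat.Prime 2) := ⟨Nat.prime_two⟩
  obtain ⟨t, ht⟩ := exists_prime_orderOf_dvd_card' (G := G) 5 (by rw [hG.2]; norm_num)
  obtain ⟨Q, hQ⟩ := (IsPGroup.of_card (n := 1) (p := 5)
    (by rw [Nat.card_zpowers, ht, pow_one]) : IsPGroup 5 (Subgroup.zpowers t)).exists_le_sylow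
  have hQe : Subgroup.zpowers t = Q :=
    Subgroup.eq_of_le_of_card_ge hQ (by rw [card_five hG, Nat.card_zpowers, ht])
  set N := Subgroup.normalizer ((Q : Subgroup G) : Set G)
  obtain ⟨K, hK⟩ := Sylow.exists_subgroup_card_pow_prime (G := N) 2 (n := 2)
    (by rw [card_normalizer_five hG Q]; norm_num)
  by_contra hcon
  push Not at hcon
  have hsq : ∀ k : K, k * k = 1 := by
    intro k
    have hd : orderOf k ∣ 2 ^ 2 := hK ▸ orderOf_dvd_natCard k
    obtain ⟨i, hi, hi'⟩ := (Nat.dvd_prime_pow Nat.prime_two).1 hd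
    have : i ≤ 1 := by
      by_contra h
      exact hcon ((k : N) : G) (by
        rw [Subgroup.orderOf_coe, Subgroup.orderOf_coe, hi', show i = 2 by omega]; norm_num)
    rw [← pow_two]
    exact orderOf_dvd_iff_pow_eq_one.1 (hi' ▸ Nat.pow_dvd_pow 2 this |>.trans (dvd_of_eq (pow_one 2)))
  have hinv : ∀ k : K, k ≠ 1 → ((k : N) : G) * t * ((k : N) : G)⁻¹ = t⁻¹ := by
    intro k hk
    set s : G := ((k : N) : G) with hs
    have hs2 : s * s = 1 := by
      have := congrArg (fun a : K => ((a : N) : G)) (hsq k)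
      simpa [hs] using this
    have hs1 : s ≠ 1 := fun e => hk (Subtype.ext (Subtype.ext e))
    have hso : orderOf s = 2 := orderOf_eq_prime (by rw [pow_two, hs2]) hs1
    have hmem : t * (s * t * s⁻¹) ∈ Subgroup.zpowers t := by
      refine mul_mem (Subgroup.mem_zpowers t) ?_
      rw [hQe]
      exact (Subgroup.mem_normalizer_iff.1 (k : N).2 t).1 (hQe ▸ Subgroup.mem_zpowers t)
    have hfix : s * (t * (s * t * s⁻¹)) * s⁻¹ = t * (s * t * s⁻¹) := by
      have hs' : s⁻¹ = s := inv_eq_of_mul_eq_one_right hs2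
      obtain ⟨i, hi⟩ : s * t * s⁻¹ ∈ Subgroup.zpowers t := by
        rw [hQe]
        exact (Subgroup.mem_normalizer_iff.1 (k : N).2 t).1 (hQe ▸ Subgroup.mem_zpowers t)
      calc s * (t * (s * t * s⁻¹)) * s⁻¹ = (s * t * s⁻¹) * (s * s * t * (s * s)⁻¹) := by group
        _ = (s * t * s⁻¹) * t := by rw [hs2, inv_one, one_mul, mul_one]
        _ = t * (s * t * s⁻¹) := by simp only at hi; rw [← hi]; exact (Commute.self_zpow t i).symm
    by_contra hne
    have hne1 : t * (s * t * s⁻¹) ≠ 1 := fun e => hne (eq_inv_of_mul_eq_one_right e)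
    have hgen := zpowers_eq_of_prime (q := 5) (by rw [Nat.card_zpowers, ht]) hmem hne1
    obtain ⟨j, hj⟩ : t ∈ Subgroup.zpowers (t * (s * t * s⁻¹)) := hgen ▸ Subgroup.mem_zpowers t
    simp only at hj
    refine hno t ht s hso ?_
    rw [← hj]
    exact Commute.zpow_left (show Commute _ s from (mul_inv_eq_iff_eq_mul.1 hfix).symm) j
  -- two distinct involutions
  haveI : Fintype K := Fintype.ofFinite K
  obtain ⟨k₁, k₂, hk₁, hk₂, hk⟩ : ∃ k₁ k₂ : K, k₁ ≠ 1 ∧ k₂ ≠ 1 ∧ k₁ ≠ k₂ := by
    have : 2 < Fintype.card K := by rw [← Nat.card_eq_fintype_card, hK]; norm_num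
    obtain ⟨a, b, c, hab, hac, hbc⟩ := Fintype.two_lt_card_iff.1 this
    by_cases ha : a = 1
    · exact ⟨b, c, fun e => hab (ha.trans e.symm), fun e => hac (ha.trans e.symm), hbc⟩
    by_cases hb : b = 1
    · exact ⟨a, c, ha, fun e => hbc (hb.trans e.symm), hac⟩
    exact ⟨a, b, ha, hb, hab⟩
  have hprod : k₁ * k₂ ≠ 1 := fun e => hk (by
    rw [eq_inv_of_mul_eq_one_left e, inv_eq_of_mul_eq_one_right (hsq k₂)])
  have hi1 := hinv k₁ hk₁
  have hi2 := hinv k₂ hk₂
  have hi12 := hinv _ hprod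
  simp only [Subgroup.coe_mul] at hi12
  rw [show ((k₁ : N) : G) * (k₂ : N) * t * (((k₁ : N) : G) * (k₂ : N))⁻¹ =
      ((k₁ : N) : G) * (((k₂ : N) : G) * t * ((k₂ : N) : G)⁻¹) * ((k₁ : N) : G)⁻¹ by group, hi2,
    ← conj_inv, hi1, inv_inv] at hi12
  have : t ^ 2 = 1 := by rw [pow_two]; exact mul_eq_one_iff_eq_inv.2 hi12
  have h := orderOf_dvd_of_pow_eq_one this
  rw [ht] at h; norm_num at h

/-- Part of the final contradiction: an element of order 4 centralizing an element of order 3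
in `P`. -/
theorem false_of_four (hG : Cfsg.IsM11 G) (P : Sylow 3 G)
    (hM : Nat.card (Subgroup.normalizer ((P : Subgroup G) : Set G)) = 36) {x u : G}
    (hx : x ∈ (P : Subgroup G)) (hx1 : x ≠ 1) (hu : orderOf u = 4) (hux : Commute u x) : False := by
  classical
  obtain ⟨hno, hN⟩ := five_and_two hG P hM
  set C := Subgroup.centralizer ({x} : Set G) with hCdef
  set M := Subgroup.normalizer ((P : Subgroup G) : Set G) with hMdef
  have huC : u ∈ C := Subgroup.mem_centralizer_singleton_iff.2 hux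
  have h4C : 4 ∣ Nat.card C := hu ▸ Subgroup.orderOf_dvd_natCard _ huC
  obtain ⟨hK, hC72, h4⟩ : Nat.card ↥(C ⊓ M) = 18 ∧ Nat.card C = 72 ∧
      (MulAction.orbit C P).ncard = 4 := by
    rcases centralizer_cases hG P hM hx hx1 with ⟨-, h⟩ | ⟨hK, h | ⟨h, h'⟩⟩
    · rw [show C = P from h, card_nine hG] at h4C; norm_num at h4C
    · rw [show Nat.card C = 18 from h] at h4C; norm_num at h4C
    · exact ⟨hK, h, h'⟩
  obtain ⟨y, r, r', hp⟩ := exists_pair hG P hM hx hx1
    (show Nat.card ↥(C ⊓ M) ≠ 9 by rw [hK]; norm_num)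
  obtain ⟨π, hx3, hker, hcard, hfix⟩ := exists_four_action hG P hM hx hx1 h4
  obtain ⟨R, hR, hRO, -, hPR, hcases⟩ := four_setup hG P hx hx1 h4
  have hyR : y ∉ (R : Subgroup G) := fun h => hp.hyx (hPR ▸ (⟨hp.hy, h⟩ : y ∈ (P : Subgroup G) ⊓ R))
  have hr'i : r'⁻¹ = r' := inv_eq_of_mul_eq_one_right hp.hr'2
  have hr'C : ∀ c ∈ C, r' * c * r'⁻¹ ∈ C := fun c hc => by
    refine Subgroup.mem_centralizer_singleton_iff.2 ?_
    have h1 : c * x⁻¹ = x⁻¹ * c :=
      (Commute.inv_right (show Commute c x from Subgroup.mem_centralizer_singleton_iff.1 hc)).eq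
    have h2 : r' * x⁻¹ * r'⁻¹ = x := by rw [← conj_inv, hp.hr'x, inv_inv]
    calc r' * c * r'⁻¹ * x = r' * c * r'⁻¹ * (r' * x⁻¹ * r'⁻¹) := by rw [h2]
      _ = r' * (c * x⁻¹) * r'⁻¹ := by group
      _ = r' * (x⁻¹ * c) * r'⁻¹ := by rw [h1]
      _ = (r' * x⁻¹ * r'⁻¹) * (r' * c * r'⁻¹) := by group
      _ = x * (r' * c * r'⁻¹) := by rw [h2]
  have hr'P : r' • P = P := Sylow.smul_eq_iff_mem_normalizer.2 hp.hr'
  have hr'O : ∀ Q ∈ MulAction.orbit C P, r' • Q ∈ MulAction.orbit C P := by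
    rintro - ⟨⟨l, hl⟩, rfl⟩
    refine ⟨⟨r' * l * r'⁻¹, hr'C l hl⟩, ?_⟩
    show (r' * l * r'⁻¹) • P = r' • (l • P)
    rw [hr'i, mul_smul, mul_smul, hr'P]
  have hy3 : y • y • y • R = R := by
    rw [← mul_smul, ← mul_smul, show y * y * y = y ^ 3 by simp [pow_succ, mul_assoc],
      orderOf_dvd_iff_pow_eq_one.1 hp.hoy.dvd, one_smul]
  have hy1R : y • R ≠ R := fun h => hyR (mem_sylow_of_smul_eq (k := 2)
    (by simpa using orderOf_dvd_iff_pow_eq_one.1 (orderOf_dvd_nine hG P hp.hy)) R h)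
  have hall := fixes_all P R hp.hr'2 hr'P hr'O hRO hR (hcases y hp.hy hyR) hy1R hy3
    (mul_inv_eq_iff_eq_mul.1 hp.hr'y)
  have hu16 : u ^ 16 = 1 := orderOf_dvd_iff_pow_eq_one.1 (hu ▸ (by norm_num : 4 ∣ 16))
  have hru : r' * u * r'⁻¹ = u := by
    refine eq_of_action hx3 hker (hr'C u huC) huC (by rw [conj_pow, hu16]; group) hu16 ?_
    rw [← inv_mul_eq_one, ← map_inv, ← map_mul, hfix]
    intro Q hQ
    show ((r' * u * r'⁻¹)⁻¹ * u) • Q = Q
    have h1 : u • Q ∈ MulAction.orbit C P := by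
      obtain ⟨l, rfl⟩ := hQ
      exact ⟨⟨u, huC⟩ * l, mul_smul u (l : G) P⟩
    rw [mul_smul, inv_smul_eq_iff, hr'i, mul_smul, mul_smul, hall Q hQ, hall _ h1]
  set z := u * u with hz
  have hz16 : z ^ 16 = 1 := by rw [hz, ← pow_two, ← pow_mul, pow_mul', hu16, one_pow]
  have hzo : orderOf z = 2 := by
    rw [hz, ← pow_two, orderOf_pow_of_dvd (by norm_num) (hu ▸ by norm_num), hu]
  have hz1 : z ≠ 1 := fun e => by rw [e, orderOf_one] at hzo; norm_num at hzo
  have hr'o : orderOf r' = 2 := orderOf_eq_prime (by rw [pow_two, hp.hr'2]) fun e =>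
    hp.hr'P (e ▸ one_mem _)
  have hr'16 : r' ^ 16 = 1 := orderOf_dvd_iff_pow_eq_one.1 (hr'o ▸ (by norm_num : 2 ∣ 16))
  have hr'1 : r' ≠ 1 := fun e => hp.hr'P (e ▸ one_mem _)
  have hu1 : u ≠ 1 := fun e => by rw [e, orderOf_one] at hu; norm_num at hu
  set Cz := Subgroup.centralizer ({z} : Set G) with hCz
  have hxCz : x ∈ Cz := Subgroup.mem_centralizer_singleton_iff.2 ((hux.mul_left hux).eq.symm)
  have huCz : u ∈ Cz := Subgroup.mem_centralizer_singleton_iff.2 (by rw [hz]; group)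
  have hr'u : r' * u = u * r' := mul_inv_eq_iff_eq_mul.1 hru
  have hr'Cz : r' ∈ Cz := Subgroup.mem_centralizer_singleton_iff.2
    (show Commute r' (u * u) from Commute.mul_right hr'u hr'u)
  have hCz48 := card_centralizer_two hG hno hz16 hz1
  have hinvN : Nat.card ↥(Cz ⊓ Subgroup.normalizer (Subgroup.zpowers x : Set G)) =
      2 * Nat.card ↥(Cz ⊓ C) := card_inverted hp.hox hr'Cz hp.hr'x
  have h24 : 24 ∣ Nat.card ↥(Cz ⊓ Subgroup.normalizer (Subgroup.zpowers x : Set G)) := by
    rw [hinvN]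
    refine Nat.mul_dvd_mul_left 2 (Nat.Coprime.mul_dvd_of_dvd_of_dvd (by norm_num : Nat.Coprime 3 4) ?_ ?_)
    · rw [← hp.hox]; exact Subgroup.orderOf_dvd_natCard _ ⟨hxCz, Subgroup.mem_centralizer_singleton_iff.2 rfl⟩
    · rw [← hu]; exact Subgroup.orderOf_dvd_natCard _ ⟨huCz, huC⟩
  obtain ⟨hCzN, huniq⟩ := unique_three hp.hox hxCz hCz48 h24
  have hzr : ¬ IsConj z r' := by
    intro h
    obtain ⟨c, hc⟩ := isConj_iff.1 h
    have htr : ∀ g : G, Commute g r' → c⁻¹ * g * c ∈ Cz := fun g hg => by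
      refine Subgroup.mem_centralizer_singleton_iff.2 ?_
      have h' := (commute_conj_iff c⁻¹ g r').2 hg
      rw [show c⁻¹ * r' * c⁻¹⁻¹ = z by rw [← hc]; group, inv_inv] at h'
      exact h'
    have hyc : c⁻¹ * y * c ∈ Subgroup.zpowers x := by
      refine huniq _ (htr y (mul_inv_eq_iff_eq_mul.1 hp.hr'y).symm) ?_
      rw [show c⁻¹ * y * c = MulAut.conj c⁻¹ y by simp, MulEquiv.orderOf_eq, hp.hoy]
    have hy1 : c⁻¹ * y * c ≠ 1 := fun e => by
      have := congrArg (fun a => c * a * c⁻¹) e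
      simp [mul_assoc] at this
      have h3 := hp.hoy
      rw [this, orderOf_one] at h3
      norm_num at h3
    haveI : Fact (Nat.Prime 3) := ⟨Nat.prime_three⟩
    have hzp := zpowers_eq_of_prime (q := 3) (by rw [Nat.card_zpowers, hp.hox]) hyc hy1
    have hn := hCzN (htr u hr'u.symm)
    rw [← hzp] at hn
    have hup : u * y * u⁻¹ ∈ (P : Subgroup G) := by
      rcases conj_mem_pair (x := c⁻¹ * y * c) (by
        rw [← Nat.card_zpowers, hzp, Nat.card_zpowers, hp.hox]) hn with h' | h'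
      · have : u * y * u⁻¹ = y := by
          have := congrArg (fun a => c * a * c⁻¹) h'
          simpa [mul_assoc] using this
        rw [this]; exact hp.hy
      · have : u * y * u⁻¹ = y⁻¹ := by
          have := congrArg (fun a => c * a * c⁻¹) h'
          simpa [mul_assoc] using this
        rw [this]; exact inv_mem hp.hy
    have hux' : u * x * u⁻¹ ∈ (P : Subgroup G) := by
      rw [hux.eq, mul_inv_cancel_right]; exact hx
    have hA := eq_of_contains hG P hx1 hp.hyx
      (inf_le_left : (P : Subgroup G) ⊓ (P : Subgroup G).comap (MulAut.conj u).toMonoidHom ≤ P)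
      ⟨hx, hux'⟩ ⟨hp.hy, hup⟩
    have hmap : ((P : Subgroup G).map (MulAut.conj u).toMonoidHom) = P := by
      refine Subgroup.eq_of_le_of_card_ge ?_ ?_
      · rintro - ⟨q, hq, rfl⟩
        exact (hA.ge hq).2
      · rw [Subgroup.card_map_of_injective (MulAut.conj u).injective]
    have huM : u ∈ M := by
      exact Sylow.smul_eq_iff_mem_normalizer.1 (Sylow.ext hmap)
    have h4K : 4 ∣ Nat.card ↥(C ⊓ M) := hu ▸ Subgroup.orderOf_dvd_natCard _ ⟨huC, huM⟩
    rw [hK] at h4K; norm_num at h4K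
  -- class sizes
  have hcl : ∀ g : G, g ^ 16 = 1 → g ≠ 1 → 165 ≤ Nat.card {a : G // IsConj g a} ∧
      (Nat.card {a : G // IsConj g a} = 165 → Nat.card (Subgroup.centralizer ({g} : Set G)) = 48) := by
    intro g hg hg1
    have h1 := card_centralizer_mul_class g
    rw [hG.2] at h1
    have h2 := Nat.le_of_dvd (by norm_num) (card_centralizer_two hG hno hg hg1)
    constructor
    · by_contra hlt
      have := Nat.mul_le_mul (show Nat.card {a : G // IsConj g a} ≤ 164 by omega) h2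
      omega
    · intro he; rw [he] at h1; omega
  have hsub : ∀ g : G, g ^ 16 = 1 → g ≠ 1 → ∀ a, IsConj g a → a ^ 16 = 1 ∧ a ≠ 1 := by
    intro g hg hg1 a ha
    obtain ⟨c, rfl⟩ := isConj_iff.1 ha
    exact ⟨by rw [conj_pow, hg]; group, by rwa [Ne, conj_eq_one_iff]⟩
  have hord : ∀ {a b : G}, IsConj a b → orderOf a = orderOf b := fun h => by
    obtain ⟨c, rfl⟩ := isConj_iff.1 h
    exact ((MulAut.conj c).orderOf_eq _).symm
  have e1 := card_add_le (p := fun a => IsConj u a) (q := fun a => IsConj z a) (fun a h h' => by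
    have := (hord h).trans (hord h').symm; rw [hu, hzo] at this; norm_num at this)
  have e2 := card_add_le (p := fun a => IsConj u a ∨ IsConj z a) (q := fun a => IsConj r' a)
    (fun a h h' => by
      rcases h with h | h
      · have := (hord h).trans (hord h').symm; rw [hu, hr'o] at this; norm_num at this
      · exact hzr (h.trans h'.symm))
  have hsub' : ∀ a, ((IsConj u a ∨ IsConj z a) ∨ IsConj r' a) → a ^ 16 = 1 ∧ a ≠ 1 := by
    rintro a ((h | h) | h)
    · exact hsub u hu16 hu1 a h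
    · exact hsub z hz16 hz1 a h
    · exact hsub r' hr'16 hr'1 a h
  have e3 := card_mono hsub'
  obtain ⟨hu165, hu48⟩ := hcl u hu16 hu1
  obtain ⟨hz165, hz48⟩ := hcl z hz16 hz1
  obtain ⟨hr165, -⟩ := hcl r' hr'16 hr'1
  have hCu : Subgroup.centralizer ({u} : Set G) = Cz := by
    refine Subgroup.eq_of_le_of_card_ge (fun g hg => Subgroup.mem_centralizer_singleton_iff.2 ?_) ?_
    · have h' : Commute g u := Subgroup.mem_centralizer_singleton_iff.1 hg
      exact (h'.mul_right h').eq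
    · rw [hu48 (by omega), hz48 (by omega)]
  have hD24 : Nat.card ↥(Cz ⊓ C) = 24 := by
    have hz' : Nat.card Cz = 48 := hz48 (by omega)
    rw [inf_eq_left.2 hCzN, hz'] at hinvN
    omega
  set D := (Cz ⊓ C).subgroupOf C
  set φ := π.comp D.subtype
  have hDc : Nat.card D = 24 := by
    rw [Nat.card_congr (Subgroup.subgroupOfEquivOfLe (inf_le_right : Cz ⊓ C ≤ C)).toEquiv, hD24]
  have hker3 : Nat.card φ.ker ≤ 3 := by
    rw [← hp.hox, ← Nat.card_zpowers x]
    exact Nat.card_le_card_of_injective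
      (fun d => (⟨((d.1 : C) : G), (hker (d.1 : C)).1 d.2⟩ : Subgroup.zpowers x))
      fun a b h => Subtype.ext (Subtype.ext (Subtype.ext (congrArg Subtype.val h :)))
  have hrange : Nat.card φ.range ≤ 4 := by
    have hσ4 : π ⟨u, huC⟩ ^ 4 = 1 := by
      rw [← map_pow, show (⟨u, huC⟩ : C) ^ 4 = 1 from
        Subtype.ext (by simp [← hu, pow_orderOf_eq_one]), map_one]
    have hσ2 : π ⟨u, huC⟩ ^ 2 ≠ 1 := by
      rw [← map_pow]
      intro h
      have hmem : z ∈ Subgroup.zpowers x := by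
        have := (hker _).1 h
        rw [hz, ← pow_two]; simpa using this
      have := Subgroup.orderOf_dvd_natCard _ hmem
      rw [Nat.card_zpowers, hzo, hp.hox] at this; norm_num at this
    refine le_trans ?_ (perm_four_centralizer _ hσ4 hσ2)
    rw [← Nat.card_eq_finsetCard]
    refine Nat.card_le_card_of_injective (fun σ => ⟨σ.1, ?_⟩) fun a b h => Subtype.ext (congrArg Subtype.val h :)
    rw [Finset.mem_filter]
    refine ⟨Finset.mem_univ _, ?_⟩
    obtain ⟨d, hd⟩ := σ.2
    rw [← hd]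
    show π (d : C) * π ⟨u, huC⟩ = π ⟨u, huC⟩ * π (d : C)
    rw [← map_mul, ← map_mul]
    have hd' : ((d : C) : G) ∈ Subgroup.centralizer ({u} : Set G) := by
      rw [hCu]; exact (Subgroup.mem_subgroupOf.1 d.2).1
    exact congrArg π (Subtype.ext (Subgroup.mem_centralizer_singleton_iff.1 hd'))
  have hmul := φ.ker.index_mul_card
  rw [Subgroup.index_ker, hDc] at hmul
  have := Nat.mul_le_mul hrange hker3
  omega

theorem card_normalizer_three_ne (hG : Cfsg.IsM11 G) (P : Sylow 3 G) :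
    Nat.card (Subgroup.normalizer ((P : Subgroup G) : Set G)) ≠ 36 := by
  classical
  intro hM
  obtain ⟨hno, hN⟩ := five_and_two hG P hM
  obtain ⟨u, hu⟩ := exists_order_four hG hno
  have hu16 : u ^ 16 = 1 := orderOf_dvd_iff_pow_eq_one.1 (hu ▸ (by norm_num : 4 ∣ 16))
  have hu1 : u ≠ 1 := fun e => by rw [e, orderOf_one] at hu; norm_num at hu
  by_cases h3 : 3 ∣ Nat.card (Subgroup.centralizer ({u} : Set G))
  · haveI : Fact (Nat.Prime 3) := ⟨Nat.prime_three⟩
    obtain ⟨a₀, ha₀⟩ := exists_prime_orderOf_dvd_card' 3 h3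
    set a : G := (a₀ : G) with ha
    have hao : orderOf a = 3 := by rw [ha, Subgroup.orderOf_coe, ha₀]
    obtain ⟨Q, hQ⟩ := (IsPGroup.of_card (n := 1) (p := 3)
      (by rw [Nat.card_zpowers, hao, pow_one]) : IsPGroup 3 (Subgroup.zpowers a)).exists_le_sylow
    obtain ⟨c, rfl⟩ := MulAction.exists_smul_eq G P Q
    have haQ := hQ (Subgroup.mem_zpowers a)
    rw [Sylow.coe_subgroup_smul, Subgroup.mem_smul_pointwise_iff_exists] at haQ
    obtain ⟨x, hx, hxa⟩ := haQ
    have hxa' : c⁻¹ * a * c⁻¹⁻¹ = x := by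
      rw [← hxa]; show c⁻¹ * (c * x * c⁻¹) * c⁻¹⁻¹ = x; group
    refine false_of_four hG P hM (x := x) (u := c⁻¹ * u * c⁻¹⁻¹) hx ?_ ?_ ?_
    · intro e
      rw [e, smul_one] at hxa
      rw [← hxa, orderOf_one] at hao; norm_num at hao
    · rw [show c⁻¹ * u * c⁻¹⁻¹ = MulAut.conj c⁻¹ u from rfl, MulEquiv.orderOf_eq, hu]
    · rw [← hxa']
      exact (commute_conj_iff c⁻¹ u a).2 (Subgroup.mem_centralizer_singleton_iff.1 a₀.2).symm
  · have hd := card_centralizer_two hG hno hu16 hu1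
    have hc16 : Nat.card (Subgroup.centralizer ({u} : Set G)) ∣ 16 :=
      ((Nat.Prime.coprime_iff_not_dvd Nat.prime_three).2 h3).symm.dvd_of_dvd_mul_right
        (show Nat.card (Subgroup.centralizer ({u} : Set G)) ∣ 16 * 3 from hd)
    have h1 := card_centralizer_mul_class u
    rw [hG.2] at h1
    have h495 : 495 ≤ Nat.card {a : G // IsConj u a} := by
      by_contra hlt
      have := Nat.mul_le_mul (show Nat.card {a : G // IsConj u a} ≤ 494 by omega)
        (Nat.le_of_dvd (by norm_num) hc16)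
      omega
    have hzo : orderOf (u * u) = 2 := by
      rw [← pow_two, orderOf_pow_of_dvd (by norm_num) (hu ▸ by norm_num), hu]
    have e1 := card_add_le (p := fun a => IsConj u a) (q := fun a => a = u * u) (fun a h h' => by
      obtain ⟨c, hc⟩ := isConj_iff.1 h
      have h2 : orderOf a = 4 := by rw [← hc, show c * u * c⁻¹ = MulAut.conj c u from rfl,
        MulEquiv.orderOf_eq, hu]
      rw [h', hzo] at h2; norm_num at h2)
    have hsub : ∀ a, (IsConj u a ∨ a = u * u) → a ^ 16 = 1 ∧ a ≠ 1 := by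
      rintro a (h | h)
      · obtain ⟨c, rfl⟩ := isConj_iff.1 h
        exact ⟨by rw [conj_pow, hu16]; group, by rwa [Ne, conj_eq_one_iff]⟩
      · subst h
        refine ⟨by rw [(Commute.refl u).mul_pow, hu16, one_mul], fun e => ?_⟩
        rw [e, orderOf_one] at hzo; norm_num at hzo
    have e2 := card_mono hsub
    have h1c : Nat.card {a : G // a = u * u} = 1 := by
      rw [Nat.card_eq_fintype_card, Fintype.card_subtype_eq]
    omega

/-- A simple group of order 7920 has 55 Sylow 3-subgroups. -/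
theorem card_normalizer_three (hG : Cfsg.IsM11 G) (P : Sylow 3 G) :
    Nat.card (Subgroup.normalizer ((P : Subgroup G) : Set G)) = 144 := by
  have h1 := card_sylow_mul hG P
  have h2 := card_normalizer_three_ne hG P
  rcases card_sylow_three_or hG with h | h <;> rw [h] at h1 <;> omega

end Cfsg.Agent.H69.M11
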