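import Cfsg.Agent.H69.M11.ThirtySix

/-!
Centralizers of 3-elements, if the Sylow 3-normalizer had order 36.
-/

set_option autoImplicit false

namespace Cfsg.Agent.H69.M11

open Subgroup MulAction

variable {G : Type*} [Group G] [Finite G]

theorem card_centralizer_inf (hG : Cfsg.IsM11 G) (P : Sylow 3 G)
    (hM : Nat.card (Subgroup.normalizer ((P : Subgroup G) : Set G)) = 36) {x : G}
    (hx : x ∈ (P : Subgroup G)) (hx1 : x ≠ 1) :
    (Nat.card ↥(Subgroup.centralizer ({x} : Set G) ⊓ Subgroup.normalizer ((P : Subgroup G) : Set G)) = 9 ∧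
        Subgroup.centralizer ({x} : Set G) ⊓ Subgroup.normalizer ((P : Subgroup G) : Set G) = P) ∨
      Nat.card ↥(Subgroup.centralizer ({x} : Set G) ⊓ Subgroup.normalizer ((P : Subgroup G) : Set G)) = 18 := by
  set M := Subgroup.normalizer ((P : Subgroup G) : Set G)
  set K := Subgroup.centralizer ({x} : Set G) ⊓ M
  have h1 : 9 ∣ Nat.card K := (orbit_centralizer hG P hx hx1).2
  have h2 : Nat.card K ∣ 36 := hM ▸ Subgroup.card_dvd_of_le inf_le_right
  have h3 : Nat.card K ≠ 36 := fun h => hx1 (eq_one_of_central_normalizer hG P hx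
    ((Subgroup.eq_of_le_of_card_ge (inf_le_right : K ≤ M) (by rw [h, hM])).ge.trans inf_le_left))
  have h4 : Nat.card K = 9 ∨ Nat.card K = 18 := by
    obtain ⟨m, hm⟩ := h1
    rw [hm] at h2 h3
    have hm4 : m ∣ 4 := Nat.dvd_of_mul_dvd_mul_left (by norm_num : 0 < 9) (show 9 * m ∣ 9 * 4 from h2)
    have := Nat.le_of_dvd (by norm_num) hm4
    have := Nat.card_pos (α := K)
    interval_cases m <;> omega
  rcases h4 with h | h
  · refine Or.inl ⟨h, (Subgroup.eq_of_le_of_card_ge ?_ (by rw [card_nine hG, h])).symm⟩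
    exact le_inf (le_centralizer_singleton hG P hx) Subgroup.le_normalizer
  · exact Or.inr h

/-- Two elements of order 3 generating `P`. -/
theorem eq_of_contains (hG : Cfsg.IsM11 G) (P : Sylow 3 G) {x y : G}
    (hx1 : x ≠ 1) (hy : y ∉ Subgroup.zpowers x) {A : Subgroup G}
    (hA : A ≤ (P : Subgroup G)) (hxA : x ∈ A) (hyA : y ∈ A) : A = P := by
  by_contra h
  obtain ⟨b, hb, hbA⟩ : ∃ b ∈ (P : Subgroup G), b ∉ A := by
    by_contra hc
    push Not at hc
    exact h (le_antisymm hA hc)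
  exact hy ((zpowers_eq_of_prime (card_three_of_le hG P hA hxA hx1 hb hbA) hxA hx1).symm ▸ hyA)

/-- The configuration of a 3-element centralized by an element of `N(P)` outside `P`. -/
structure Pair (P : Sylow 3 G) (x y r r' : G) : Prop where
  hr : r ∈ Subgroup.normalizer ((P : Subgroup G) : Set G)
  hr' : r' ∈ Subgroup.normalizer ((P : Subgroup G) : Set G)
  hr2 : r * r = 1
  hr'2 : r' * r' = 1
  hrP : r ∉ (P : Subgroup G)
  hr'P : r' ∉ (P : Subgroup G)
  hrx : r * x * r⁻¹ = x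
  hry : r * y * r⁻¹ = y⁻¹
  hr'x : r' * x * r'⁻¹ = x⁻¹
  hr'y : r' * y * r'⁻¹ = y
  hy : y ∈ (P : Subgroup G)
  hox : orderOf x = 3
  hoy : orderOf y = 3
  hyx : y ∉ Subgroup.zpowers x
  hmx : ∀ m ∈ Subgroup.normalizer ((P : Subgroup G) : Set G), m * x * m⁻¹ ∈ Subgroup.zpowers x
  hmy : ∀ m ∈ Subgroup.normalizer ((P : Subgroup G) : Set G), m * y * m⁻¹ ∈ Subgroup.zpowers y
  cx : Nat.card ↥(Subgroup.centralizer ({x} : Set G) ⊓ Subgroup.normalizer ((P : Subgroup G) : Set G)) = 18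
  cy : Nat.card ↥(Subgroup.centralizer ({y} : Set G) ⊓ Subgroup.normalizer ((P : Subgroup G) : Set G)) = 18

theorem exists_pair (hG : Cfsg.IsM11 G) (P : Sylow 3 G)
    (hM : Nat.card (Subgroup.normalizer ((P : Subgroup G) : Set G)) = 36) {x : G}
    (hx : x ∈ (P : Subgroup G)) (hx1 : x ≠ 1)
    (h : Nat.card ↥(Subgroup.centralizer ({x} : Set G) ⊓ Subgroup.normalizer ((P : Subgroup G) : Set G)) ≠ 9) :
    ∃ y r r', Pair P x y r r' := by
  classical
  set M := Subgroup.normalizer ((P : Subgroup G) : Set G) with hMdef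
  have cx := ((card_centralizer_inf hG P hM hx hx1).resolve_left (fun h' => h h'.1))
  obtain ⟨w, hw, hw2, hinv⟩ := exists_inverter hG P hM
  haveI : Fact (Nat.Prime 2) := ⟨Nat.prime_two⟩
  haveI : Fact (Nat.Prime 3) := ⟨Nat.prime_three⟩
  obtain ⟨r₀, hr₀⟩ := exists_prime_orderOf_dvd_card'
    (G := ↥(Subgroup.centralizer ({x} : Set G) ⊓ M)) 2 (by rw [cx]; norm_num)
  set r : G := (r₀ : G) with hrdef
  have hro : orderOf r = 2 := by rw [hrdef, Subgroup.orderOf_coe, hr₀]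
  have hrM : r ∈ M := r₀.2.2
  have hr2 : r * r = 1 := H26.mul_self_of_orderOf_two hro
  have hrP : r ∉ (P : Subgroup G) := fun h => by
    have := orderOf_dvd_nine hG P h
    rw [hro] at this; norm_num at this
  have hrx : r * x * r⁻¹ = x :=
    mul_inv_eq_iff_eq_mul.2 (Subgroup.mem_centralizer_singleton_iff.1 r₀.2.1)
  have hss : ∀ q ∈ (P : Subgroup G), r * (r * q * r⁻¹) * r⁻¹ = q := fun q _ => by
    rw [show r * (r * q * r⁻¹) * r⁻¹ = r * r * q * (r * r)⁻¹ by group, hr2, inv_one, one_mul, mul_one]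
  obtain ⟨I, hI⟩ := exists_inverted hG P r
  have hxi : x⁻¹ ≠ x := fun h' => hx1 (by
    have h2 : x ^ 2 = 1 := by rw [pow_two, ← mul_inv_cancel x, h']
    rw [← pow_ten hG hx, show 10 = 2 * 5 from rfl, pow_mul, h2, one_pow])
  obtain ⟨hF3, hI3⟩ := card_fixed_inverted hG P hrM hss hrP hI
    ⟨x, hx, fun h' => hxi (((hI x).1 h').2.symm.trans hrx)⟩
  set F := (P : Subgroup G) ⊓ Subgroup.centralizer ({r} : Set G)
  have hxF : x ∈ F := ⟨hx, Subgroup.mem_centralizer_singleton_iff.2 (mul_inv_eq_iff_eq_mul.1 hrx).symm⟩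
  obtain ⟨y₀, hy₀⟩ := exists_prime_orderOf_dvd_card' (G := I) 3 (dvd_of_eq hI3.symm)
  set y : G := (y₀ : G) with hydef
  have hoy : orderOf y = 3 := by rw [hydef, Subgroup.orderOf_coe, hy₀]
  obtain ⟨hy, hry⟩ := (hI y).1 y₀.2
  have hzx : Subgroup.zpowers x = F := zpowers_eq_of_prime hF3 hxF hx1
  have hy1 : y ≠ 1 := fun h' => by rw [h', orderOf_one] at hoy; norm_num at hoy
  have hzy : Subgroup.zpowers y = I := zpowers_eq_of_prime hI3 y₀.2 hy1
  have hox : orderOf x = 3 := by rw [← Nat.card_zpowers, hzx, hF3]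
  have hyx : y ∉ Subgroup.zpowers x := fun h' => by
    rw [hzx] at h'
    have h2 : r * y * r⁻¹ = y := mul_inv_eq_iff_eq_mul.2 (Subgroup.mem_centralizer_singleton_iff.1 h'.2).symm
    rw [hry] at h2
    have h3 : y ^ 2 = 1 := by rw [pow_two, ← mul_inv_cancel y, h2]
    have := orderOf_dvd_of_pow_eq_one h3
    rw [hoy] at this; norm_num at this
  set c := w * r with hc
  have hcM : c ∈ M := mul_mem hw hrM
  have hcq : ∀ q ∈ (P : Subgroup G), c * q * c⁻¹ = (r * q * r⁻¹)⁻¹ := fun q hq => by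
    rw [show c * q * c⁻¹ = w * (r * q * r⁻¹) * w⁻¹ by rw [hc]; group,
      hinv _ ((Subgroup.mem_normalizer_iff.1 hrM q).1 hq)]
  have hcc : c * c ∈ (P : Subgroup G) := by
    rw [← centralizer_three hG P]
    intro q hq
    refine (mul_inv_eq_iff_eq_mul.1 ?_).symm
    rw [show c * c * q * (c * c)⁻¹ = c * (c * q * c⁻¹) * c⁻¹ by group, hcq q hq]
    have hrq := (Subgroup.mem_normalizer_iff.1 hrM q).1 hq
    rw [hcq _ (inv_mem hrq), ← conj_inv,
      hss q hq, inv_inv]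
  set r' := (c * c) ^ 4 * c with hr'def
  have hr'M : r' ∈ M := mul_mem (pow_mem (mul_mem hcM hcM) 4) hcM
  have hr'2 : r' * r' = 1 := by
    have h18 : (c * c) ^ 9 = 1 := orderOf_dvd_iff_pow_eq_one.1 (orderOf_dvd_nine hG P hcc)
    have hcm : Commute ((c * c) ^ 4) c :=
      ((Commute.refl c).mul_left (Commute.refl c)).pow_left 4
    calc r' * r' = (c * c) ^ 4 * (c * (c * c) ^ 4) * c := by rw [hr'def]; group
      _ = (c * c) ^ 4 * ((c * c) ^ 4 * c) * c := by rw [hcm.eq]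
      _ = (c * c) ^ 4 * (c * c) ^ 4 * (c * c) := by simp only [mul_assoc]
      _ = (c * c) ^ 9 := by rw [← pow_add, ← pow_succ]
      _ = 1 := h18
  have hr'q : ∀ q ∈ (P : Subgroup G), r' * q * r'⁻¹ = (r * q * r⁻¹)⁻¹ := fun q hq => by
    have hcq' := (Subgroup.mem_normalizer_iff.1 hcM q).1 hq
    rw [show r' * q * r'⁻¹ = (c * c) ^ 4 * (c * q * c⁻¹) * ((c * c) ^ 4)⁻¹ by rw [hr'def]; group,
      sylow_three_comm hG P _ (pow_mem hcc 4) _ hcq', mul_inv_cancel_right, hcq q hq]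
  have hr'x : r' * x * r'⁻¹ = x⁻¹ := by rw [hr'q x hx, hrx]
  have hr'y : r' * y * r'⁻¹ = y := by rw [hr'q y hy, hry, inv_inv]
  have hr'P : r' ∉ (P : Subgroup G) := fun h' => hxi (by
    rw [← hr'x, sylow_three_comm hG P _ h' x hx, mul_inv_cancel_right])
  have hmx : ∀ m ∈ M, m * x * m⁻¹ ∈ Subgroup.zpowers x := fun m hm => by
    rw [hzx]
    refine ⟨(Subgroup.mem_normalizer_iff.1 hm x).1 hx, Subgroup.mem_centralizer_singleton_iff.2 ?_⟩
    exact (mul_inv_eq_iff_eq_mul.1 (by rw [conj_comm hG P hM hrM hm hx, hrx])).symm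
  have hmy : ∀ m ∈ M, m * y * m⁻¹ ∈ Subgroup.zpowers y := fun m hm => by
    rw [hzy]
    refine (hI _).2 ⟨(Subgroup.mem_normalizer_iff.1 hm y).1 hy, ?_⟩
    rw [conj_comm hG P hM hrM hm hy, hry]; group
  have cy : Nat.card ↥(Subgroup.centralizer ({y} : Set G) ⊓ M) = 18 :=
    (card_centralizer_inf hG P hM hy hy1).resolve_left fun h' => hr'P (h'.2 ▸
      ⟨Subgroup.mem_centralizer_singleton_iff.2 (mul_inv_eq_iff_eq_mul.1 hr'y), hr'M⟩)
  exact ⟨y, r, r', hrM, hr'M, hr2, hr'2, hrP, hr'P, hrx, hry, hr'x, hr'y, hy, hox, hoy, hyx, hmx,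
    hmy, cx, cy⟩

/-- For a pair `x`, `y` the product is centralized in `N(P)` only by `P`. -/
theorem Pair.mixed (hG : Cfsg.IsM11 G) {P : Sylow 3 G} {x y r r' : G} (h : Pair P x y r r')
    (hx : x ∈ (P : Subgroup G)) :
    Subgroup.centralizer ({x * y} : Set G) ⊓ Subgroup.normalizer ((P : Subgroup G) : Set G) = P := by
  refine le_antisymm ?_ (le_inf (le_centralizer_singleton hG P (mul_mem hx h.hy)) Subgroup.le_normalizer)
  rintro m ⟨hm, hmM⟩
  have hx1 : x ≠ 1 := fun e => by have := h.hox; rw [e, orderOf_one] at this; norm_num at this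
  have h1 : m * x * m⁻¹ * (m * y * m⁻¹) = x * y := by
    rw [show m * x * m⁻¹ * (m * y * m⁻¹) = m * (x * y) * m⁻¹ by group]
    exact mul_inv_eq_iff_eq_mul.2 (Subgroup.mem_centralizer_singleton_iff.1 hm)
  have h2 : x⁻¹ * (m * x * m⁻¹) = y * (m * y * m⁻¹)⁻¹ := by
    rw [eq_mul_inv_iff_mul_eq, mul_assoc, h1]; group
  have hz : Subgroup.zpowers x ⊓ Subgroup.zpowers y = ⊥ := by
    by_contra hne
    obtain ⟨a, ha, ha1⟩ := (Subgroup.bot_or_exists_ne_one _).resolve_left hne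
    haveI : Fact (Nat.Prime 3) := ⟨Nat.prime_three⟩
    apply h.hyx
    have e1 := zpowers_eq_of_prime (q := 3) (by rw [Nat.card_zpowers, h.hox]) ha.1 ha1
    have e2 := zpowers_eq_of_prime (q := 3) (by rw [Nat.card_zpowers, h.hoy]) ha.2 ha1
    rw [← e1, e2]; exact Subgroup.mem_zpowers y
  have hz1 : x⁻¹ * (m * x * m⁻¹) = 1 := by
    rw [← Subgroup.mem_bot, ← hz]
    refine Subgroup.mem_inf.2 ⟨mul_mem (inv_mem (Subgroup.mem_zpowers x)) (h.hmx m hmM), ?_⟩
    show x⁻¹ * (m * x * m⁻¹) ∈ Subgroup.zpowers y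
    rw [h2]; exact mul_mem (Subgroup.mem_zpowers y) (inv_mem (h.hmy m hmM))
  have hmx : m * x = x * m := mul_inv_eq_iff_eq_mul.1 (inv_mul_eq_one.1 hz1).symm
  have hmy : m * y = y * m := by
    rw [hz1] at h2
    exact mul_inv_eq_iff_eq_mul.1 (mul_inv_eq_one.1 h2.symm).symm
  have hA := eq_of_contains hG P hx1 h.hyx (inf_le_left : (P : Subgroup G) ⊓ Subgroup.centralizer ({m} : Set G) ≤ P)
    ⟨hx, Subgroup.mem_centralizer_singleton_iff.2 hmx.symm⟩
    ⟨h.hy, Subgroup.mem_centralizer_singleton_iff.2 hmy.symm⟩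
  have := mem_centralizer_sylow_iff.2 (hA.ge.trans inf_le_right)
  rwa [centralizer_three hG P] at this

end Cfsg.Agent.H69.M11
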