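import Cfsg.Agent.H69.M11.Five
import Cfsg.Agent.H25.InvolutionTransfer
import Mathlib.GroupTheory.Transfer

/-!
The Sylow 3-subgroups and the centralizers of their elements in a simple group of order 7920.
-/

set_option autoImplicit false

namespace Cfsg.Agent.H69.M11

open Subgroup MulAction

variable {G : Type*} [Group G] [Finite G]

/-- The orbit of a Sylow 3-subgroup under a subgroup containing it. -/
theorem orbit_count {L : Subgroup G} (P : Sylow 3 G) (hPL : (P : Subgroup G) ≤ L) :
    (MulAction.orbit L P).ncard * Nat.card ↥(L ⊓ Subgroup.normalizer ((P : Subgroup G) : Set G)) =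
      Nat.card L ∧ (MulAction.orbit L P).ncard % 3 = 1 := by
  set M := Subgroup.normalizer ((P : Subgroup G) : Set G)
  have hstab : MulAction.stabilizer L P = M.subgroupOf L := by
    ext g
    exact Sylow.smul_eq_iff_mem_normalizer
  have hidx : (MulAction.orbit L P).ncard = (M.subgroupOf L).index := by
    rw [← hstab, MulAction.index_stabilizer]
  refine ⟨?_, ?_⟩
  · rw [hidx, ← Nat.card_congr (Subgroup.subgroupOfEquivOfLe (inf_le_left : L ⊓ M ≤ L)).toEquiv,
      Subgroup.inf_subgroupOf_left]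
    exact Subgroup.index_mul_card _
  · have h := card_sylow_modEq_one 3 L
    rw [(P.subtype hPL).card_eq_index_normalizer] at h
    have he : Subgroup.normalizer (((P.subtype hPL : Sylow 3 L)) : Set L) =
        M.subgroupOf L := (Subgroup.subgroupOf_normalizer_eq hPL).symm
    rw [he, ← hidx] at h
    exact h

theorem mem_orbit_of_le {L : Subgroup G} {P R : Sylow 3 G} (hP : (P : Subgroup G) ≤ L)
    (hR : (R : Subgroup G) ≤ L) : R ∈ MulAction.orbit L P := by
  obtain ⟨l, hl⟩ := MulAction.exists_smul_eq L (P.subtype hP) (R.subtype hR)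
  refine ⟨l, ?_⟩
  rw [Sylow.smul_subtype] at hl
  exact Sylow.subtype_injective hl

theorem le_centralizer_singleton (hG : Cfsg.IsM11 G) (P : Sylow 3 G) {x : G}
    (hx : x ∈ (P : Subgroup G)) : (P : Subgroup G) ≤ Subgroup.centralizer ({x} : Set G) :=
  fun a ha => Subgroup.mem_centralizer_singleton_iff.2 (sylow_three_comm hG P a ha x hx)

theorem orderOf_dvd_nine (hG : Cfsg.IsM11 G) (P : Sylow 3 G) {x : G}
    (hx : x ∈ (P : Subgroup G)) : orderOf x ∣ 9 :=
  card_nine hG P ▸ Subgroup.orderOf_dvd_natCard _ hx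

theorem not_dvd_centralizer_three (hG : Cfsg.IsM11 G) (P : Sylow 3 G) {x : G}
    (hx : x ∈ (P : Subgroup G)) (hx1 : x ≠ 1) :
    ¬ 5 ∣ Nat.card (Subgroup.centralizer ({x} : Set G)) ∧
      ¬ 11 ∣ Nat.card (Subgroup.centralizer ({x} : Set G)) := by
  refine ⟨fun h => hx1 ?_, fun h => hx1 ?_⟩ <;> rw [← orderOf_eq_one_iff]
  · exact Nat.eq_one_of_dvd_coprimes (by norm_num : Nat.Coprime 9 10) (orderOf_dvd_nine hG P hx)
      (orderOf_dvd_ten hG h)
  · exact Nat.eq_one_of_dvd_coprimes (by norm_num : Nat.Coprime 9 11) (orderOf_dvd_nine hG P hx)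
      (orderOf_dvd_eleven hG h)

/-- The number of Sylow 3-subgroups through an element of order a power of 3 is 1, 4 or 16. -/
theorem orbit_centralizer (hG : Cfsg.IsM11 G) (P : Sylow 3 G) {x : G}
    (hx : x ∈ (P : Subgroup G)) (hx1 : x ≠ 1) :
    (MulAction.orbit (Subgroup.centralizer ({x} : Set G)) P).ncard ∈ ({1, 4, 16} : Finset ℕ) ∧
      9 ∣ Nat.card ↥(Subgroup.centralizer ({x} : Set G) ⊓
        Subgroup.normalizer ((P : Subgroup G) : Set G)) := by
  obtain ⟨h1, h2⟩ := orbit_count P (le_centralizer_singleton hG P hx)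
  set C := Subgroup.centralizer ({x} : Set G)
  set n := (MulAction.orbit C P).ncard with hn
  set m := Nat.card ↥(C ⊓ Subgroup.normalizer ((P : Subgroup G) : Set G))
  have h9 : 9 ∣ m := card_nine hG P ▸
    Subgroup.card_dvd_of_le (le_inf (le_centralizer_singleton hG P hx) Subgroup.le_normalizer)
  have hd : n * m ∣ 7920 := by rw [h1, ← hG.2]; exact Subgroup.card_subgroup_dvd_card _
  have hn7 : n * 9 ∣ 7920 := (Nat.mul_dvd_mul_left n h9).trans hd
  have hn880 : n ∣ 880 := Nat.dvd_of_mul_dvd_mul_right (by norm_num : 0 < 9) (show n * 9 ∣ 880 * 9 from hn7)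
  obtain ⟨h5, h11⟩ := not_dvd_centralizer_three hG P hx hx1
  rw [← h1] at h5 h11
  have hc5 : n.Coprime 5 := ((Nat.Prime.coprime_iff_not_dvd (by norm_num)).2
    fun h => h5 (dvd_mul_of_dvd_left h _)).symm
  have hc11 : n.Coprime 11 := ((Nat.Prime.coprime_iff_not_dvd (by norm_num)).2
    fun h => h11 (dvd_mul_of_dvd_left h _)).symm
  have h16 : n ∣ 16 := hc5.dvd_of_dvd_mul_right (hc11.dvd_of_dvd_mul_right (show n ∣ 16 * 5 * 11 from hn880))
  refine ⟨?_, h9⟩
  obtain ⟨i, hi, hi'⟩ := (Nat.dvd_prime_pow Nat.prime_two).1 (show n ∣ 2 ^ 4 from h16)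
  rw [hi'] at h2 ⊢
  interval_cases i <;> simp at h2 ⊢

/-- A 3-element central in the normalizer of an abelian Sylow 3-subgroup is trivial. -/
theorem eq_one_of_central_normalizer (hG : Cfsg.IsM11 G) (P : Sylow 3 G) {x : G}
    (hx : x ∈ (P : Subgroup G))
    (hc : Subgroup.normalizer ((P : Subgroup G) : Set G) ≤ Subgroup.centralizer ({x} : Set G)) :
    x = 1 := by
  haveI := hG.1
  by_contra hx1
  haveI : IsMulCommutative (P : Subgroup G) :=
    ⟨⟨fun a b => Subtype.ext (sylow_three_comm hG P a a.2 b b.2)⟩⟩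
  letI : CommGroup (P : Subgroup G) :=
    { (inferInstance : Group (P : Subgroup G)) with
      mul_comm := fun a b => Subtype.ext (sylow_three_comm hG P a a.2 b b.2) }
  have key : ∀ (k : ℕ) (g₀ : G), g₀⁻¹ * x ^ k * g₀ ∈ (P : Subgroup G) →
      g₀⁻¹ * x ^ k * g₀ = x ^ k := by
    intro k g₀ hk
    obtain ⟨n, hn, hn'⟩ := Sylow.conj_eq_normalizer_conj_of_mem P (x ^ k) g₀ (pow_mem hx k) hk
    have hcn : x * n = n * x := (Subgroup.mem_centralizer_singleton_iff.1 (hc hn)).symm
    rw [hn']
    have h' : x ^ k * n = n * x ^ k := Commute.pow_left hcn k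
    rw [mul_assoc, h', inv_mul_cancel_left]
  have hidx : (P : Subgroup G).index = 880 := by
    have h := (P : Subgroup G).index_mul_card
    rw [card_nine hG P, hG.2] at h
    omega
  have ht := MonoidHom.transfer_eq_pow (MonoidHom.id (P : Subgroup G)) x key
  set tr := MonoidHom.transfer (MonoidHom.id (P : Subgroup G))
  have hne : tr x ≠ 1 := by
    rw [ht]
    intro h
    have h1 : x ^ 880 = 1 := by
      have h0 := congrArg Subtype.val h
      simp only [MonoidHom.id_apply, Subgroup.coe_one] at h0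
      rw [← hidx]; exact h0
    exact hx1 (orderOf_eq_one_iff.1 (Nat.eq_one_of_dvd_coprimes (by norm_num : Nat.Coprime 9 880)
      (orderOf_dvd_nine hG P hx) (orderOf_dvd_of_pow_eq_one h1)))
  have hinj := injective_of_ne_one tr hne
  exact not_comm hG ⟨⟨fun a b => hinj (by rw [map_mul, map_mul, mul_comm])⟩⟩

/-- An involution centralizing a Sylow 3-subgroup centralizes every Sylow 3-subgroup meeting it. -/
theorem mem_centralizer_of_meet (hG : Cfsg.IsM11 G) {s : G} (hs : orderOf s = 2) (P R : Sylow 3 G)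
    (hsP : s ∈ Subgroup.centralizer ((P : Subgroup G) : Set G)) {x : G}
    (hxP : x ∈ (P : Subgroup G)) (hxR : x ∈ (R : Subgroup G)) (hx1 : x ≠ 1) :
    s ∈ Subgroup.centralizer ((R : Subgroup G) : Set G) := by
  classical
  by_cases hRP : R = P
  · rwa [hRP]
  obtain ⟨horb, h9⟩ := orbit_centralizer hG P hxP hx1
  obtain ⟨hmul, -⟩ := orbit_count P (le_centralizer_singleton hG P hxP)
  set C := Subgroup.centralizer ({x} : Set G) with hC
  have hsC : s ∈ C := Subgroup.mem_centralizer_singleton_iff.2 (hsP x hxP).symm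
  have hs2 : s * s = 1 := H26.mul_self_of_orderOf_two hs
  have hsN : s ∈ Subgroup.normalizer ((P : Subgroup G) : Set G) :=
    Subgroup.centralizer_le_normalizer _ hsP
  have h2 : 2 ∣ Nat.card ↥(C ⊓ Subgroup.normalizer ((P : Subgroup G) : Set G)) :=
    hs ▸ Subgroup.orderOf_dvd_natCard _ ⟨hsC, hsN⟩
  have hR : R ∈ MulAction.orbit C P :=
    mem_orbit_of_le (le_centralizer_singleton hG P hxP) (le_centralizer_singleton hG R hxR)
  have h4 : (MulAction.orbit C P).ncard = 4 := by
    have h18 := Nat.Coprime.mul_dvd_of_dvd_of_dvd (by norm_num : Nat.Coprime 9 2) h9 h2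
    have hd := (Nat.mul_dvd_mul_left (MulAction.orbit C P).ncard h18).trans
      (hmul ▸ hG.2 ▸ Subgroup.card_subgroup_dvd_card C)
    simp only [Finset.mem_insert, Finset.mem_singleton] at horb
    rcases horb with h | h | h
    · exfalso
      obtain ⟨a, ha⟩ := Set.ncard_eq_one.1 h
      have h1 : P ∈ MulAction.orbit C P := MulAction.mem_orbit_self P
      rw [ha, Set.mem_singleton_iff] at h1 hR
      exact hRP (hR.trans h1.symm)
    · exact h
    · exfalso; rw [h] at hd; norm_num at hd
  have hPC := le_centralizer_singleton hG P hxP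
  have hmem : ∀ g ∈ C, ∀ Q ∈ MulAction.orbit C P, g • Q ∈ MulAction.orbit C P := by
    rintro g hg Q ⟨c, rfl⟩
    exact ⟨⟨g, hg⟩ * c, mul_smul g (c : G) P⟩
  have hsfix : s • P = P := Sylow.smul_eq_iff_mem_normalizer.2 hsN
  have hfix : ∀ q ∈ (P : Subgroup G), ∀ Q : Sylow 3 G, q • Q = Q → q ∈ (Q : Subgroup G) := fun q hq Q h =>
    mem_sylow_of_smul_eq (k := 2) (by
      simpa using orderOf_dvd_iff_pow_eq_one.1 (orderOf_dvd_nine hG P hq)) Q h
  obtain ⟨y, hy, hyR⟩ : ∃ y ∈ (P : Subgroup G), y • R ≠ R := by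
    by_contra hcon
    push Not at hcon
    refine hRP (Sylow.ext (Subgroup.eq_of_le_of_card_ge (fun q hq => hfix q hq R (hcon q hq)) ?_).symm)
    rw [card_nine hG R, card_nine hG P]
  have hyfix : y • P = P := Sylow.smul_eq_iff_mem_normalizer.2 (Subgroup.le_normalizer hy)
  -- the three other points
  have hy3 : y ^ 3 • R = R ∧ ∀ Q ∈ MulAction.orbit C P, Q = P ∨ ∃ i : ℕ, i < 3 ∧ Q = y ^ i • R := by
    set T : Finset (Sylow 3 G) := (MulAction.orbit C P).toFinite.toFinset.erase P with hT
    have hTc : T.card = 3 := by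
      rw [hT, Finset.card_erase_of_mem (by simp), ← Set.ncard_eq_toFinset_card _, h4]
    have hmemT : ∀ Q, Q ∈ T → y • Q ∈ T := by
      intro Q hQ
      simp only [hT, Finset.mem_erase, Set.Finite.mem_toFinset] at hQ ⊢
      exact ⟨fun h => hQ.1 (smul_left_cancel y (h.trans hyfix.symm)), hmem y (hPC hy) Q hQ.2⟩
    have hRT : R ∈ T := by simp [hT, hRP, hR]
    have h1 : y • R ∈ T := hmemT R hRT
    have h2T : y ^ 2 • R ∈ T := by rw [pow_two, mul_smul]; exact hmemT _ h1
    have h3 : y ^ 3 • R ∈ T := by rw [pow_succ', mul_smul]; exact hmemT _ h2T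
    have hstab : ∀ i : ℕ, y ^ i • R = R → Nat.Coprime i 9 → False := by
      intro i hi hcop
      obtain ⟨m, hm⟩ := exists_pow_eq_self_of_coprime
        (Nat.Coprime.coprime_dvd_right (orderOf_dvd_nine hG P hy) hcop)
      have := (MulAction.stabilizer G R).pow_mem (show y ^ i ∈ MulAction.stabilizer G R from hi) m
      rw [hm] at this
      exact hyR this
    have hne2 : y ^ 2 • R ≠ R := fun h => hstab 2 h (by norm_num)
    have hne12 : y ^ 2 • R ≠ y • R := fun h => by
      rw [pow_two, mul_smul] at h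
      exact hyR (smul_left_cancel y h)
    have hsub : ({R, y • R, y ^ 2 • R} : Finset (Sylow 3 G)) = T := by
      refine Finset.eq_of_subset_of_card_le ?_ ?_
      · simp [Finset.insert_subset_iff, hRT, h1, h2T]
      · rw [hTc, Finset.card_eq_three.2 ⟨R, y • R, y ^ 2 • R, Ne.symm hyR, Ne.symm hne2,
          Ne.symm hne12, rfl⟩]
    refine ⟨?_, fun Q hQ => ?_⟩
    · rw [← hsub] at h3
      simp only [Finset.mem_insert, Finset.mem_singleton] at h3
      rcases h3 with h | h | h
      · exact h
      · rw [pow_succ', mul_smul] at h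
        exact absurd (smul_left_cancel y h) hne2
      · rw [pow_succ' y 2, mul_smul] at h
        rw [pow_two, mul_smul] at h
        exact absurd (smul_left_cancel y (smul_left_cancel y h)) hyR
    · by_cases hQP : Q = P
      · exact Or.inl hQP
      · right
        have : Q ∈ T := by simp [hT, hQP, hQ]
        rw [← hsub] at this
        simp only [Finset.mem_insert, Finset.mem_singleton] at this
        rcases this with h | h | h
        · exact ⟨0, by norm_num, by simpa using h⟩
        · exact ⟨1, by norm_num, by simpa using h⟩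
        · exact ⟨2, by norm_num, h⟩
  have hsy : Commute s y := (hsP y hy).symm
  have hsR : s • R = R := by
    rcases hy3.2 (s • R) (hmem s hsC R hR) with h | ⟨i, hi, h⟩
    · exact absurd (smul_left_cancel s (h.trans hsfix.symm)) hRP
    · have h' : y ^ (i + i) • R = R := by
        rw [pow_add, mul_smul, ← h, ← mul_smul, (hsy.pow_right i).symm.eq, mul_smul, ← h,
          ← mul_smul, hs2, one_smul]
      interval_cases i
      · simpa using h
      · exfalso
        rw [pow_two, mul_smul] at h'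
        have h3 := hy3.1
        rw [pow_succ', pow_two, mul_smul, mul_smul, h'] at h3
        exact hyR h3
      · exfalso
        rw [show 2 + 2 = 1 + 3 from rfl, pow_add, mul_smul, hy3.1, pow_one] at h'
        exact hyR h'
  have hsall : ∀ Q ∈ MulAction.orbit C P, s • Q = Q := by
    intro Q hQ
    rcases hy3.2 Q hQ with rfl | ⟨i, -, rfl⟩
    · exact hsfix
    · rw [← mul_smul, (hsy.pow_right i).eq, mul_smul, hsR]
  intro q hq
  have hqC : q ∈ C := le_centralizer_singleton hG R hxR hq
  set h := q⁻¹ * s * q * s with hh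
  have hhR : h ∈ (R : Subgroup G) := by
    rw [hh, mul_assoc, mul_assoc]
    refine mul_mem (inv_mem hq) ?_
    have := (Subgroup.mem_normalizer_iff.1 (Sylow.smul_eq_iff_mem_normalizer.1 hsR) q).1 hq
    rwa [inv_eq_of_mul_eq_one_right hs2, mul_assoc] at this
  have hhP : h • P = P := by
    rw [hh, mul_smul, mul_smul, mul_smul, hsfix, hsall _ (hmem q hqC P (MulAction.mem_orbit_self P)),
      inv_smul_smul]
  have hhinP : h ∈ (P : Subgroup G) := mem_sylow_of_smul_eq (k := 2) (by
    simpa using orderOf_dvd_iff_pow_eq_one.1 (orderOf_dvd_nine hG R hhR)) P hhP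
  have hsh : h * s = s * h := hsP h hhinP
  have hsqs : s * q * s = q * h := by rw [hh]; group
  have hh2 : q = q * h * h := by
    calc q = s * (s * q * s) * s := by simp [← mul_assoc, hs2]; rw [mul_assoc, hs2, mul_one]
      _ = s * q * h * s := by rw [hsqs]; group
      _ = s * q * (s * h) := by rw [mul_assoc _ h s, hsh]
      _ = q * h * h := by rw [← mul_assoc, hsqs]
  have h21 : h ^ 2 = 1 := by
    rw [pow_two]
    rw [mul_assoc] at hh2
    exact (mul_eq_left.1 hh2.symm)
  have h1 : h = 1 := orderOf_eq_one_iff.1 (Nat.eq_one_of_dvd_coprimes (by norm_num : Nat.Coprime 9 2)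
    (orderOf_dvd_nine hG R hhR) (orderOf_dvd_of_pow_eq_one h21))
  rw [h1, mul_one] at hsqs
  show q * s = s * q
  calc q * s = (s * q * s) * s := by rw [hsqs]
    _ = s * q := by rw [mul_assoc, hs2, mul_one]

end Cfsg.Agent.H69.M11
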