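import Cfsg.Agent.H69.M11.TrivialInt

/-!
The three Sylow 3-subgroups inverted by an involution.
-/

set_option autoImplicit false

namespace Cfsg.Agent.H69.M11

open Subgroup MulAction

variable {G : Type*} [Group G]

/-- `w` is an involution inverting `Q`. -/
def Inverts (w : G) (Q : Sylow 3 G) : Prop :=
  orderOf w = 2 ∧ ∀ q ∈ (Q : Subgroup G), w * q * w⁻¹ = q⁻¹

/-- Two distinct Sylow 3-subgroups are adjacent if one involution inverts both. -/
def Adj (P Q : Sylow 3 G) : Prop :=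
  P ≠ Q ∧ ∃ w, Inverts w P ∧ Inverts w Q

theorem Adj.symm {P Q : Sylow 3 G} (h : Adj P Q) : Adj Q P :=
  ⟨h.1.symm, let ⟨w, h1, h2⟩ := h.2; ⟨w, h2, h1⟩⟩

theorem mem_smul_iff {p : ℕ} (g x : G) (Q : Sylow p G) :
    x ∈ ((g • Q : Sylow p G) : Subgroup G) ↔ g⁻¹ * x * g ∈ (Q : Subgroup G) := by
  rw [Sylow.coe_subgroup_smul, Subgroup.mem_pointwise_smul_iff_inv_smul_mem]
  simp [MulAut.smul_def]

theorem Inverts.smul {w : G} {Q : Sylow 3 G} (h : Inverts w Q) (g : G) :
    Inverts (g * w * g⁻¹) (g • Q) := by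
  refine ⟨((MulAut.conj g).orderOf_eq w).trans h.1, fun x hx => ?_⟩
  rw [mem_smul_iff] at hx
  rw [show g * w * g⁻¹ * x * (g * w * g⁻¹)⁻¹ = g * (w * (g⁻¹ * x * g) * w⁻¹) * g⁻¹ by group, h.2 _ hx]
  group

theorem Adj.smul {P Q : Sylow 3 G} (h : Adj P Q) (g : G) : Adj (g • P) (g • Q) := by
  obtain ⟨hne, w, h1, h2⟩ := h
  exact ⟨fun e => hne (smul_left_cancel g e), g * w * g⁻¹, h1.smul g, h2.smul g⟩

theorem adj_smul_iff {P Q : Sylow 3 G} (g : G) : Adj (g • P) (g • Q) ↔ Adj P Q :=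
  ⟨fun h => by simpa using h.smul g⁻¹, fun h => h.smul g⟩

theorem Inverts.mem_normalizer [Finite G] {w : G} {Q : Sylow 3 G} (h : Inverts w Q) :
    w ∈ Subgroup.normalizer ((Q : Subgroup G) : Set G) := by
  refine Sylow.smul_eq_iff_mem_normalizer.1 (Sylow.ext (Subgroup.eq_of_le_of_card_ge ?_ ?_))
  · intro x hx
    rw [mem_smul_iff] at hx
    have h2 := inv_mem hx
    rw [← h.2 _ hx, show w * (w⁻¹ * x * w) * w⁻¹ = x by group] at h2
    exact h2
  · rw [Sylow.coe_subgroup_smul]
    exact le_of_eq (Nat.card_congr (Subgroup.equivSMul _ _).toEquiv)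

/-- The configuration around `P`. -/
structure Nbhd (P A B : Sylow 3 G) (w σ : G) (K : Subgroup G) : Prop where
  hw : Inverts w P
  hwA : Inverts w A
  hwB : Inverts w B
  hAP : A ≠ P
  hBP : B ≠ P
  hAB : A ≠ B
  hσ : σ • P = P
  hσA : σ • A = B
  hσB : σ • B = A
  cardK : Nat.card K = 8
  fixK : ∀ k ∈ K, k • P = P ∧ k • A = A ∧ k • B = B
  trans : ∀ q ∈ (P : Subgroup G), q ≠ 1 → ∀ p ∈ (P : Subgroup G), p ≠ 1 → ∃ k ∈ K, k * q * k⁻¹ = p
  regA : ∀ q ∈ (P : Subgroup G), q • A = A → q = 1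
  regB : ∀ q ∈ (P : Subgroup G), q • B = B → q = 1
  sep : ∀ q ∈ (P : Subgroup G), q • A ≠ B
  nbr : ∀ Q, Adj P Q → ∃ q ∈ (P : Subgroup G), Q = q • A ∨ Q = q • B

variable [Finite G]

theorem exists_nbhd (hG : Cfsg.IsM11 G) (P : Sylow 3 G) :
    ∃ A B w σ K, Nbhd P A B w σ K := by
  classical
  obtain ⟨w, hwM, hwo, hwinv⟩ := exists_inverter' hG P
  have hw : Inverts w P := ⟨hwo, hwinv⟩
  set M := Subgroup.normalizer ((P : Subgroup G) : Set G) with hMdef
  set C := Subgroup.centralizer ({w} : Set G) with hCdef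
  set S := C ⊓ M with hSdef
  have hS : Nat.card S = 16 := card_centralizer_inverter hG P hwM hwinv
  have hC : Nat.card C = 48 := card_centralizer_involution hG hwo
  -- the orbit of `P` under `C(w)`
  have hst : MulAction.stabilizer C P = M.subgroupOf C := by
    ext g; exact Sylow.smul_eq_iff_mem_normalizer
  have horb : (MulAction.orbit C P).ncard = 3 := by
    have h := Subgroup.index_mul_card (MulAction.stabilizer C P)
    rw [MulAction.index_stabilizer, hst, hC] at h
    have h2 : Nat.card (M.subgroupOf C) = Nat.card S := by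
      rw [hSdef, ← Subgroup.inf_subgroupOf_left]
      exact Nat.card_congr (Subgroup.subgroupOfEquivOfLe inf_le_left).toEquiv
    rw [h2, hS] at h
    omega
  have hinv : ∀ Q ∈ MulAction.orbit C P, Inverts w Q := by
    rintro - ⟨⟨c, hc⟩, rfl⟩
    have := hw.smul c
    rwa [Subgroup.mem_centralizer_singleton_iff.1 hc, mul_inv_cancel_right] at this
  have hall : ∀ Q, Inverts w Q → Q ∈ MulAction.orbit C P := by
    intro Q hQ
    obtain ⟨g, rfl⟩ := MulAction.exists_smul_eq G P Q
    have h' := hQ.smul g⁻¹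
    rw [inv_smul_smul, inv_inv] at h'
    obtain ⟨q, hq, hqw⟩ := isConj_inverter hG P hwinv h'.2
    refine ⟨⟨g * q, Subgroup.mem_centralizer_singleton_iff.2 ?_⟩, ?_⟩
    · calc g * q * w = g * (q * w * q⁻¹) * q := by group
        _ = w * (g * q) := by rw [hqw]; group
    · show (g * q) • P = g • P
      rw [mul_smul, Sylow.smul_eq_iff_mem_normalizer.2 (Subgroup.le_normalizer hq)]
  obtain ⟨A, B, hAB, hset⟩ : ∃ A B, A ≠ B ∧ MulAction.orbit C P \ {P} = {A, B} := by
    refine Set.ncard_eq_two.1 ?_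
    rw [Set.ncard_sdiff_singleton_of_mem (MulAction.mem_orbit_self P), horb]
  have hA : A ∈ MulAction.orbit C P \ {P} := hset ▸ Set.mem_insert A {B}
  have hB : B ∈ MulAction.orbit C P \ {P} := hset ▸ Set.mem_insert_of_mem A rfl
  have hcases : ∀ Q, Inverts w Q → Q = P ∨ Q = A ∨ Q = B := fun Q hQ => by
    by_cases h : Q = P
    · exact Or.inl h
    · have : Q ∈ MulAction.orbit C P \ {P} := ⟨hall Q hQ, h⟩
      rw [hset] at this
      exact Or.inr this
  have hAP : A ≠ P := hA.2
  have hBP : B ≠ P := hB.2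
  have hwA := hinv A hA.1
  have hwB := hinv B hB.1
  have hSP : ∀ s ∈ S, s • P = P := fun s hs => Sylow.smul_eq_iff_mem_normalizer.2 hs.2
  have hSinv : ∀ s ∈ S, ∀ Q, Inverts w Q → Inverts w (s • Q) := fun s hs Q hQ => by
    have := hQ.smul s
    rwa [Subgroup.mem_centralizer_singleton_iff.1 hs.1, mul_inv_cancel_right] at this
  have hSA : ∀ s ∈ S, s • A = A ∧ s • B = B ∨ s • A = B ∧ s • B = A := by
    intro s hs
    rcases hcases _ (hSinv s hs A hwA) with h | h | h
    · exact absurd (smul_left_cancel s (h.trans (hSP s hs).symm)) hAP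
    · refine Or.inl ⟨h, ?_⟩
      rcases hcases _ (hSinv s hs B hwB) with h' | h' | h'
      · exact absurd (smul_left_cancel s (h'.trans (hSP s hs).symm)) hBP
      · exact absurd (smul_left_cancel s (h.trans h'.symm)) hAB
      · exact h'
    · refine Or.inr ⟨h, ?_⟩
      rcases hcases _ (hSinv s hs B hwB) with h' | h' | h'
      · exact absurd (smul_left_cancel s (h'.trans (hSP s hs).symm)) hBP
      · exact h'
      · exact absurd (smul_left_cancel s (h.trans h'.symm)) hAB
  set K := S ⊓ MulAction.stabilizer G A with hKdef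
  have hfixK : ∀ k ∈ K, k • P = P ∧ k • A = A ∧ k • B = B := by
    rintro k ⟨hk, hkA⟩
    rcases hSA k hk with h | h
    · exact ⟨hSP k hk, h⟩
    · exact absurd ((MulAction.mem_stabilizer_iff.1 hkA).symm.trans h.1) hAB
  -- an element of order 3 acts on `K`
  haveI : Fact (Nat.Prime 3) := ⟨Nat.prime_three⟩
  haveI : Fact (Nat.Prime 2) := ⟨Nat.prime_two⟩
  obtain ⟨x₀, hx₀⟩ := exists_prime_orderOf_dvd_card' (G := C) 3 (by rw [hC]; norm_num)
  set x : G := (x₀ : G) with hxdef
  have hxo : orderOf x = 3 := by rw [hxdef, Subgroup.orderOf_coe, hx₀]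
  have hx1 : x ≠ 1 := fun e => by rw [e, orderOf_one] at hxo; norm_num at hxo
  have hxK : ∀ c ∈ C, ∀ k ∈ K, c * k * c⁻¹ ∈ K := by
    intro c hc k hk
    obtain ⟨h1, h2, h3⟩ := hfixK k hk
    have hperm : ∀ Q, Inverts w Q → (c * k * c⁻¹) • Q = Q := by
      intro Q hQ
      have hQ' : Inverts w (c⁻¹ • Q) := by
        have := hQ.smul c⁻¹
        rwa [Subgroup.mem_centralizer_singleton_iff.1 (inv_mem hc), mul_inv_cancel_right] at this
      rw [mul_smul, mul_smul]
      rcases hcases _ hQ' with h | h | h <;> rw [h]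
      · rw [h1, ← h, smul_inv_smul]
      · rw [h2, ← h, smul_inv_smul]
      · rw [h3, ← h, smul_inv_smul]
    exact Subgroup.mem_inf.2 ⟨Subgroup.mem_inf.2 ⟨mul_mem (mul_mem hc hk.1.1) (inv_mem hc),
      Sylow.smul_eq_iff_mem_normalizer.1 (hperm P hw)⟩, hperm A hwA⟩
  have hX : ∀ g ∈ Subgroup.zpowers x, g ∈ C := fun g hg => Subgroup.zpowers_le.2 x₀.2 hg
  letI : MulAction (Subgroup.zpowers x) K :=
    { smul := fun g k => ⟨(g : G) * k * (g : G)⁻¹, hxK _ (hX g g.2) k k.2⟩
      one_smul := fun k => Subtype.ext (show (1 : G) * k * (1 : G)⁻¹ = k by group)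
      mul_smul := fun a b k => Subtype.ext
        (show (a : G) * b * k * ((a : G) * b)⁻¹ = a * (b * k * (b : G)⁻¹) * (a : G)⁻¹ by group) }
  have hwK : w ∈ K := ⟨⟨Subgroup.mem_centralizer_singleton_iff.2 rfl, hwM⟩,
    Sylow.smul_eq_iff_mem_normalizer.2 hwA.mem_normalizer⟩
  have hw1 : w ≠ 1 := fun e => by rw [e, orderOf_one] at hwo; norm_num at hwo
  have hKS : Nat.card K ∣ 16 := hS ▸ Subgroup.card_dvd_of_le inf_le_left
  have hxC18 : Nat.card (Subgroup.centralizer ({x} : Set G)) = 18 := by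
    obtain ⟨R, hR⟩ := (IsPGroup.of_card (n := 1) (p := 3)
      (by rw [Nat.card_zpowers, hxo, pow_one]) : IsPGroup 3 (Subgroup.zpowers x)).exists_le_sylow
    exact (card_centralizer_three_elem hG R (hR (Subgroup.mem_zpowers x)) hx1).1
  have hfix2 : ∀ k ∈ K, Commute x k → k = 1 ∨ k = w := by
    intro k hk hxk
    set F := K ⊓ Subgroup.centralizer ({x} : Set G)
    have h1 : Nat.card F ∣ 16 := (Subgroup.card_dvd_of_le inf_le_left).trans hKS
    have h2 : Nat.card F ∣ 18 := hxC18 ▸ Subgroup.card_dvd_of_le inf_le_right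
    have h3 : Nat.card F ∣ 2 := Nat.dvd_gcd h1 h2
    have hwF : w ∈ F := ⟨hwK, Subgroup.mem_centralizer_singleton_iff.2
      (Subgroup.mem_centralizer_singleton_iff.1 x₀.2).symm⟩
    have he : Subgroup.zpowers w = F := Subgroup.eq_of_le_of_card_ge (Subgroup.zpowers_le.2 hwF)
      (by rw [Nat.card_zpowers, hwo]; exact Nat.le_of_dvd (by norm_num) h3)
    have hkF : k ∈ Subgroup.zpowers w := he.ge ⟨hk, Subgroup.mem_centralizer_singleton_iff.2 hxk.symm⟩
    obtain ⟨j, rfl⟩ := (mem_powers_iff_mem_zpowers (x := w)).2 hkF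
    simp only
    rw [← pow_mod_orderOf, hwo]
    rcases Nat.mod_two_eq_zero_or_one j with e | e <;> rw [e]
    · exact Or.inl (pow_zero w)
    · exact Or.inr (pow_one w)
  have hfixed : ∀ k : K, k ∈ MulAction.fixedPoints (Subgroup.zpowers x) K →
      (k : G) = 1 ∨ (k : G) = w := fun k hk => hfix2 k k.2 (by
    have h := congrArg Subtype.val (hk ⟨x, Subgroup.mem_zpowers x⟩)
    exact mul_inv_eq_iff_eq_mul.1 (h :))
  have hmem2 : ∀ k : K, k ∈ MulAction.fixedPoints (Subgroup.zpowers x) K ↔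
      k ∈ ({1, ⟨w, hwK⟩} : Set K) := by
    intro k
    constructor
    · intro hk
      rcases hfixed k hk with h | h
      · exact Or.inl (Subtype.ext h)
      · exact Or.inr (Subtype.ext h)
    · rintro (rfl | rfl) g
      · exact Subtype.ext (show (g : G) * 1 * (g : G)⁻¹ = 1 by group)
      · exact Subtype.ext (mul_inv_eq_iff_eq_mul.2 (Subgroup.mem_centralizer_singleton_iff.1 (hX g g.2)))
  have hp3 : IsPGroup 3 (Subgroup.zpowers x) := IsPGroup.of_card (n := 1) (by
    rw [Nat.card_zpowers, hxo, pow_one])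
  have hmod : Nat.card K % 3 = 2 := by
    have h := hp3.card_modEq_card_fixedPoints K
    rw [Set.ext hmem2, Nat.card_coe_set_eq, Set.ncard_pair (fun e => hw1 (congrArg Subtype.val e).symm)] at h
    exact h
  have hSK : ∃ σ ∈ S, σ • A = B := by
    by_contra hcon
    push Not at hcon
    have he : K = S := le_antisymm inf_le_left fun s hs => ⟨hs, by
      rcases hSA s hs with h | h
      · exact h.1
      · exact absurd h.1 (hcon s hs)⟩
    rw [he, hS] at hmod
    norm_num at hmod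
  obtain ⟨σ, hσS, hσA⟩ := hSK
  have hσB : σ • B = A := by
    rcases hSA σ hσS with h | h
    · exact absurd (h.1.symm.trans hσA) hAB
    · exact h.2
  have hidx : (K.subgroupOf S).index = 2 := by
    refine Subgroup.index_eq_two_iff.2 ⟨⟨σ, hσS⟩, fun b => ?_⟩
    have hiff : ∀ s ∈ S, (s ∈ K ↔ s • A = A) := fun s hs =>
      ⟨fun h => h.2, fun h => ⟨hs, h⟩⟩
    rw [Subgroup.mem_subgroupOf, Subgroup.mem_subgroupOf, hiff _ (b * ⟨σ, hσS⟩ : S).2, hiff _ b.2,
      Subgroup.coe_mul, mul_smul, hσA]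
    rcases hSA b b.2 with h | h
    · exact Or.inr ⟨h.1, fun h' => hAB (h'.symm.trans h.2)⟩
    · exact Or.inl ⟨h.2, fun h' => hAB (h'.symm.trans h.1)⟩
  have hK8 : Nat.card K = 8 := by
    have h := (K.subgroupOf S).index_mul_card
    have hle : K ≤ S := inf_le_left
    rw [hidx, Nat.card_congr (Subgroup.subgroupOfEquivOfLe hle).toEquiv, hS] at h
    omega
  -- the only involution of `K` is `w`
  have hinvol : ∀ v ∈ K, v * v = 1 → v = 1 ∨ v = w := by
    let X := {v : K // (v : G) * v = 1 ∧ (v : G) ≠ 1 ∧ (v : G) ≠ w}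
    letI : MulAction (Subgroup.zpowers x) X :=
      { smul := fun g v => ⟨g • v.1, by
          refine ⟨?_, ?_, ?_⟩
          · show (g : G) * v.1 * (g : G)⁻¹ * ((g : G) * v.1 * (g : G)⁻¹) = 1
            rw [show (g : G) * v.1 * (g : G)⁻¹ * ((g : G) * v.1 * (g : G)⁻¹) =
              (g : G) * ((v.1 : G) * v.1) * (g : G)⁻¹ by group, v.2.1]
            group
          · show (g : G) * v.1 * (g : G)⁻¹ ≠ 1
            rw [Ne, conj_eq_one_iff]; exact v.2.2.1
          · show (g : G) * v.1 * (g : G)⁻¹ ≠ w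
            intro e
            apply v.2.2.2
            have hg := Subgroup.mem_centralizer_singleton_iff.1 (hX g g.2)
            calc (v.1 : G) = (g : G)⁻¹ * ((g : G) * v.1 * (g : G)⁻¹) * g := by group
              _ = (g : G)⁻¹ * (w * g) := by rw [e, mul_assoc]
              _ = w := by rw [← hg, inv_mul_cancel_left]⟩
        one_smul := fun v => Subtype.ext (one_smul _ v.1)
        mul_smul := fun a b v => Subtype.ext (mul_smul a b v.1) }
    have hX0 : Nat.card X % 3 = 0 := by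
      have h := hp3.card_modEq_card_fixedPoints X
      haveI : IsEmpty (MulAction.fixedPoints (Subgroup.zpowers x) X) := ⟨fun v => by
        rcases hfixed v.1.1 (fun g => congrArg Subtype.val (v.2 g)) with h' | h'
        · exact v.1.2.2.1 h'
        · exact v.1.2.2.2 h'⟩
      rw [Nat.card_of_isEmpty (α := MulAction.fixedPoints (Subgroup.zpowers x) X)] at h
      exact h
    have hodd := odd_card_involutions (H := K) (by rw [hK8]; norm_num)
    haveI : Fintype K := Fintype.ofFinite K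
    have hinvK : ∀ v : K, orderOf v = 2 ↔ (v : G) * v = 1 ∧ (v : G) ≠ 1 := by
      intro v
      rw [← Subgroup.orderOf_coe]
      exact ⟨fun h => ⟨H26.mul_self_of_orderOf_two h, fun e => by rw [e, orderOf_one] at h; norm_num at h⟩,
        fun h => orderOf_eq_prime (by rw [pow_two, h.1]) h.2⟩
    have hcnt : Nat.card {v : K // orderOf v = 2} = Nat.card X + 1 := by
      rw [Nat.card_eq_fintype_card, Nat.card_eq_fintype_card, Fintype.card_subtype, Fintype.card_subtype]
      have hww : (w : G) * w = 1 := H26.mul_self_of_orderOf_two hwo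
      rw [show Finset.univ.filter (fun v : K => orderOf v = 2) = insert (⟨w, hwK⟩ : K)
        (Finset.univ.filter fun v : K => (v : G) * v = 1 ∧ (v : G) ≠ 1 ∧ (v : G) ≠ w) from ?_,
        Finset.card_insert_of_notMem (by simp)]
      ext v
      simp only [Finset.mem_insert, Finset.mem_filter, Finset.mem_univ, true_and, hinvK]
      constructor
      · intro h
        by_cases e : (v : G) = w
        · exact Or.inl (Subtype.ext e)
        · exact Or.inr ⟨h.1, h.2, e⟩
      · rintro (rfl | h)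
        · exact ⟨hww, hw1⟩
        · exact ⟨h.1, h.2.1⟩
    intro v hv hv2
    by_contra hcon
    push Not at hcon
    have hpos : 0 < Nat.card X := Finite.card_pos_iff.2 ⟨⟨⟨v, hv⟩, hv2, hcon.1, hcon.2⟩⟩
    have hle : Nat.card X ≤ 6 := by
      have h1 : Nat.card {v : K // orderOf v = 2} < Nat.card K := by
        rw [Nat.card_eq_fintype_card, Nat.card_eq_fintype_card]
        exact Fintype.card_subtype_lt (x := (1 : K)) (by simp)
      rw [hK8, hcnt] at h1
      omega
    rw [hcnt] at hodd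
    obtain ⟨j, hj⟩ := hodd
    have h6 : Nat.card X = 6 := by omega
    -- then `K` is elementary abelian
    have hall2 : ∀ k : K, (k : G) * k = 1 := by
      by_contra hne
      push Not at hne
      obtain ⟨k, hk⟩ := hne
      have h1 : Nat.card {v : K // (v : G) * v = 1} ≤ 7 := by
        have := Fintype.card_subtype_lt (p := fun v : K => (v : G) * v = 1) (x := k) hk
        rw [← Nat.card_eq_fintype_card, ← Nat.card_eq_fintype_card, hK8] at this
        omega
      have h2 : Nat.card {v : K // orderOf v = 2} + 1 ≤ Nat.card {v : K // (v : G) * v = 1} := by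
        rw [Nat.card_eq_fintype_card, Nat.card_eq_fintype_card]
        exact Fintype.card_lt_of_injective_of_notMem
          (fun v => ⟨v.1, ((hinvK v.1).1 v.2).1⟩) (fun a b h => Subtype.ext (congrArg Subtype.val h :))
          (b := ⟨1, by simp⟩) (by
            rintro ⟨a, ha⟩
            exact ((hinvK a.1).1 a.2).2 (congrArg (fun z : {v : K // (v : G) * v = 1} => ((z.1 : K) : G)) ha))
      omega
    have hcomm : ∀ d ∈ K, Commute d v := by
      intro d hd
      have e : ∀ {a : G}, a ∈ K → a⁻¹ = a := fun {a} ha =>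
        inv_eq_of_mul_eq_one_right (hall2 ⟨a, ha⟩)
      have h := e (mul_mem hd hv)
      rw [mul_inv_rev, e hd, e hv] at h
      exact h.symm
    have hvo : orderOf v = 2 := orderOf_eq_prime (by rw [pow_two, hv2]) hcon.1
    have hvinv := inverts_of_central hG P (fun k hk => hk.1.2 : K ≤ M) (by rw [hK8]) hv hvo hcomm
    obtain ⟨q, hq, hqw⟩ := isConj_inverter hG P hwinv hvinv
    have hvw : Commute v w := Subgroup.mem_centralizer_singleton_iff.1 hv.1.1
    have hq2 : q ^ 2 * w = v := by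
      rw [← hqw]
      calc q ^ 2 * w = q * (w * q⁻¹ * w⁻¹) * w := by rw [hwinv _ (inv_mem hq), inv_inv, pow_two]
        _ = q * w * q⁻¹ := by group
    have h1 : w * q ^ 2 * w⁻¹ = q ^ 2 := by
      have hww : w⁻¹ = w := inv_eq_of_mul_eq_one_right (H26.mul_self_of_orderOf_two hwo)
      calc w * q ^ 2 * w⁻¹ = w * v * w⁻¹ * w⁻¹ := by rw [← hq2]; group
        _ = v * w⁻¹ := by rw [← hvw.eq, mul_inv_cancel_right]
        _ = q ^ 2 := by rw [← hq2, mul_inv_cancel_right]
    rw [hwinv _ (pow_mem hq 2)] at h1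
    have h2 := eq_one_of_sq hG (pow_mem hq 2) (mul_eq_one_iff_eq_inv.2 h1.symm)
    rw [h2, one_mul] at hq2
    exact hcon.2 hq2.symm
  -- freeness on `P`
  have hfree : ∀ q ∈ (P : Subgroup G), q ≠ 1 → ∀ k ∈ K, k * q * k⁻¹ = q → k = 1 := by
    intro q hq hq1 k hk hkq
    set F := K ⊓ Subgroup.centralizer ({q} : Set G)
    have h1 : Nat.card F ∣ 8 := hK8 ▸ Subgroup.card_dvd_of_le inf_le_left
    have h2 : Nat.card F ∣ 18 := (card_centralizer_three_elem hG P hq hq1).1 ▸
      Subgroup.card_dvd_of_le inf_le_right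
    have h3 : Nat.card F ∣ 2 := Nat.dvd_gcd h1 h2
    have hkF : k ∈ F := ⟨hk, Subgroup.mem_centralizer_singleton_iff.2 (mul_inv_eq_iff_eq_mul.1 hkq)⟩
    have hk2 : k * k = 1 := by
      rw [← pow_two]
      exact orderOf_dvd_iff_pow_eq_one.1 ((Subgroup.orderOf_dvd_natCard F hkF).trans h3)
    rcases hinvol k hk hk2 with h | h
    · exact h
    · exfalso
      rw [h, hwinv q hq] at hkq
      exact hq1 (eq_one_of_sq hG hq (mul_eq_one_iff_eq_inv.2 hkq.symm))
  have htrans : ∀ q ∈ (P : Subgroup G), q ≠ 1 → ∀ p ∈ (P : Subgroup G), p ≠ 1 →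
      ∃ k ∈ K, k * q * k⁻¹ = p := by
    intro q hq hq1 p hp hp1
    have hsub : ∀ k : K, (k : G) * q * (k : G)⁻¹ ∈ (P : Subgroup G) := fun k =>
      (Subgroup.mem_normalizer_iff.1 k.2.1.2 q).1 hq
    let f : K → {a : (P : Subgroup G) // a ≠ 1} := fun k => ⟨⟨_, hsub k⟩, fun e => hq1 (by
      have := congrArg Subtype.val e
      exact conj_eq_one_iff.1 this)⟩
    have hinj : Function.Injective f := by
      intro a b hab
      have h : (a : G) * q * (a : G)⁻¹ = (b : G) * q * (b : G)⁻¹ :=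
        congrArg (fun z : {a : (P : Subgroup G) // a ≠ 1} => ((z.1 : (P : Subgroup G)) : G)) hab
      refine Subtype.ext (inv_mul_eq_one.1 (hfree q hq hq1 _ (mul_mem (inv_mem b.2) a.2) ?_)).symm
      calc (b : G)⁻¹ * a * q * ((b : G)⁻¹ * a)⁻¹ = (b : G)⁻¹ * ((a : G) * q * (a : G)⁻¹) * b := by group
        _ = q := by rw [h]; group
    haveI : Fintype (P : Subgroup G) := Fintype.ofFinite _
    have hcard : Nat.card {a : (P : Subgroup G) // a ≠ 1} = 8 := by
      rw [Nat.card_eq_fintype_card, Fintype.card_subtype_compl, Fintype.card_subtype_eq,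
        ← Nat.card_eq_fintype_card, card_nine hG]
    obtain ⟨k, hk⟩ := ((Nat.bijective_iff_injective_and_card f).2 ⟨hinj, hK8.trans hcard.symm⟩).2
      ⟨⟨p, hp⟩, fun e => hp1 (congrArg Subtype.val e)⟩
    exact ⟨k, k.2, congrArg (fun z : {a : (P : Subgroup G) // a ≠ 1} => ((z.1 : (P : Subgroup G)) : G)) hk⟩
  have hreg : ∀ Q, Q ≠ P → ∀ q ∈ (P : Subgroup G), q • Q = Q → q = 1 := by
    intro Q hQ q hq h
    by_contra hq1
    exact hQ ((card_centralizer_three_elem hG P hq hq1).2 Q ((smul_eq_iff hG hq Q).1 h))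
  refine ⟨A, B, w, σ, K, ⟨hw, hwA, hwB, hAP, hBP, hAB, hSP σ hσS, hσA, hσB, hK8, hfixK, htrans,
    hreg A hAP, hreg B hBP, ?_, ?_⟩⟩
  · intro q hq hqA
    have h' : Inverts (q⁻¹ * w * q) A := by
      have := hwB.smul q⁻¹
      rwa [← hqA, inv_smul_smul, inv_inv] at this
    have hP' : Inverts (q⁻¹ * w * q) P := by
      have := hw.smul q⁻¹
      rwa [Sylow.smul_eq_iff_mem_normalizer.2 (Subgroup.le_normalizer (inv_mem hq)), inv_inv] at this
    -- both invert `P` and `A`, so their product is trivial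
    obtain ⟨p, hp, hpw⟩ := isConj_inverter hG P hwinv hP'.2
    have hpp : p ^ 2 = q⁻¹ * w * q * w⁻¹ := by
      rw [← hpw]
      calc p ^ 2 = p * (w * p⁻¹ * w⁻¹) := by rw [hwinv _ (inv_mem hp), inv_inv, pow_two]
        _ = p * w * p⁻¹ * w⁻¹ := by group
    have hpA : p ^ 2 ∈ (A : Subgroup G) := by
      rw [hpp, conj_eq_iff_mem hG A]
      intro a ha
      have h1 : w⁻¹ * a * w = a⁻¹ := by
        calc w⁻¹ * a * w = w⁻¹ * (w * a⁻¹ * w⁻¹) * w := by rw [hwA.2 _ (inv_mem ha), inv_inv]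
          _ = a⁻¹ := by group
      rw [show q⁻¹ * w * q * w⁻¹ * a * (q⁻¹ * w * q * w⁻¹)⁻¹ =
        q⁻¹ * w * q * (w⁻¹ * a * w) * (q⁻¹ * w * q)⁻¹ by group, h1, h'.2 _ (inv_mem ha), inv_inv]
    have h2 : p ^ 2 = 1 := hreg A hAP _ (pow_mem hp 2) ((smul_eq_iff hG (pow_mem hp 2) A).2 hpA)
    rw [h2, eq_comm, mul_inv_eq_one] at hpp
    have hqw : w * q * w⁻¹ = q := mul_inv_eq_iff_eq_mul.2 (by
      calc w * q = q * (q⁻¹ * w * q) := by group
        _ = q * w := by rw [hpp])
    rw [hwinv q hq] at hqw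
    have hq1 := eq_one_of_sq hG hq (mul_eq_one_iff_eq_inv.2 hqw.symm)
    rw [hq1, one_smul] at hqA
    exact hAB hqA
  · rintro Q ⟨hne, v, hvP, hvQ⟩
    obtain ⟨q, hq, hqv⟩ := isConj_inverter hG P hwinv hvP.2
    have h' := hvQ.smul q⁻¹
    rw [inv_inv, show q⁻¹ * v * q = w by rw [← hqv]; group] at h'
    have hqP : q • P = P := Sylow.smul_eq_iff_mem_normalizer.2 (Subgroup.le_normalizer hq)
    rcases hcases _ h' with h | h | h <;> rw [inv_smul_eq_iff] at h
    · exact absurd (h.trans hqP).symm hne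
    · exact ⟨q, hq, Or.inl h⟩
    · exact ⟨q, hq, Or.inr h⟩

end Cfsg.Agent.H69.M11
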