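import Cfsg.Agent.H69.M11.Normalizer

/-!
The Sylow 3-subgroups of a simple group of order 7920 form a TI-set; small facts on involutions.
-/

set_option autoImplicit false

namespace Cfsg.Agent.H69.M11

open Subgroup MulAction

variable {G : Type*} [Group G] [Finite G]

theorem isConj_three (hG : Cfsg.IsM11 G) (P : Sylow 3 G) {x y : G} (hx : x ∈ (P : Subgroup G))
    (hx1 : x ≠ 1) (hy : y ∈ (P : Subgroup G)) (hy1 : y ≠ 1) : IsConj x y :=
  let ⟨m, _, hm⟩ := (card_fix hG P hx hx1).2 y hy hy1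
  isConj_iff.2 ⟨m, hm⟩

/-- An element of order dividing 9 fixes a Sylow 3-subgroup iff it lies in it. -/
theorem smul_eq_iff (hG : Cfsg.IsM11 G) {P : Sylow 3 G} {q : G} (hq : q ∈ (P : Subgroup G))
    (Q : Sylow 3 G) : q • Q = Q ↔ q ∈ (Q : Subgroup G) :=
  ⟨fun h => mem_sylow_of_smul_eq (k := 2)
      (by simpa using orderOf_dvd_iff_pow_eq_one.1 (orderOf_dvd_nine hG P hq)) Q h,
    fun h => Sylow.smul_eq_iff_mem_normalizer.2 (Subgroup.le_normalizer h)⟩

/-- The centralizer of an element of order 3 has order 18. -/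
theorem card_centralizer_three_elem (hG : Cfsg.IsM11 G) (P : Sylow 3 G) {x : G}
    (hx : x ∈ (P : Subgroup G)) (hx1 : x ≠ 1) :
    Nat.card (Subgroup.centralizer ({x} : Set G)) = 18 ∧
      ∀ Q : Sylow 3 G, x ∈ (Q : Subgroup G) → Q = P := by
  classical
  obtain ⟨hn, -⟩ := orbit_centralizer hG P hx hx1
  obtain ⟨hmul, -⟩ := orbit_count P (le_centralizer_singleton hG P hx)
  rw [(card_fix hG P hx hx1).1] at hmul
  set n := (MulAction.orbit (Subgroup.centralizer ({x} : Set G)) P).ncard with hn'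
  -- the Sylow 3-subgroups containing `x`
  have hset : ∀ Q : Sylow 3 G, x ∈ (Q : Subgroup G) ↔
      Q ∈ MulAction.orbit (Subgroup.centralizer ({x} : Set G)) P := by
    intro Q
    constructor
    · exact fun h => mem_orbit_of_le (le_centralizer_singleton hG P hx) (le_centralizer_singleton hG Q h)
    · rintro ⟨⟨c, hc⟩, rfl⟩
      show x ∈ ((c • P : Sylow 3 G) : Subgroup G)
      rw [Sylow.coe_subgroup_smul, Subgroup.mem_smul_pointwise_iff_exists]
      refine ⟨x, hx, ?_⟩
      show c * x * c⁻¹ = x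
      rw [Subgroup.mem_centralizer_singleton_iff.1 hc, mul_inv_cancel_right]
  haveI : Fintype (P : Subgroup G) := Fintype.ofFinite _
  haveI : Fintype (Sylow 3 G) := Fintype.ofFinite _
  haveI : Fintype (MulAction.orbitRel.Quotient (P : Subgroup G) (Sylow 3 G)) := Fintype.ofFinite _
  have h55 : Fintype.card (Sylow 3 G) = 55 := by
    have := card_sylow_mul hG P
    rw [card_normalizer_three hG P] at this
    rw [← Nat.card_eq_fintype_card]; omega
  -- every nontrivial element of `P` lies in `n` of them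
  have hall : ∀ q ∈ (P : Subgroup G), q ≠ 1 →
      (Finset.univ.filter fun Q : Sylow 3 G => q ∈ (Q : Subgroup G)).card = n := by
    intro q hq hq1
    obtain ⟨m, hm, rfl⟩ := (card_fix hG P hx hx1).2 q hq hq1
    rw [hn', ← Nat.card_coe_set_eq, ← Fintype.card_subtype, ← Nat.card_eq_fintype_card]
    refine Nat.card_congr ((MulAction.toPerm m⁻¹).subtypeEquiv fun Q => ?_)
    rw [← hset]
    show m * x * m⁻¹ ∈ (Q : Subgroup G) ↔ x ∈ ((m⁻¹ • Q : Sylow 3 G) : Subgroup G)
    rw [Sylow.coe_subgroup_smul, Subgroup.mem_pointwise_smul_iff_inv_smul_mem]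
    simp [MulAut.smul_def]
  have hsum := MulAction.sum_card_fixedBy_eq_card_orbits_mul_card_group (P : Subgroup G) (Sylow 3 G)
  rw [← Nat.card_eq_fintype_card (α := (P : Subgroup G)), card_nine hG] at hsum
  have hfix : ∀ q : (P : Subgroup G), Fintype.card (MulAction.fixedBy (Sylow 3 G) q) =
      (Finset.univ.filter fun Q : Sylow 3 G => (q : G) ∈ (Q : Subgroup G)).card := by
    intro q
    rw [← Fintype.card_subtype]
    exact Fintype.card_congr (Equiv.subtypeEquivRight fun Q => smul_eq_iff hG q.2 Q)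
  have hval : ∑ q : (P : Subgroup G), Fintype.card (MulAction.fixedBy (Sylow 3 G) q) = 55 + 8 * n := by
    rw [← Finset.add_sum_erase _ _ (Finset.mem_univ (1 : (P : Subgroup G))), hfix,
      Finset.sum_const_nat (m := n) fun q hq => ?_, Finset.card_erase_of_mem (Finset.mem_univ _),
      Finset.card_univ, ← Nat.card_eq_fintype_card (α := (P : Subgroup G)), card_nine hG]
    · rw [Finset.filter_true_of_mem fun Q _ => by simp, Finset.card_univ, h55]
    · rw [hfix]
      exact hall q q.2 fun e => (Finset.mem_erase.1 hq).1 (Subtype.ext e)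
  rw [hval] at hsum
  have h1 : n = 1 := by
    simp only [Finset.mem_insert, Finset.mem_singleton] at hn
    rcases hn with h | h | h <;> rw [h] at hsum ⊢ <;> omega
  refine ⟨by rw [← hmul, h1, one_mul], fun Q hQ => ?_⟩
  obtain ⟨R, hR⟩ := Set.ncard_eq_one.1 (hn'.symm.trans h1)
  have e1 := (hset Q).1 hQ
  have e2 := (hset P).1 hx
  rw [hR, Set.mem_singleton_iff] at e1 e2
  rw [e1, e2]

/-- A central involution of a subgroup of order divisible by 8 of `N(P)` inverts `P`. -/
theorem inverts_of_central (hG : Cfsg.IsM11 G) (P : Sylow 3 G) {D : Subgroup G}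
    (hD : D ≤ Subgroup.normalizer ((P : Subgroup G) : Set G)) (h8 : 8 ∣ Nat.card D) {z : G}
    (hz : z ∈ D) (hzo : orderOf z = 2) (hzc : ∀ d ∈ D, Commute d z) :
    ∀ q ∈ (P : Subgroup G), z * q * z⁻¹ = q⁻¹ := by
  classical
  by_contra hnot
  push Not at hnot
  have hz1 : z ≠ 1 := fun e => by rw [e, orderOf_one] at hzo; norm_num at hzo
  have h3 := exists_fixed hG P (hD hz) (H26.mul_self_of_orderOf_two hzo) hz1 hnot
  haveI : Fact (Nat.Prime 3) := ⟨Nat.prime_three⟩
  obtain ⟨f₀, hf₀⟩ := exists_prime_orderOf_dvd_card' 3 (dvd_of_eq h3.symm)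
  have hf : orderOf (f₀ : G) = 3 := by rw [Subgroup.orderOf_coe, hf₀]
  have hf1 : (f₀ : G) ≠ 1 := fun e => by rw [e, orderOf_one] at hf; norm_num at hf
  have hDF : D ≤ Subgroup.normalizer (Subgroup.zpowers (f₀ : G) : Set G) := by
    intro d hd
    refine mem_normalizer_zpowers (eq_or_eq_inv_of_card_three h3 f₀.2 hf1 ?_ ?_)
    · refine ⟨(Subgroup.mem_normalizer_iff.1 (hD hd) _).1 f₀.2.1,
        Subgroup.mem_centralizer_singleton_iff.2 ?_⟩
      have hz' : Commute (f₀ : G) z := Subgroup.mem_centralizer_singleton_iff.1 f₀.2.2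
      exact ((hzc d hd).mul_left hz').mul_left (hzc d hd).inv_left
    · rwa [Ne, conj_eq_one_iff]
  have hd36 : Nat.card D ∣ 18 * (3 - 1) := by
    refine (Subgroup.card_dvd_of_le hDF).trans ?_
    have := card_normalizer_dvd (q := 3) (Subgroup.zpowers (f₀ : G)) (by rw [Nat.card_zpowers, hf])
    rwa [centralizer_eq_of_zpowers rfl, (card_centralizer_three_elem hG P f₀.2.1 hf1).1] at this
  have := h8.trans hd36
  norm_num at this

/-- The centralizer in `N(P)` of an inverting involution has order 16. -/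
theorem card_centralizer_inverter (hG : Cfsg.IsM11 G) (P : Sylow 3 G) {w : G}
    (hwM : w ∈ Subgroup.normalizer ((P : Subgroup G) : Set G))
    (hwinv : ∀ q ∈ (P : Subgroup G), w * q * w⁻¹ = q⁻¹) :
    Nat.card ↥(Subgroup.centralizer ({w} : Set G) ⊓ Subgroup.normalizer ((P : Subgroup G) : Set G)) = 16 := by
  classical
  set M := Subgroup.normalizer ((P : Subgroup G) : Set G) with hMdef
  set w' : M := ⟨w, hwM⟩
  have hcl := card_centralizer_mul_class w'
  rw [card_normalizer_three hG P] at hcl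
  have hrw' : ∀ q ∈ (P : Subgroup G), q * w * q⁻¹ = q ^ 2 * w := fun q hq => by
    calc q * w * q⁻¹ = q * (w * q⁻¹ * w⁻¹) * w := by group
      _ = q ^ 2 * w := by rw [hwinv _ (inv_mem hq), inv_inv, pow_two]
  have h9 : Nat.card {g : M // IsConj w' g} = 9 := by
    rw [← card_nine hG P]
    refine (Nat.card_congr (Equiv.ofBijective (fun q : (P : Subgroup G) =>
      (⟨(⟨q.1, Subgroup.le_normalizer q.2⟩ : M) * w' * (⟨q.1, Subgroup.le_normalizer q.2⟩ : M)⁻¹,
        isConj_iff.2 ⟨_, rfl⟩⟩ : {g : M // IsConj w' g})) ⟨?_, ?_⟩)).symm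
    · intro p q he
      have he' : (p : G) * w * (p : G)⁻¹ = (q : G) * w * (q : G)⁻¹ :=
        congrArg (fun g : {g : M // IsConj w' g} => ((g.1 : M) : G)) he
      rw [hrw' p p.2, hrw' q q.2] at he'
      have h2 := congrArg (· ^ 5) (mul_right_cancel he')
      simp only [← pow_mul, pow_ten hG p.2, pow_ten hG q.2] at h2
      exact Subtype.ext h2
    · rintro ⟨g, hg⟩
      obtain ⟨m, hm⟩ := isConj_iff.1 hg
      have hinv : ∀ q ∈ (P : Subgroup G), (g : G) * q * (g : G)⁻¹ = q⁻¹ := by
        intro q hq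
        have hq' : (m : G)⁻¹ * q * (m : G) ∈ (P : Subgroup G) :=
          (Subgroup.mem_normalizer_iff.1 m.2 _).2 (by
            rw [show (m : G) * ((m : G)⁻¹ * q * (m : G)) * (m : G)⁻¹ = q by group]; exact hq)
        rw [← hm]
        show (m : G) * w * (m : G)⁻¹ * q * ((m : G) * w * (m : G)⁻¹)⁻¹ = q⁻¹
        rw [show (m : G) * w * (m : G)⁻¹ * q * ((m : G) * w * (m : G)⁻¹)⁻¹ =
          (m : G) * (w * ((m : G)⁻¹ * q * (m : G)) * w⁻¹) * (m : G)⁻¹ by group, hwinv _ hq']
        group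
      obtain ⟨q, hq, hq'⟩ := isConj_inverter hG P hwinv hinv
      exact ⟨⟨q, hq⟩, Subtype.ext (Subtype.ext hq')⟩
  rw [h9] at hcl
  have h : Nat.card (Subgroup.centralizer ({w'} : Set M)) = 16 := by omega
  rw [← h, ← Subgroup.card_map_of_injective (K := Subgroup.centralizer ({w'} : Set M))
    (Subgroup.subtype_injective M)]
  refine congrArg (fun H : Subgroup G => Nat.card H) ?_
  ext g
  constructor
  · rintro ⟨hg, hgM⟩
    exact ⟨⟨g, hgM⟩, Subgroup.mem_centralizer_singleton_iff.2
      (Subtype.ext (Subgroup.mem_centralizer_singleton_iff.1 hg)), rfl⟩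
  · rintro ⟨a, ha, rfl⟩
    exact ⟨Subgroup.mem_centralizer_singleton_iff.2
      (congrArg Subtype.val (Subgroup.mem_centralizer_singleton_iff.1 ha) :), a.2⟩

end Cfsg.Agent.H69.M11
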